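import Cfsg.Agent.KFacts.TwESix.Btw
import Cfsg.Agent.KFacts.TwESix.Tor
import Cfsg.Agent.Nodes.LeviDec
import Cfsg.Agent.KFacts.TwESix.OutTwo
import Cfsg.Agent.H6.QO.Frame
import Cfsg.Agent.H6.ORE.LargeOre
import Cfsg.Agent.H928.Ore.TwS_m3
import Cfsg.Agent.H75.QO.Red_m3
import Mathlib
import Cfsg.Agent.Nodes.Comb
import Cfsg.Agent.OddHalf.Quat.KTwoOf_m3
import Cfsg.Agent.Nodes.CardSup_m3
import Cfsg.Agent.H62.PPIdx
import Cfsg.Agent.H181.TC.Main
import Cfsg.Agent.ClassicalGeometry.GenReflections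
import Cfsg.Agent.Lib.Hoist
import Cfsg.Agent.Nodes.RGDTwActE6
import Cfsg.Agent.KFacts.TwESix.Comb
import Cfsg.Agent.Lib.FinFast
import Cfsg.Agent.H631.Fpf.CardTw
import Cfsg.Agent.H866.OZ.KawTwo
import Cfsg.Agent.BabyM.TZeroE_m3
import Cfsg.Agent.Lib.ListFast
import Cfsg.Agent.SporadicStructure.UnitTwo
import Cfsg.Agent.S0279
import Cfsg.Agent.TwoESix.LeviHyp_m3
import Cfsg.Agent.KFacts.RgdTI
import Cfsg.Agent.UGT.U2.FOne.TwESixEnd
import Cfsg.Agent.Lib.ComponentSolvable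
import Cfsg.Agent.SignalizersComponents.SLQuasisimple
import Cfsg.Agent.LThreeTwE6.Par
import Cfsg.Agent.FastGrp
import Cfsg.Agent.Prune
set_option linter.all false

section
prune_inst 0x7ff0bcf88fa88ddfffff7e3ff6d9cff830c08fffe6fff9433f68a1af1bdf030409c56bad8de010fe1f42e23c10b87803f97ecabfe26bdc7ffffd57b41ffbee1fb5e7b50871d78c3406ae0fff03f0770a6a3ffc7affffffffffffffffffffffbeffbdebfeffff

-- part: H326/QS/VP
section
set_option linter.all false
open scoped Cfsg.Agent.FastGrp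

/-!
# Row `²E₆(2)` of `QS`: every nontrivial element of `V` is conjugate to an element of `P \ V`

`R` a root group datum of type `F₄` (Cartan matrix of `Nodes.RGDTwE6`: nodes `0, 1` long), whose long root groups
have order 2; `J = {1, 2, 3}`, `P = PJ`, `V = VJ` its unipotent radical.

* `vp` : for `1 ≠ v ∈ V` there is `y` with `y v y⁻¹ ∈ P \ V`.
-/

set_option autoImplicit false
set_option linter.unusedSectionVars false

namespace Cfsg.Agent.H326.QS.VP

open CoxeterSystem Cfsg.Agent.ChevalleyStructure.CoxeterGeom Cfsg.Agent.Tits.Roots Cfsg.Agent.Tits.Core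
  Cfsg.Agent.Tits.RootComb Cfsg.Agent.Nodes.Reps Cfsg.Agent.Nodes.BNOf Cfsg.Agent.Nodes.Coroot
  Cfsg.Agent.Nodes.StabComb Cfsg.Agent.Nodes.Bruhat Cfsg.Agent.Nodes.OppDec Cfsg.Agent.Nodes.LeviDec
  Cfsg.Agent.KFacts.RgdSL Cfsg.Agent.KFacts.RgdTI Cfsg.Agent.Nodes.RGDTwE6 Cfsg.Agent.KFacts.TwESix.Comb Cfsg.Agent.KFacts.TwESix.Btw
open scoped commutatorElement

variable {W Y : Type*} [Group W] [Group Y] {cs : CoxeterSystem CoxeterMatrix.F₄ W} {p : ℕ} {T : Subgroup Y}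
  {n : Fin 4 → Y} {X : (Fin 4 → ℤ) → Subgroup Y}

/-- the roots with the property `P` -/
def Q (P : (Fin 4 → ℤ) → Prop) : Set (Fin 4 → ℤ) := {x | x ∈ rts ∧ P x}

/-- the simple roots `1, 2, 3` -/
abbrev J : Set (Fin 4) := {1, 2, 3}

theorem not_mem_J {k : Fin 4} : k ∉ J ↔ k = 0 := by
  revert k; decide

theorem NotJ_eq : NotJ cs isCartan J = Q (fun x => 1 ≤ x 0) := by
  ext x
  constructor
  · rintro ⟨hx, -, k, hk, hk0⟩
    rw [not_mem_J] at hk
    subst hk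
    exact ⟨(mem_rts cs).1 hx, hk0⟩
  · rintro ⟨hx, h0⟩
    refine ⟨(mem_rts cs).2 hx, ?_, 0, by decide, h0⟩
    have h1 : ∀ x ∈ rts, 1 ≤ x 0 → ∀ k, 0 ≤ x k := by decide +kernel
    exact fun k => h1 x hx h0 k

theorem RootsJ_eq : RootsJ cs isCartan J = Q (fun x => x 0 = 0) := by
  ext x
  constructor
  · rintro ⟨hx, h1⟩
    exact ⟨(mem_rts cs).1 hx, h1 0 (by decide)⟩
  · rintro ⟨hx, h0⟩
    refine ⟨(mem_rts cs).2 hx, fun k hk => ?_⟩
    rw [not_mem_J] at hk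
    subst hk
    exact h0

theorem cj_root (i : Fin 4) (x : Fin 4 → ℤ) :
    rep cs isCartan (cs.simple i) x = Cfsg.Agent.Nodes.RGDFold.refl A i x := rep_simple_refl cs i x

variable (R : RGD cs isCartan p T n X)

include R

theorem norm_of {x : Fin 4 → ℤ} (hx : x ∈ rts) {P : (Fin 4 → ℤ) → Prop}
    (hP : ∀ y ∈ rts, P y → x = y ∨ (x ≠ -y ∧ ∀ z ∈ rts, bt x y z → P z)) :
    X x ≤ Subgroup.normalizer (RGD.Sup X (Q P) : Set Y) := by
  refine R.le_normalizer ((mem_rts cs).2 hx) ?_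
  rintro y ⟨hy, hPy⟩
  refine ⟨(mem_rts cs).2 hy, ?_⟩
  by_cases hxy : x = y
  · exact Or.inl hxy
  rcases hP y hy hPy with h1 | ⟨h1, h2⟩
  · exact Or.inl h1
  · refine Or.inr ⟨h1, fun z hz => ?_⟩
    obtain ⟨h3, h4⟩ := btwn_spec cs ((mem_rts cs).2 hx) ((mem_rts cs).2 hy) hxy h1 hz
    exact ⟨h3, h2 z h3 h4⟩

/-- splitting off a set of roots -/
theorem split {P P₁ P₂ : (Fin 4 → ℤ) → Prop} (h0 : ∀ x ∈ rts, P x → P₁ x ∨ P₂ x)
    (h1 : ∀ x ∈ rts, P₁ x → ∀ y ∈ rts, P₂ y → x = y ∨ (x ≠ -y ∧ ∀ z ∈ rts, bt x y z → P₂ z))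
    {g : Y} (hg : g ∈ RGD.Sup X (Q P)) :
    ∃ a ∈ RGD.Sup X (Q P₁), ∃ b ∈ RGD.Sup X (Q P₂), g = a * b := by
  have hn : RGD.Sup X (Q P₁) ≤ Subgroup.normalizer (RGD.Sup X (Q P₂) : Set Y) :=
    RGD.Sup_le fun x hx => norm_of R hx.1 (h1 x hx.1 hx.2)
  have h2 : g ∈ ((RGD.Sup X (Q P₁) ⊔ RGD.Sup X (Q P₂) : Subgroup Y) : Set Y) := by
    refine (?_ : RGD.Sup X (Q P) ≤ _) hg
    refine RGD.Sup_le fun z hz => ?_
    rcases h0 z hz.1 hz.2 with h | h
    · exact le_trans (RGD.le_Sup (S := Q P₁) ⟨hz.1, h⟩) le_sup_left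
    · exact le_trans (RGD.le_Sup (S := Q P₂) ⟨hz.1, h⟩) le_sup_right
  rw [Subgroup.coe_mul_of_left_le_normalizer_right _ _ hn, Set.mem_mul] at h2
  obtain ⟨a, ha, b, hb, e⟩ := h2
  exact ⟨a, ha, b, hb, e.symm⟩

theorem conj_Q {w : W} {g : Y} (hg : Rp cs R.nsys w g) {P P' : (Fin 4 → ℤ) → Prop}
    (hP : ∀ x ∈ rts, P x → P' (rep cs isCartan w x)) {a : Y} (ha : a ∈ RGD.Sup X (Q P)) :
    g * a * g⁻¹ ∈ RGD.Sup X (Q P') :=
  conj_mem_Sup R hg (fun x hx => (mem_rts cs).2 hx.1)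
    (fun x hx => (⟨(mem_rts cs).1 (((mem_rts cs).2 hx.1).act w), hP x hx.1 hx.2⟩ :
      rep cs isCartan w x ∈ Q P')) ha

/-- `X x` for the single root `x` -/
theorem Sup_single {x : Fin 4 → ℤ} (hx : x ∈ rts) : RGD.Sup X (Q (fun y => y = x)) = X x := by
  apply le_antisymm
  · refine RGD.Sup_le fun z hz => ?_
    rw [hz.2]
  · exact RGD.le_Sup (S := Q (fun y => y = x)) ⟨hx, rfl⟩

section
variable (h2 : ∀ a ∈ X (sr 0), ∀ b ∈ X (sr 0), a ≠ 1 → b ≠ 1 → a = b)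

include h2

/-- the long root groups have at most one nontrivial element -/
theorem eq_of_long {x : Fin 4 → ℤ} (hx : x ∈ rts) (hl : bf x x = 4) {a b : Y} (ha : a ∈ X x) (hb : b ∈ X x)
    (ha1 : a ≠ 1) (hb1 : b ≠ 1) : a = b := by
  obtain ⟨w, hw⟩ := exists_rep_long cs ((mem_rts cs).2 hx) hl
  obtain ⟨g, hg⟩ := exists_rp cs R.nsys w
  have key : ∀ {c : Y}, c ∈ X x → g⁻¹ * c * g ∈ X (sr 0) := by
    intro c hc
    have h3 := R.conj_mem' hg ((mem_rts cs).2 hx) hc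
    rwa [← hw, rep_inv_apply] at h3
  have h3 := h2 _ (key ha) _ (key hb)
    (fun h => ha1 (by simpa [mul_assoc, mul_eq_one_iff_eq_inv] using h))
    (fun h => hb1 (by simpa [mul_assoc, mul_eq_one_iff_eq_inv] using h))
  exact mul_left_cancel (mul_right_cancel h3)

end

omit R in
theorem eq_of_card {S : Subgroup Y} (hc : Nat.card S = 2) : ∀ a ∈ S, ∀ b ∈ S, a ≠ 1 → b ≠ 1 → a = b := by
  intro a ha b hb ha1 hb1
  obtain ⟨x, y, hxy, hu⟩ := Nat.card_eq_two_iff.1 hc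
  have key : ∀ c : S, c = x ∨ c = y := by
    intro c
    have h3 : c ∈ ({x, y} : Set S) := by rw [hu]; trivial
    simpa using h3
  have h1 : (1 : S) ≠ ⟨a, ha⟩ := fun h => ha1 (congrArg Subtype.val h).symm
  have h2 : (1 : S) ≠ ⟨b, hb⟩ := fun h => hb1 (congrArg Subtype.val h).symm
  have h3 : (⟨a, ha⟩ : S) = ⟨b, hb⟩ := by
    rcases key 1 with e1 | e1 <;> rcases key ⟨a, ha⟩ with e2 | e2 <;> rcases key ⟨b, hb⟩ with e3 | e3 <;>
      simp_all
  exact congrArg Subtype.val h3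

end Cfsg.Agent.H326.QS.VP
end

-- part: H326/QS/VPE
section
set_option linter.all false
open scoped Cfsg.Agent.FastGrp

/-!
# `V → P \ V` in `²E₆(2)`

* `card_X0` : the long root groups of `²E₆(2)` have order 2;
* `vpE` : every nontrivial element of `V` is conjugate to an element of `P \ V`, in `↥(twistedE6 K 2)`.
-/

set_option autoImplicit false
set_option linter.unusedSectionVars false

namespace Cfsg.Agent.H326.QS.VPE

open CoxeterSystem Cfsg.Agent.ChevalleyStructure.CoxeterGeom Cfsg.Agent.Tits.Roots Cfsg.Agent.Tits.Core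
  Cfsg.Agent.Nodes.Reps Cfsg.Agent.Nodes.BNOf Cfsg.Agent.Nodes.StabComb Cfsg.Agent.Nodes.Bruhat
  Cfsg.Agent.Nodes.OppDec Cfsg.Agent.Nodes.LeviDec Cfsg.Agent.KFacts.RgdSL Cfsg.Agent.KFacts.RgdTI
  Cfsg.Agent.Nodes.RGDTwE6 Cfsg.Agent.KFacts.TwESix.Comb Cfsg.Agent.H326.QS.VP
open Cfsg.Agent.Nodes.RGDFoldSL (Fx mem_Fx)
open Cfsg.Lie

universe u

variable {K : Type u} [Field K] [Fintype K] {φ : K →+* K}
variable {W : Type*} [Group W] (cs : CoxeterSystem CoxeterMatrix.F₄ W)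

theorem card_F {q : ℕ} (h2 : q = 2) (hφ : ∀ x, φ x = x ^ q) : Nat.card (Fx φ 1) = 2 := by
  subst h2
  rw [Nat.card_eq_two_iff]
  refine ⟨0, 1, zero_ne_one, ?_⟩
  ext ⟨x, hx⟩
  simp only [Set.mem_insert_iff, Set.mem_singleton_iff, Set.mem_univ, iff_true]
  have h1 : φ x = x := by
    have := mem_Fx.1 hx
    simpa using this
  rw [hφ] at h1
  have h3 : x * (x - 1) = 0 := by linear_combination h1
  rcases mul_eq_zero.1 h3 with h | h
  · left; exact Subtype.ext h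
  · right; exact Subtype.ext (sub_eq_zero.1 h)

theorem card_X0 (hφ : ∀ x, φ x = x ^ 2) (hqq : ∀ t : K, (t ^ 2) ^ 2 = t) : Nat.card ↥(X φ 2 (sr 0)) = 2 := by
  have h1 := Cfsg.Agent.KFacts.TwESix.OutTwo.card_of_coord (Cfsg.Agent.KFacts.TwESix.Out.coordE hφ hqq 0)
  rw [h1]
  exact card_F rfl hφ

end Cfsg.Agent.H326.QS.VPE
end

-- part: H231/QF/Defs
section
set_option linter.all false
open scoped Cfsg.Agent.FastGrp

/-!
# S2491, row F4: noncentral elements of the covers of `²E₆(2)` : definitions and the final assembly (helper231)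

`KK F` = `²E₆(2)` (`|F| = 4`), `RE t` : `t` is a root element (a 2-central involution), `CR g` : `g` commutes with a root element,
`P φ J`, `V φ J`, `Lv φ J` : the parabolic subgroup, its unipotent radical and its Levi subgroup, `j1`, `j3`, ... : all nodes but one
(`P φ j1 = 2^(1+20):U₆(2)`, `P φ j2 = 2^(2+9+18):(S₃ × L₃(4))`, `P φ j3 = 2^(3+4+12+12):(L₃(2) × A₅)`, `P φ j4 = 2^(8+16):Ω₈⁻(2)`).
-/

set_option autoImplicit false

namespace Cfsg.Agent.H231.QF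

open CoxeterSystem Cfsg.Agent.ChevalleyStructure.CoxeterGeom Cfsg.Agent.Tits.Roots Cfsg.Agent.Tits.Core
  Cfsg.Agent.Nodes Cfsg.Agent.Nodes.Reps Cfsg.Agent.Nodes.BNOf Cfsg.Agent.Nodes.RGDLib Cfsg.Agent.Nodes.Bruhat
  Cfsg.Agent.Nodes.OppDec Cfsg.Agent.Nodes.LeviDec Cfsg.Agent.Nodes.StabComb
open Cfsg.Lie Subgroup
open Cfsg.Agent.H51.Mult (PCE)
open Cfsg.Agent.H777.Ore (AllC IsC)

universe u v

/-- `²E₆(2)` -/
abbrev KK (F : Type u) [Field F] : Type u := ↥(twistedE6 F 2)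

/-- the Coxeter system of `F₄` -/
noncomputable abbrev cs : CoxeterSystem CoxeterMatrix.F₄ CoxeterMatrix.F₄.Group := CoxeterMatrix.F₄.toCoxeterSystem

/-- the highest root (nodes `0`, `1` long, `2`, `3` short) -/
def th : Fin 4 → ℤ := ![2, 3, 4, 2]

section

variable {F : Type u} [Field F]

/-- root group -/
noncomputable abbrev X (φ : F →+* F) (z : Fin 4 → ℤ) : Subgroup (KK F) := RGDTwE6.X φ 2 z

/-- unipotent radical -/
noncomputable abbrev V (φ : F →+* F) (J : Set (Fin 4)) : Subgroup (KK F) := VJ cs RGDTwE6.isCartan (X φ) J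

/-- Levi subgroup -/
noncomputable abbrev Lv (φ : F →+* F) (J : Set (Fin 4)) : Subgroup (KK F) :=
  LJ cs RGDTwE6.isCartan (RGDTwE6.T F 2) (X φ) J

/-- parabolic subgroup -/
noncomputable abbrev P (φ : F →+* F) (J : Set (Fin 4)) : Subgroup (KK F) :=
  PJ cs RGDTwE6.isCartan (RGDTwE6.T F 2) (X φ) J

/-- all nodes but the first one -/
def j1 : Set (Fin 4) := {k | k ≠ 0}

def j2 : Set (Fin 4) := {k | k ≠ 1}

def j3 : Set (Fin 4) := {k | k ≠ 2}

def j4 : Set (Fin 4) := {k | k ≠ 3}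

/-- root elements: involutions in the centre of a Sylow 2-subgroup -/
def RE (t : KK F) : Prop := t ≠ 1 ∧ t * t = 1 ∧ 2 ^ 36 ∣ Nat.card (centralizer ({t} : Set (KK F)))

/-- `g` commutes with a root element -/
def CR (g : KK F) : Prop := ∃ t, RE t ∧ g * t = t * g

/-- `g` is conjugate into `P_J` -/
def In (φ : F →+* F) (J : Set (Fin 4)) (g : KK F) : Prop := ∃ x : KK F, x * g * x⁻¹ ∈ P φ J

/-- `g` is conjugate into `P_J \ V_J` -/
def Out (φ : F →+* F) (J : Set (Fin 4)) (g : KK F) : Prop := ∃ x : KK F, x * g * x⁻¹ ∈ P φ J ∧ x * g * x⁻¹ ∉ V φ J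

/-- small centralizer -/
def Sm (g : KK F) : Prop := Nat.card (centralizer ({g} : Set (KK F))) ≤ 1260

end

/-! ### The assembly -/

section

variable {F : Type u} [Field F] {φ : F →+* F} {L : Type v} [Group L] {π : L →* KK F}

theorem isC_conj {g : L} (x : L) (h : IsC (x * g * x⁻¹)) : IsC g :=
  h.of_isConj (isConj_iff.2 ⟨x, rfl⟩).symm

theorem of_conj (hs : Function.Surjective π) {Q : KK F → Prop} (hQ : ∀ g : L, Q (π g) → IsC g) {g : L} {x : KK F}
    (h : Q (x * π g * x⁻¹)) : IsC g := by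
  obtain ⟨x, rfl⟩ := hs x
  refine isC_conj x (hQ _ ?_)
  rwa [map_mul, map_mul, map_inv]

/-- **The assembly of the row.** -/
theorem nc_of (hs : Function.Surjective π) (hc : π.ker ≤ center L)
    (hp1 : ∀ g : L, π g ∈ P φ j1 → π g ∉ V φ j1 → IsC g)
    (hp4 : ∀ g : L, π g ∈ P φ j4 → π g ∉ V φ j4 → IsC g)
    (hsv : ∀ g : L, π g ≠ 1 → Sm (π g) → IsC g)
    (ht3 : ∀ g : L, π g ≠ 1 → (∃ k : ℕ, (π g) ^ 3 ^ k = 1) → IsC g)
    (hcl : ∀ g : KK F, g ≠ 1 → In φ j1 g ∨ Out φ j4 g ∨ Sm g ∨ ∃ k : ℕ, g ^ 3 ^ k = 1)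
    (hv1 : ∀ g : KK F, g ∈ V φ j1 → g ≠ 1 → Out φ j1 g) : H6.QO.NC L := by
  intro g hg
  have h1 : π g ≠ 1 := fun h => hg (hc h)
  have key : Out φ j1 (π g) → IsC g := by
    rintro ⟨x, hx⟩
    exact of_conj hs (Q := fun y => y ∈ P φ j1 ∧ y ∉ V φ j1) (fun y hy => hp1 y hy.1 hy.2) hx
  rcases hcl _ h1 with h2 | h2 | h2 | h2
  · obtain ⟨x, hx⟩ := h2
    by_cases h3 : x * π g * x⁻¹ ∈ V φ j1
    · refine key ?_
      have h4 : x * π g * x⁻¹ ≠ 1 := by
        intro h5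
        apply h1
        calc π g = x⁻¹ * (x * π g * x⁻¹) * x := by group
          _ = 1 := by rw [h5]; group
      obtain ⟨y, hy⟩ := hv1 _ h3 h4
      refine ⟨y * x, ?_⟩
      have e : y * x * π g * (y * x)⁻¹ = y * (x * π g * x⁻¹) * y⁻¹ := by group
      rw [e]
      exact hy
    · exact key ⟨x, hx, h3⟩
  · obtain ⟨x, hx⟩ := h2
    exact of_conj hs (Q := fun y => y ∈ P φ j4 ∧ y ∉ V φ j4) (fun y hy => hp4 y hy.1 hy.2) hx
  · exact hsv g h1 h2
  · exact ht3 g h1 h2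

end

end Cfsg.Agent.H231.QF
end

-- part: H590/F4/P4
section
prune_inst 0xc4303200002200000000008001003c40c6000100006b8c0054210a4006863f6009002720fc8018035008000400380000004400800000000020000600011c04a180a850000300a10406000f802887500000000000000000000000000000041004200000000
set_option linter.all false
open scoped Cfsg.Agent.FastGrp

-- part: H590/F4/Pair
section
/-!
# Products of two cosets of a special group: all central lifts at once (helper590, row F4 of S2491)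

`N` a finite group with central subgroup `Z`, `N/Z` abelian, `X`, `Y` automorphisms of `N` trivial on
`Z` and fixed point free on `N/Z`.  If for every non-trivial character `χ` of `Z` the form
`χ ∘ [,]` is non-degenerate on `N/Z` and `(|Z| - 1)² |C_{N/Z}(Y⁻¹X)| < |N/Z|`, then for every `m`
there are `u`, `v` with `u (X u)⁻¹ m = v (Y v)⁻¹`.  In a group `Γ ⊵ N` : every `c ∈ x y N` is a product
of an `N`-conjugate of `x` and an `N`-conjugate of `y`.
-/

set_option autoImplicit false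

namespace Cfsg.Agent.H590.F4

universe u

open scoped BigOperators

section core

variable {N : Type u} [Group N]

/-- the bound of a Gauss sum over a finite group -/
theorem gauss_bound [Finite N] [Fintype N] (f : N → ℂ) (hf : ∀ u, ‖f u‖ = 1) (H : N → N → ℂ)
    (hH : ∀ u v, f (u * v) * (starRingEnd ℂ) (f v) = f u * (starRingEnd ℂ) (f 1) * H u v)
    (hm : ∀ u v w, H u (v * w) = H u v * H u w)
    (R : Set N) (hR : ∀ u, (∀ v, H u v = 1) → u ∈ R) :
    ‖∑ u, f u‖ ^ 2 ≤ (Nat.card R : ℝ) * (Fintype.card N : ℝ) := by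
  classical
  have e1 : ((‖∑ u, f u‖ ^ 2 : ℝ) : ℂ) = ∑ u, f u * (starRingEnd ℂ) (f 1) * ∑ v, H u v := by
    have h2 : ((‖∑ u, f u‖ ^ 2 : ℝ) : ℂ) = (∑ u, f u) * (starRingEnd ℂ) (∑ v, f v) := by
      rw [Complex.mul_conj, Complex.normSq_eq_norm_sq]
    rw [h2, map_sum, Finset.mul_sum]
    have h3 : ∀ v, (∑ u, f u) * (starRingEnd ℂ) (f v) = ∑ u, f u * (starRingEnd ℂ) (f 1) * H u v := by
      intro v
      rw [← Equiv.sum_comp (Equiv.mulRight v) f, Finset.sum_mul]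
      refine Finset.sum_congr rfl fun u _ => ?_
      exact hH u v
    simp_rw [h3]
    rw [Finset.sum_comm]
    refine Finset.sum_congr rfl fun u _ => ?_
    rw [Finset.mul_sum]
  have h4 : ∀ u, (∑ v, H u v) = if (∀ v, H u v = 1) then (Fintype.card N : ℂ) else 0 := by
    intro u
    split_ifs with h
    · simp [h]
    · push Not at h
      obtain ⟨w, hw⟩ := h
      have h5 : (∑ v, H u v) = H u w * ∑ v, H u v := by
        conv_lhs => rw [← Equiv.sum_comp (Equiv.mulLeft w) (fun v => H u v)]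
        rw [Finset.mul_sum]
        refine Finset.sum_congr rfl fun v _ => ?_
        exact hm u w v
      have h6 : (1 - H u w) * ∑ v, H u v = 0 := by
        rw [sub_mul, one_mul, ← h5, sub_self]
      rcases mul_eq_zero.1 h6 with h | h
      · exact absurd (sub_eq_zero.1 h).symm hw
      · exact h
  have h7 : ‖∑ u, f u‖ ^ 2 = ‖((‖∑ u, f u‖ ^ 2 : ℝ) : ℂ)‖ := by
    rw [Complex.norm_real, Real.norm_of_nonneg (by positivity)]
  rw [h7, e1]
  refine (norm_sum_le _ _).trans ?_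
  have h8 : ∀ u, ‖f u * (starRingEnd ℂ) (f 1) * ∑ v, H u v‖
      ≤ if (u ∈ R) then (Fintype.card N : ℝ) else 0 := by
    intro u
    rw [norm_mul, norm_mul, hf, RCLike.norm_conj, hf, h4]
    split_ifs with h h' h'
    · simp
    · exact absurd (hR u h) h'
    · simp only [_root_.mul_one, _root_.norm_zero, _root_.MulZeroClass.mul_zero, _root_.Nat.cast_nonneg]
    · simp
  refine (Finset.sum_le_sum fun u _ => h8 u).trans (le_of_eq ?_)
  rw [← Finset.sum_filter, Finset.sum_const, nsmul_eq_mul]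
  congr 2
  rw [Nat.card_eq_fintype_card, Fintype.card_subtype]

/-- the frame: `Z` central with `N/Z` abelian, `X` and `Y` fixed point free on `N/Z` -/
structure Fr (Z : Subgroup N) (X Y : N ≃* N) : Prop where
  cen : ∀ z ∈ Z, ∀ n, z * n = n * z
  com : ∀ a b : N, a * b * a⁻¹ * b⁻¹ ∈ Z
  fX : ∀ z ∈ Z, X z = z
  fY : ∀ z ∈ Z, Y z = z
  inX : ∀ u, u * (X u)⁻¹ ∈ Z → u ∈ Z
  inY : ∀ u, u * (Y u)⁻¹ ∈ Z → u ∈ Z

namespace Fr

variable {Z : Subgroup N} {X Y : N ≃* N}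

theorem normal (h : Fr Z X Y) : Z.Normal :=
  ⟨fun z hz g => by rw [← h.cen z hz g, mul_assoc, mul_inv_cancel, mul_one]; exact hz⟩

theorem symm (h : Fr Z X Y) : Fr Z Y X :=
  ⟨h.cen, h.com, h.fY, h.fX, h.inY, h.inX⟩

/-- the commutator form -/
def B (h : Fr Z X Y) (a b : N) : Z := ⟨a * b * a⁻¹ * b⁻¹, h.com a b⟩

theorem B_coe (h : Fr Z X Y) (a b : N) : ((h.B a b : Z) : N) = a * b * a⁻¹ * b⁻¹ := rfl

theorem zc (h : Fr Z X Y) (z : Z) (n : N) : (z : N) * n = n * z := h.cen z z.2 n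

theorem swap (h : Fr Z X Y) (a b : N) : a * b = h.B a b * (b * a) := by
  rw [B_coe]; group

theorem B_mul_left (h : Fr Z X Y) (a a' b : N) : h.B (a * a') b = h.B a b * h.B a' b := by
  apply Subtype.ext
  rw [Subgroup.coe_mul]
  have e : ((h.B (a * a') b : Z) : N) = a * (h.B a' b : N) * b * a⁻¹ * b⁻¹ := by
    rw [B_coe, B_coe]; group
  rw [e, ← h.zc, B_coe h a b, ← h.zc (h.B a' b) (a * b * a⁻¹ * b⁻¹)]
  simp only [mul_assoc]

theorem B_symm (h : Fr Z X Y) (a b : N) : h.B b a = (h.B a b)⁻¹ := by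
  apply Subtype.ext
  rw [Subgroup.coe_inv, B_coe, B_coe]; group

theorem B_mul_right (h : Fr Z X Y) (a b b' : N) : h.B a (b * b') = h.B a b * h.B a b' := by
  have hz : ∀ p q : Z, p * q = q * p := fun p q => Subtype.ext (h.zc p q)
  rw [B_symm h (b * b') a, B_mul_left, mul_inv_rev, ← B_symm, ← B_symm, hz]

theorem B_one_left (h : Fr Z X Y) (b : N) : h.B 1 b = 1 := by
  apply Subtype.ext; rw [B_coe]; simp

theorem B_inv_left (h : Fr Z X Y) (a b : N) : h.B a⁻¹ b = (h.B a b)⁻¹ := by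
  rw [eq_inv_iff_mul_eq_one, ← B_mul_left, inv_mul_cancel, B_one_left]

theorem B_z_left (h : Fr Z X Y) (z : Z) (b : N) : h.B z b = 1 := by
  apply Subtype.ext; rw [B_coe, h.zc]; simp

theorem B_z_right (h : Fr Z X Y) (z : Z) (b : N) : h.B b z = 1 := by
  rw [B_symm, B_z_left, inv_one]

/-- `u ↦ u (X u)⁻¹` -/
def ρ (_h : Fr Z X Y) (u : N) : N := u * (X u)⁻¹

theorem ρ_surj (h : Fr Z X Y) [Finite N] (n : N) : ∃ v : N, ∃ z : Z, n = z * h.ρ v := by
  classical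
  have hn := h.normal
  let F : N ⧸ Z → N ⧸ Z := fun q => q * (QuotientGroup.map Z Z X.toMonoidHom
    (fun z hz => by
      rw [Subgroup.mem_comap]
      have e : X.toMonoidHom z = z := h.fX z hz
      rw [e]; exact hz) q)⁻¹
  have hF : ∀ u : N, F (u : N ⧸ Z) = ((u * (X u)⁻¹ : N) : N ⧸ Z) := fun u => rfl
  have hinj : Function.Injective F := by
    intro p q
    induction p using QuotientGroup.induction_on with | _ a => ?_
    induction q using QuotientGroup.induction_on with | _ b => ?_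
    intro e
    have e2 : ((b⁻¹ * a : N) : N ⧸ Z) = ((X (b⁻¹ * a) : N) : N ⧸ Z) := by
      have e1 : ((a : N ⧸ Z) * ((X a : N) : N ⧸ Z)⁻¹) = ((b : N ⧸ Z) * ((X b : N) : N ⧸ Z)⁻¹) := e
      have e3 : (b : N ⧸ Z)⁻¹ * a = ((X b : N) : N ⧸ Z)⁻¹ * ((X a : N) : N ⧸ Z) := by
        have e4 : (a : N ⧸ Z) = (b : N ⧸ Z) * ((X b : N) : N ⧸ Z)⁻¹ * ((X a : N) : N ⧸ Z) := by
          rw [← e1]; group
        rw [e4]; group
      rw [map_mul, map_inv]
      exact e3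
    have e5 : (b⁻¹ * a) * (X (b⁻¹ * a))⁻¹ ∈ Z := by
      rw [← QuotientGroup.eq_one_iff]
      show ((b⁻¹ * a : N) : N ⧸ Z) * ((X (b⁻¹ * a) : N) : N ⧸ Z)⁻¹ = 1
      rw [← e2, mul_inv_cancel]
    exact (QuotientGroup.eq.2 (h.inX _ e5)).symm
  have hsurj : Function.Surjective F := Finite.surjective_of_injective hinj
  obtain ⟨q, hq⟩ := hsurj (n : N ⧸ Z)
  induction q using QuotientGroup.induction_on with | _ v => ?_
  rw [hF] at hq
  refine ⟨v, ⟨n * (v * (X v)⁻¹)⁻¹, ?_⟩, ?_⟩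
  · have := QuotientGroup.eq.1 hq
    rw [← h.normal.mem_comm_iff] at this
    exact this
  · show n = n * (v * (X v)⁻¹)⁻¹ * (v * (X v)⁻¹)
    group

theorem ρ_mul (h : Fr Z X Y) (u v : N) :
    h.ρ (u * v) = h.B u (h.ρ v) * h.B (h.ρ v) (h.ρ u) * (h.ρ u * h.ρ v) := by
  have e : h.ρ (u * v) = u * h.ρ v * (X u)⁻¹ := by
    simp only [ρ, map_mul, mul_inv_rev, mul_assoc]
  have e2 : u * h.ρ v * (X u)⁻¹ = h.B u (h.ρ v) * (h.ρ v * h.ρ u) := by
    rw [h.swap u (h.ρ v)]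
    simp only [ρ, mul_assoc]
  rw [e, e2, h.swap (h.ρ v) (h.ρ u)]
  simp only [mul_assoc]

theorem ρ_z (h : Fr Z X Y) (z : Z) : h.ρ z = 1 := by
  show (z : N) * (X z)⁻¹ = 1
  rw [h.fX z z.2, mul_inv_cancel]

theorem uniq (h : Fr Z X Y) {v v' : N} {z z' : Z} (e : (z : N) * h.ρ v = z' * h.ρ v') : z = z' := by
  have e1 : h.ρ v = (z : N)⁻¹ * z' * h.ρ v' := by
    rw [mul_assoc, ← e]; group
  have hw : (v'⁻¹ * v) * (X (v'⁻¹ * v))⁻¹ = (z : N)⁻¹ * z' := by
    have e2 : (v'⁻¹ * v) * (X (v'⁻¹ * v))⁻¹ = v'⁻¹ * h.ρ v * X v' := by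
      simp only [ρ, map_mul, map_inv, mul_inv_rev, inv_inv, mul_assoc]
    rw [e2, e1]
    have e3 := h.zc (z⁻¹ * z') v'⁻¹
    rw [Subgroup.coe_mul, Subgroup.coe_inv] at e3
    rw [← mul_assoc v'⁻¹, ← e3, ρ]
    group
  have hz : (v'⁻¹ * v) * (X (v'⁻¹ * v))⁻¹ ∈ Z := by
    rw [hw]; exact Z.mul_mem (Z.inv_mem z.2) z'.2
  have h1 := h.inX _ hz
  have h2 : (v'⁻¹ * v) * (X (v'⁻¹ * v))⁻¹ = 1 := h.ρ_z ⟨_, h1⟩
  rw [hw] at h2
  exact Subtype.ext (inv_mul_eq_one.1 h2)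

/-- the class label of `n` : `n = β n * ρ (v n)` -/
theorem exists_label (h : Fr Z X Y) [Finite N] :
    ∃ (v : N → N) (β : N → Z), (∀ n, n = β n * h.ρ (v n)) ∧ β 1 = 1 ∧
      (∀ (z : Z) n, β (z * n) = z * β n) ∧
      ∀ a b, β (a * b) = β a * β b * h.B ((v a)⁻¹ * a) b := by
  classical
  choose v β hv using h.ρ_surj
  have hz : ∀ p q : Z, p * q = q * p := fun p q => Subtype.ext (h.zc p q)
  refine ⟨v, β, hv, ?_, ?_, ?_⟩
  · refine h.uniq (v := v 1) (v' := 1) ?_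
    rw [← hv 1]
    simp only [ρ, _root_.OneMemClass.coe_one, _root_.map_one, _root_.inv_one, _root_.mul_one]
  · intro z n
    refine h.uniq (v := v (z * n)) (v' := v n) ?_
    rw [← hv, Subgroup.coe_mul, mul_assoc, ← hv]
  · intro a b
    refine h.uniq (v := v (a * b)) (v' := v a * v b) ?_
    rw [← hv, h.ρ_mul]
    have ha := hv a
    have hb := hv b
    have e1 : h.B (v a) (h.ρ (v b)) = h.B (v a) b := by
      conv_rhs => rw [hb, B_mul_right, B_z_right, one_mul]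
    have e2 : h.B (h.ρ (v b)) (h.ρ (v a)) = h.B b a := by
      conv_rhs => rw [hb]
      rw [B_mul_left, B_z_left, one_mul]
      conv_rhs => rw [ha]
      rw [B_mul_right, B_z_right, one_mul]
    rw [e1, e2]
    have e3 : h.B ((v a)⁻¹ * a) b * (h.B (v a) b * h.B b a) = 1 := by
      rw [B_mul_left, B_inv_left, h.B_symm a b, hz (h.B (v a) b) (h.B a b)⁻¹]
      group
    have e4 : ((β a * β b * h.B ((v a)⁻¹ * a) b : Z) : N) *
        (((h.B (v a) b * h.B b a : Z) : N) * (h.ρ (v a) * h.ρ (v b)))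
        = ((β a * β b : Z) : N) * (h.ρ (v a) * h.ρ (v b)) := by
      rw [← mul_assoc, ← Subgroup.coe_mul, mul_assoc (β a * β b), e3, mul_one]
    have e5 : ((β a * β b : Z) : N) * (h.ρ (v a) * h.ρ (v b)) = a * b := by
      conv_rhs => rw [ha, hb]
      rw [Subgroup.coe_mul, mul_assoc, ← mul_assoc (β b : N), h.zc (β b)]
      simp only [mul_assoc]
    rw [← e5, ← e4]
    rfl

/-- **the core**: every `m` is hit -/
theorem core (h : Fr Z X Y) [Finite N]
    (hnd : ∀ K : Subgroup N, K ≤ Z → K ≠ Z → ∀ r : N, (∀ n, r * n * r⁻¹ * n⁻¹ ∈ K) → r ∈ Z)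
    (hr : (Nat.card Z - 1) ^ 2 * Nat.card {u : N | X u * (Y u)⁻¹ ∈ Z} < Nat.card N) (m : N) :
    ∃ u v, u * (X u)⁻¹ * m = v * (Y v)⁻¹ := by
  classical
  obtain ⟨v, β, hv, hβ1, hβz, hβ⟩ := h.symm.exists_label
  have hz : ∀ p q : Z, p * q = q * p := fun p q => Subtype.ext (h.zc p q)
  let g : N → Z := fun u => β (h.ρ u * m)
  by_cases hex : ∃ u, g u = 1
  · obtain ⟨u, hu⟩ := hex
    refine ⟨u, v (h.ρ u * m), ?_⟩
    have e := hv (h.ρ u * m)
    have hu' : β (h.ρ u * m) = 1 := hu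
    rw [hu', Subgroup.coe_one, one_mul] at e
    exact e
  exfalso
  push Not at hex
  let t : N → N := fun a => (v a)⁻¹ * a
  let r : N → N := fun u => u * (h.ρ u)⁻¹ * t (h.ρ u)
  have hB : ∀ a b, h.symm.B a b = h.B a b := fun a b => rfl
  have hg : ∀ u w, g (u * w) * β m = g u * g w * h.B (r u) (h.ρ w) := by
    intro u w
    have e1 : h.ρ (u * w) * m
        = ((h.B u (h.ρ w) * h.B (h.ρ w) (h.ρ u) : Z) : N) * (h.ρ u * (h.ρ w * m)) := by
      rw [h.ρ_mul, Subgroup.coe_mul]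
      simp only [mul_assoc]
    have e2 : g (u * w) = h.B u (h.ρ w) * h.B (h.ρ w) (h.ρ u) *
        (β (h.ρ u) * β (h.ρ w * m) * h.B (t (h.ρ u)) (h.ρ w * m)) := by
      show β (h.ρ (u * w) * m) = _
      rw [e1, hβz, hβ, hB]
    have e3 : g u = β (h.ρ u) * β m * h.B (t (h.ρ u)) m := by
      show β (h.ρ u * m) = _
      rw [hβ, hB]
    have e4 : g w = β (h.ρ w * m) := rfl
    have e5 : h.B (r u) (h.ρ w) = h.B u (h.ρ w) * h.B (h.ρ w) (h.ρ u) * h.B (t (h.ρ u)) (h.ρ w) := by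
      show h.B (u * (h.ρ u)⁻¹ * t (h.ρ u)) (h.ρ w) = _
      rw [B_mul_left, B_mul_left, B_inv_left, ← B_symm]
    rw [e2, e3, e4, e5, B_mul_right]
    let _ : CommGroup Z := { (inferInstance : Group Z) with mul_comm := hz }
    generalize h.B u (h.ρ w) = a1
    generalize h.B (h.ρ w) (h.ρ u) = a2
    generalize β (h.ρ u) = a3
    generalize β (h.ρ w * m) = a4
    generalize h.B (t (h.ρ u)) (h.ρ w) = a5
    generalize h.B (t (h.ρ u)) m = a6
    generalize β m = a7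
    have e : ∀ a1 a2 a3 a4 a5 a6 a7 : Z, a1 * a2 * (a3 * a4 * (a5 * a6)) * a7
        = a3 * a7 * a6 * a4 * (a1 * a2 * a5) := by
      intro a1 a2 a3 a4 a5 a6 a7
      simp only [mul_comm, mul_left_comm]
    exact e a1 a2 a3 a4 a5 a6 a7
  let _ : Fintype N := Fintype.ofFinite N
  let _ : CommGroup Z := { (inferInstance : Group Z) with mul_comm := hz }
  let _ : Fintype Z := Fintype.ofFinite Z
  let f : AddChar (Additive Z) ℂ → N → ℂ := fun ψ u => ψ (Additive.ofMul (g u))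
  have hρ1 : h.ρ 1 = 1 := by simp [ρ]
  have hg1 : g 1 = β m := by
    show β (h.ρ 1 * m) = β m
    rw [hρ1, one_mul]
  have hbound : ∀ ψ : AddChar (Additive Z) ℂ, ψ ≠ 0 →
      ‖∑ u, f ψ u‖ ^ 2 ≤ (Nat.card {u : N | X u * (Y u)⁻¹ ∈ Z} : ℝ) * (Fintype.card N : ℝ) := by
    intro ψ hψ
    refine gauss_bound (f ψ) (fun u => AddChar.norm_apply ψ _)
      (fun u w => ψ (Additive.ofMul (h.B (r u) (h.ρ w)))) ?_ ?_ _ ?_
    · intro u w
      have e := congrArg (fun t : Z => ψ (Additive.ofMul t)) (hg u w)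
      simp only [ofMul_mul, AddChar.map_add_eq_mul] at e
      show ψ (Additive.ofMul (g (u * w))) * (starRingEnd ℂ) (ψ (Additive.ofMul (g w)))
        = ψ (Additive.ofMul (g u)) * (starRingEnd ℂ) (ψ (Additive.ofMul (g 1)))
          * ψ (Additive.ofMul (h.B (r u) (h.ρ w)))
      rw [hg1]
      have n1 : ψ (Additive.ofMul (g w)) * (starRingEnd ℂ) (ψ (Additive.ofMul (g w))) = 1 := by
        rw [Complex.mul_conj, Complex.normSq_eq_norm_sq, AddChar.norm_apply]; simp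
      have n2 : ψ (Additive.ofMul (β m)) * (starRingEnd ℂ) (ψ (Additive.ofMul (β m))) = 1 := by
        rw [Complex.mul_conj, Complex.normSq_eq_norm_sq, AddChar.norm_apply]; simp
      calc ψ (Additive.ofMul (g (u * w))) * (starRingEnd ℂ) (ψ (Additive.ofMul (g w)))
          = ψ (Additive.ofMul (g (u * w))) * (ψ (Additive.ofMul (β m)) *
              (starRingEnd ℂ) (ψ (Additive.ofMul (β m))))
              * (starRingEnd ℂ) (ψ (Additive.ofMul (g w))) := by rw [n2, mul_one]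
        _ = (ψ (Additive.ofMul (g (u * w))) * ψ (Additive.ofMul (β m))) *
              (starRingEnd ℂ) (ψ (Additive.ofMul (β m)))
              * (starRingEnd ℂ) (ψ (Additive.ofMul (g w))) := by ring
        _ = ψ (Additive.ofMul (g u)) * (starRingEnd ℂ) (ψ (Additive.ofMul (β m)))
              * ψ (Additive.ofMul (h.B (r u) (h.ρ w))) *
              (ψ (Additive.ofMul (g w)) * (starRingEnd ℂ) (ψ (Additive.ofMul (g w)))) := by
            rw [e]; ring
        _ = _ := by rw [n1, mul_one]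
    · intro u a b
      show ψ (Additive.ofMul (h.B (r u) (h.ρ (a * b)))) = ψ (Additive.ofMul (h.B (r u) (h.ρ a)))
        * ψ (Additive.ofMul (h.B (r u) (h.ρ b)))
      rw [← AddChar.map_add_eq_mul, ← ofMul_mul, ← B_mul_right, h.ρ_mul, ← Subgroup.coe_mul,
        B_mul_right, B_z_right, one_mul]
    · intro u hu
      let K0 : Subgroup Z :=
        { carrier := {z | ψ (Additive.ofMul z) = 1}
          one_mem' := by
            show ψ (Additive.ofMul 1) = 1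
            exact AddChar.map_zero_eq_one ψ
          mul_mem' := by
            intro a b ha hb
            show ψ (Additive.ofMul (a * b)) = 1
            have ha' : ψ (Additive.ofMul a) = 1 := ha
            have hb' : ψ (Additive.ofMul b) = 1 := hb
            rw [ofMul_mul, AddChar.map_add_eq_mul, ha', hb', one_mul]
          inv_mem' := by
            intro a ha
            show ψ (Additive.ofMul a⁻¹) = 1
            have ha' : ψ (Additive.ofMul a) = 1 := ha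
            have e : ψ (Additive.ofMul a⁻¹) * ψ (Additive.ofMul a) = 1 := by
              rw [← AddChar.map_add_eq_mul, ← ofMul_mul, inv_mul_cancel]
              exact AddChar.map_zero_eq_one ψ
            rwa [ha', mul_one] at e }
      have hK : K0.map Z.subtype ≠ Z := by
        intro e
        apply hψ
        ext z
        have h1 : ((Additive.toMul z : Z) : N) ∈ K0.map Z.subtype := by
          rw [e]; exact (Additive.toMul z).2
        obtain ⟨z', hz', e'⟩ := h1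
        have e'' : z' = Additive.toMul z := Subtype.ext e'
        rw [e''] at hz'
        exact hz'
      have hru : r u ∈ Z := by
        refine hnd _ ?_ hK (r u) ?_
        · rintro _ ⟨z, -, rfl⟩
          exact z.2
        · intro n
          obtain ⟨w, z, e⟩ := h.ρ_surj n
          refine ⟨h.B (r u) n, ?_, rfl⟩
          show ψ (Additive.ofMul (h.B (r u) n)) = 1
          rw [e, B_mul_right, B_z_right, one_mul]
          exact hu w
      -- `u ≡ v` modulo `Z`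
      show X u * (Y u)⁻¹ ∈ Z
      have hn := h.normal
      let π : N →* N ⧸ Z := QuotientGroup.mk' Z
      have hπ : ∀ a, π a = 1 ↔ a ∈ Z := fun a => QuotientGroup.eq_one_iff a
      have hπz : ∀ z : Z, π z = 1 := fun z => (hπ z).2 z.2
      have hc : ∀ a b, π a * π b = π b * π a := by
        intro a b
        rw [← map_mul, ← map_mul, h.swap a b, map_mul, hπz, one_mul]
      have e1 : π u = π (v (h.ρ u)) := by
        have e4 : π u * (π (v (h.ρ u)))⁻¹ = 1 := by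
          calc π u * (π (v (h.ρ u)))⁻¹
              = π u * (π (h.ρ u))⁻¹ * (π (h.ρ u) * (π (v (h.ρ u)))⁻¹) := by group
            _ = π u * (π (h.ρ u))⁻¹ * ((π (v (h.ρ u)))⁻¹ * π (h.ρ u)) := by
                rw [← map_inv π (v (h.ρ u)), hc]
            _ = π (u * (h.ρ u)⁻¹ * ((v (h.ρ u))⁻¹ * h.ρ u)) := by
                simp only [map_mul, map_inv]
            _ = 1 := (hπ _).2 hru
        exact mul_inv_eq_one.1 e4
      have e5 : π (h.ρ u) = π (v (h.ρ u)) * (π (Y (v (h.ρ u))))⁻¹ := by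
        conv_lhs => rw [hv (h.ρ u)]
        rw [map_mul, hπz, one_mul]
        show π (v (h.ρ u) * (Y (v (h.ρ u)))⁻¹) = _
        rw [map_mul, map_inv]
      have e6 : π (Y (v (h.ρ u))) = π (Y u) := by
        have e7 : (v (h.ρ u))⁻¹ * u ∈ Z := by
          rw [← hπ, map_mul, map_inv, e1, inv_mul_cancel]
        have e8 : Y ((v (h.ρ u))⁻¹ * u) ∈ Z := by
          rw [h.fY _ e7]; exact e7
        rw [← hπ, map_mul, map_mul, map_inv, map_inv] at e8
        exact inv_mul_eq_one.1 e8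
      have e9 : π u * (π (X u))⁻¹ = π u * (π (Y u))⁻¹ := by
        have e10 : π (h.ρ u) = π u * (π (X u))⁻¹ := by
          show π (u * (X u)⁻¹) = _
          rw [map_mul, map_inv]
        rw [← e10, e5, e6, ← e1]
      rw [← hπ, map_mul, map_inv, mul_inv_eq_one]
      exact inv_injective (mul_left_cancel e9)
  -- orthogonality
  have hsum : (∑ ψ : AddChar (Additive Z) ℂ, ∑ u, f ψ u) = 0 := by
    rw [Finset.sum_comm]
    refine Finset.sum_eq_zero fun u _ => ?_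
    show (∑ ψ : AddChar (Additive Z) ℂ, ψ (Additive.ofMul (g u))) = 0
    rw [AddChar.sum_apply_eq_ite, if_neg]
    intro e
    exact hex u (by simpa only [_root_.ofMul_eq_zero] using e)
  have h0 : (∑ u, f 0 u) = (Fintype.card N : ℂ) := by
    simp [f]
  have hsum2 : (Fintype.card N : ℂ) = - ∑ ψ ∈ Finset.univ.erase (0 : AddChar (Additive Z) ℂ), ∑ u, f ψ u := by
    rw [← Finset.add_sum_erase _ _ (Finset.mem_univ (0 : AddChar (Additive Z) ℂ)), h0] at hsum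
    exact eq_neg_of_add_eq_zero_left hsum
  set R : ℝ := (Nat.card {u : N | X u * (Y u)⁻¹ ∈ Z} : ℝ) with hR
  set n : ℝ := (Fintype.card N : ℝ) with hn
  have hnpos : 0 < n := by
    rw [hn]; exact_mod_cast Fintype.card_pos
  have hbound' : ∀ ψ : AddChar (Additive Z) ℂ, ψ ≠ 0 → ‖∑ u, f ψ u‖ ≤ Real.sqrt (R * n) := by
    intro ψ hψ
    exact Real.le_sqrt_of_sq_le (hbound ψ hψ)
  have h3 : n ≤ ((Nat.card Z - 1 : ℕ) : ℝ) * Real.sqrt (R * n) := by
    have e1 : n = ‖(Fintype.card N : ℂ)‖ := by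
      rw [hn]; simp
    have e2 : Fintype.card (Additive Z) = Nat.card Z := by
      rw [← Nat.card_eq_fintype_card]; rfl
    calc n = ‖(Fintype.card N : ℂ)‖ := e1
      _ = ‖∑ ψ ∈ Finset.univ.erase (0 : AddChar (Additive Z) ℂ), ∑ u, f ψ u‖ := by
          rw [hsum2, norm_neg]
      _ ≤ ∑ ψ ∈ Finset.univ.erase (0 : AddChar (Additive Z) ℂ), ‖∑ u, f ψ u‖ := norm_sum_le _ _
      _ ≤ ∑ ψ ∈ Finset.univ.erase (0 : AddChar (Additive Z) ℂ), Real.sqrt (R * n) :=
          Finset.sum_le_sum fun ψ hψ => hbound' ψ (Finset.ne_of_mem_erase hψ)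
      _ = _ := by
          rw [Finset.sum_const, Finset.card_erase_of_mem (Finset.mem_univ _), Finset.card_univ,
            AddChar.card_eq, nsmul_eq_mul, e2]
  have h4 : n ^ 2 ≤ ((Nat.card Z - 1 : ℕ) : ℝ) ^ 2 * (R * n) := by
    have hRn : 0 ≤ R * n := by (clear * -; positivity)
    calc n ^ 2 ≤ (((Nat.card Z - 1 : ℕ) : ℝ) * Real.sqrt (R * n)) ^ 2 := by
          exact pow_le_pow_left₀ hnpos.le h3 2
      _ = _ := by rw [mul_pow, Real.sq_sqrt hRn]
  have h5 : n ≤ ((Nat.card Z - 1 : ℕ) : ℝ) ^ 2 * R := by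
    have : n * n ≤ (((Nat.card Z - 1 : ℕ) : ℝ) ^ 2 * R) * n := by
      calc n * n = n ^ 2 := by ring
        _ ≤ _ := h4
        _ = _ := by ring
    exact le_of_mul_le_mul_right this hnpos
  have h6 : (Nat.card N : ℝ) ≤ (((Nat.card Z - 1) ^ 2 * Nat.card {u : N | X u * (Y u)⁻¹ ∈ Z} : ℕ) : ℝ) := by
    push_cast
    rw [Nat.card_eq_fintype_card (α := N)]
    exact h5
  have h7 := Nat.cast_le.1 h6
  omega

end Fr

end core

end Cfsg.Agent.H590.F4
end

-- part: H590/F4/PairG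
section
/-!
# The pair lemma in a group `Γ ⊵ N` with a second normal subgroup `D` (helper590, row F4 of S2491)

`Z ≤ N` central in `Γ`, `D ≤ Z(N)` normal in `Γ`, `Z ∩ D = 1`, `[N, N] ≤ Z D`; `x`, `y` fixed point free
on `N/Z D`, `x` on `D`; the forms `χ ∘ [,]` non-degenerate on `N/ZD`, `(|Z|-1)² |C_{N/ZD}(xy)| < |N/ZD|`.
Then every `c ∈ x y N` is a product of an `N`-conjugate of `x` and an `N`-conjugate of `y`.
-/

set_option autoImplicit false

namespace Cfsg.Agent.H590.F4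

universe u

section quot

variable {N : Type u} [Group N]

theorem mem_map_mk {Z D : Subgroup N} [D.Normal] (a : N) :
    QuotientGroup.mk' D a ∈ Z.map (QuotientGroup.mk' D) ↔ a ∈ Z ⊔ D := by
  rw [← Subgroup.mem_comap, Subgroup.comap_map_eq, QuotientGroup.ker_mk']

/-- the core with a second central subgroup `D` -/
theorem core_D [Finite N] {Z D : Subgroup N} [hDn : D.Normal] {X Y : N ≃* N}
    (cZ : ∀ z ∈ Z, ∀ n, z * n = n * z) (cD : ∀ d ∈ D, ∀ n, d * n = n * d)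
    (fX : ∀ z ∈ Z, X z = z) (fY : ∀ z ∈ Z, Y z = z) (mX : ∀ d ∈ D, X d ∈ D) (mY : ∀ d ∈ D, Y d ∈ D)
    (com : ∀ a b : N, a * b * a⁻¹ * b⁻¹ ∈ Z ⊔ D)
    (inX : ∀ u, u * (X u)⁻¹ ∈ Z ⊔ D → u ∈ Z ⊔ D) (inY : ∀ u, u * (Y u)⁻¹ ∈ Z ⊔ D → u ∈ Z ⊔ D)
    (dX : ∀ d ∈ D, X d = d → d = 1) (hZD : ∀ a ∈ Z, a ∈ D → a = 1)
    (hnd : ∀ K : Subgroup N, K ≤ Z → K ≠ Z → ∀ r : N, (∀ n, r * n * r⁻¹ * n⁻¹ ∈ K ⊔ D) → r ∈ Z ⊔ D)
    (hr : (Nat.card Z - 1) ^ 2 * Nat.card {u : N | X u * (Y u)⁻¹ ∈ Z ⊔ D} < Nat.card N) (m : N) :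
    ∃ u v, u * (X u)⁻¹ * m = v * (Y v)⁻¹ := by
  classical
  let π := QuotientGroup.mk' D
  have hπs : Function.Surjective π := QuotientGroup.mk'_surjective D
  have hπD : ∀ a, π a = 1 ↔ a ∈ D := fun a => QuotientGroup.eq_one_iff a
  have mapX : ∀ W : N ≃* N, (∀ d ∈ D, W d ∈ D) → D.map W.toMonoidHom = D := by
    intro W hW
    have hle : D.map W.toMonoidHom ≤ D := by
      rintro _ ⟨d, hd, rfl⟩
      exact hW d hd
    refine Subgroup.eq_of_le_of_card_ge hle ?_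
    rw [Nat.card_congr (D.equivMapOfInjective W.toMonoidHom W.injective).toEquiv]
  let X' : (N ⧸ D) ≃* (N ⧸ D) := QuotientGroup.congr D D X (mapX X mX)
  let Y' : (N ⧸ D) ≃* (N ⧸ D) := QuotientGroup.congr D D Y (mapX Y mY)
  have hX' : ∀ a, X' (π a) = π (X a) := fun a => rfl
  have hY' : ∀ a, Y' (π a) = π (Y a) := fun a => rfl
  have hmem : ∀ a, π a ∈ Z.map π ↔ a ∈ Z ⊔ D := mem_map_mk
  have fr : Fr (Z.map π) X' Y' := by
    refine ⟨?_, ?_, ?_, ?_, ?_, ?_⟩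
    · rintro _ ⟨z, hz, rfl⟩ n
      obtain ⟨n, rfl⟩ := hπs n
      rw [← map_mul, cZ z hz, map_mul]
    · intro a b
      obtain ⟨a, rfl⟩ := hπs a
      obtain ⟨b, rfl⟩ := hπs b
      have := (hmem _).2 (com a b)
      simpa only [map_mul, map_inv] using this
    · rintro _ ⟨z, hz, rfl⟩
      rw [hX', fX z hz]
    · rintro _ ⟨z, hz, rfl⟩
      rw [hY', fY z hz]
    · intro u hu
      obtain ⟨u, rfl⟩ := hπs u
      rw [hX', ← map_inv, ← map_mul, hmem] at hu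
      exact (hmem _).2 (inX u hu)
    · intro u hu
      obtain ⟨u, rfl⟩ := hπs u
      rw [hY', ← map_inv, ← map_mul, hmem] at hu
      exact (hmem _).2 (inY u hu)
  have hnd' : ∀ K : Subgroup (N ⧸ D), K ≤ Z.map π → K ≠ Z.map π → ∀ r : N ⧸ D,
      (∀ n, r * n * r⁻¹ * n⁻¹ ∈ K) → r ∈ Z.map π := by
    intro K hK hKne r hr
    obtain ⟨r, rfl⟩ := hπs r
    rw [hmem]
    have hKm : (K.comap π ⊓ Z).map π = K := by
      apply le_antisymm
      · rintro _ ⟨a, ha, rfl⟩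
        exact ha.1
      · intro k hk
        obtain ⟨z, hz, rfl⟩ := hK hk
        exact ⟨z, ⟨hk, hz⟩, rfl⟩
    refine hnd (K.comap π ⊓ Z) inf_le_right ?_ r ?_
    · intro e
      apply hKne
      rw [← hKm, e]
    · intro n
      rw [← mem_map_mk]
      show π _ ∈ (K.comap π ⊓ Z).map π
      rw [hKm]
      have := hr (π n)
      simpa only [map_mul, map_inv] using this
  have cZ' : Nat.card (Z.map π) = Nat.card Z := by
    refine (Nat.card_congr (Equiv.ofBijective (fun z : Z => (⟨π z, ⟨z, z.2, rfl⟩⟩ : Z.map π)) ⟨?_, ?_⟩)).symm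
    · intro a b e
      have e1 : π (a : N) = π (b : N) := congrArg Subtype.val e
      have e2 : ((a : N)⁻¹ * b) ∈ D := by
        rw [← hπD, map_mul, map_inv, e1, inv_mul_cancel]
      have e3 := hZD _ (Z.mul_mem (Z.inv_mem a.2) b.2) e2
      exact Subtype.ext (inv_mul_eq_one.1 e3)
    · rintro ⟨_, z, hz, rfl⟩
      exact ⟨⟨z, hz⟩, rfl⟩
  have hr' : (Nat.card (Z.map π) - 1) ^ 2 * Nat.card {u : N ⧸ D | X' u * (Y' u)⁻¹ ∈ Z.map π}
      < Nat.card (N ⧸ D) := by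
    rw [cZ']
    have hN : Nat.card N = Nat.card (N ⧸ D) * Nat.card D := Subgroup.card_eq_card_quotient_mul_card_subgroup D
    have hpre : Nat.card {u : N | X u * (Y u)⁻¹ ∈ Z ⊔ D}
        = Nat.card {u : N ⧸ D | X' u * (Y' u)⁻¹ ∈ Z.map π} * Nat.card D := by
      let S : Set (N ⧸ D) := {u : N ⧸ D | X' u * (Y' u)⁻¹ ∈ Z.map π}
      have e : {u : N | X u * (Y u)⁻¹ ∈ Z ⊔ D} = (QuotientGroup.mk : N → N ⧸ D) ⁻¹' S := by
        ext u
        show X u * (Y u)⁻¹ ∈ Z ⊔ D ↔ X' (π u) * (Y' (π u))⁻¹ ∈ Z.map π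
        rw [hX', hY', ← map_inv π, ← map_mul π, hmem]
      rw [e, Nat.card_congr (QuotientGroup.preimageMkEquivSubgroupProdSet D S), Nat.card_prod, mul_comm]
    rw [hN, hpre, ← mul_assoc] at hr
    exact lt_of_mul_lt_mul_right hr (Nat.zero_le _)
  obtain ⟨u, v, e⟩ := fr.core hnd' hr' (π m)
  obtain ⟨u, rfl⟩ := hπs u
  obtain ⟨v, rfl⟩ := hπs v
  rw [hX', hY', ← map_inv π, ← map_inv π, ← map_mul π, ← map_mul π, ← map_mul π] at e
  -- correct by `D`
  have hd : (v * (Y v)⁻¹) * (u * (X u)⁻¹ * m)⁻¹ ∈ D := by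
    rw [← hπD, map_mul, map_inv, e, mul_inv_cancel]
  let φ : D → D := fun d => ⟨d * (X d)⁻¹, D.mul_mem d.2 (D.inv_mem (mX d d.2))⟩
  have hφ : Function.Injective φ := by
    intro a b hab
    have e1 : (a : N) * (X a)⁻¹ = b * (X b)⁻¹ := congrArg Subtype.val hab
    have e2 : X ((b : N)⁻¹ * a) = (b : N)⁻¹ * a := by
      rw [map_mul, map_inv]
      have e3 : (a : N) = b * (X b)⁻¹ * X a := by rw [← e1]; group
      conv_rhs => rw [e3]
      group
    have e3 := dX _ (D.mul_mem (D.inv_mem b.2) a.2) e2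
    exact (Subtype.ext (inv_mul_eq_one.1 e3)).symm
  obtain ⟨d, hd'⟩ := Finite.surjective_of_injective hφ ⟨_, hd⟩
  have hd'' : (d : N) * (X d)⁻¹ = (v * (Y v)⁻¹) * (u * (X u)⁻¹ * m)⁻¹ := congrArg Subtype.val hd'
  refine ⟨d * u, v, ?_⟩
  have e4 : (d : N) * u * (X (d * u))⁻¹ * m = (d : N) * (X d)⁻¹ * (u * (X u)⁻¹ * m) := by
    have e5 := cD (X d)⁻¹ (D.inv_mem (mX d d.2)) (u * (X u)⁻¹)
    rw [map_mul, mul_inv_rev]
    calc (d : N) * u * ((X u)⁻¹ * (X d)⁻¹) * m = d * (u * (X u)⁻¹ * (X d)⁻¹) * m := by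
          simp only [mul_assoc]
      _ = _ := by rw [← e5]; simp only [mul_assoc]
  rw [e4, hd'']
  group

end quot

section group

variable {Γ : Type u} [Group Γ]

/-- `x` is fixed point free on `N / M` -/
def FF (N M : Subgroup Γ) (x : Γ) : Prop := ∀ u ∈ N, x * u * x⁻¹ * u⁻¹ ∈ M → u ∈ M

theorem FF.conj {N M : Subgroup Γ} (hN : N.Normal) (hM : M.Normal) {x : Γ} (h : FF N M x) (k : Γ) :
    FF N M (k * x * k⁻¹) := by
  intro u hu hm
  have h1 : k⁻¹ * u * k ∈ M := by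
    refine h _ (by simpa using hN.conj_mem u hu k⁻¹) ?_
    have := hM.conj_mem _ hm k⁻¹
    have e : x * (k⁻¹ * u * k) * x⁻¹ * (k⁻¹ * u * k)⁻¹
        = k⁻¹ * (k * x * k⁻¹ * u * (k * x * k⁻¹)⁻¹ * u⁻¹) * k⁻¹⁻¹ := by group
    rw [e]; exact this
  have := hM.conj_mem _ h1 k
  have e : k * (k⁻¹ * u * k) * k⁻¹ = u := by group
  rwa [e] at this

theorem FF.inv {N M : Subgroup Γ} (hN : N.Normal) (hM : M.Normal) {x : Γ} (h : FF N M x) :
    FF N M x⁻¹ := by
  intro u hu hm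
  have h1 : x⁻¹ * u * x ∈ M := by
    refine h _ (by simpa using hN.conj_mem u hu x⁻¹) ?_
    have := M.inv_mem hm
    have e : x * (x⁻¹ * u * x) * x⁻¹ * (x⁻¹ * u * x)⁻¹ = (x⁻¹ * u * x⁻¹⁻¹ * u⁻¹)⁻¹ := by group
    rw [e]; exact this
  have := hM.conj_mem _ h1 x
  have e : x * (x⁻¹ * u * x) * x⁻¹ = u := by group
  rwa [e] at this

theorem FF.mul_mem {N M : Subgroup Γ} (hM : M.Normal)
    (com : ∀ a ∈ N, ∀ b ∈ N, a * b * a⁻¹ * b⁻¹ ∈ M) {x n : Γ} (hn : n ∈ N) (h : FF N M x) :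
    FF N M (x * n) := by
  intro u hu hm
  refine h u hu ?_
  have e : x * u * x⁻¹ * u⁻¹ = (x * (n * u * n⁻¹ * u⁻¹) * x⁻¹)⁻¹ * ((x * n) * u * (x * n)⁻¹ * u⁻¹) := by
    group
  rw [e]
  exact M.mul_mem (M.inv_mem (hM.conj_mem _ (com n hn u hu) x)) hm

/-- **the pair lemma** -/
theorem exists_pair {N Z D : Subgroup Γ} [Finite N] (hN : N.Normal) (hD : D.Normal) (hZN : Z ≤ N)
    (hDN : D ≤ N) (hZ : ∀ z ∈ Z, ∀ g, z * g = g * z) (hDc : ∀ d ∈ D, ∀ n ∈ N, d * n = n * d)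
    (hZD : ∀ a ∈ Z, a ∈ D → a = 1) (com : ∀ a ∈ N, ∀ b ∈ N, a * b * a⁻¹ * b⁻¹ ∈ Z ⊔ D)
    {x y : Γ} (hx : FF N (Z ⊔ D) x) (hxD : ∀ d ∈ D, x * d = d * x → d = 1) (hy : FF N (Z ⊔ D) y)
    (hnd : ∀ K : Subgroup Γ, K ≤ Z → K ≠ Z → ∀ r ∈ N, (∀ n ∈ N, r * n * r⁻¹ * n⁻¹ ∈ K ⊔ D) → r ∈ Z ⊔ D)
    (hr : (Nat.card Z - 1) ^ 2 * Nat.card {u : Γ | u ∈ N ∧ x * y * u * (x * y)⁻¹ * u⁻¹ ∈ Z ⊔ D}
      < Nat.card N) {c : Γ} (hc : x⁻¹ * c * y⁻¹ ∈ N) :
    ∃ u ∈ N, ∃ v ∈ N, c = (u * x * u⁻¹) * (v * y * v⁻¹) := by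
  classical
  have hZn : Z.Normal := ⟨fun z hz g => by
    rw [← hZ z hz g, mul_assoc, mul_inv_cancel, mul_one]; exact hz⟩
  have hMn : (Z ⊔ D).Normal := Subgroup.sup_normal Z D
  let X : N ≃* N := MulAut.conjNormal x⁻¹
  let Y : N ≃* N := MulAut.conjNormal y
  have hX : ∀ n : N, ((X n : N) : Γ) = x⁻¹ * n * x := fun n => by
    rw [MulAut.conjNormal_apply, inv_inv]
  have hY : ∀ n : N, ((Y n : N) : Γ) = y * n * y⁻¹ := fun n => MulAut.conjNormal_apply y n
  have hsup : Z.subgroupOf N ⊔ D.subgroupOf N = (Z ⊔ D).subgroupOf N :=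
    (Subgroup.subgroupOf_sup hZN hDN).symm
  have hmem : ∀ n : N, n ∈ Z.subgroupOf N ⊔ D.subgroupOf N ↔ (n : Γ) ∈ Z ⊔ D := by
    intro n; rw [hsup, Subgroup.mem_subgroupOf]
  have hxi := hx.inv hN hMn
  obtain ⟨u, v, e⟩ := core_D (N := N) (Z := Z.subgroupOf N) (D := D.subgroupOf N) (X := X) (Y := Y)
    (fun z hz n => Subtype.ext (hZ z hz n)) (fun d hd n => Subtype.ext (hDc d hd n n.2))
    (fun z hz => Subtype.ext (by
      rw [hX, mul_assoc, hZ z hz x]; group))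
    (fun z hz => Subtype.ext (by
      rw [hY, ← hZ z hz y]; group))
    (fun d hd => by
      rw [Subgroup.mem_subgroupOf, hX]
      simpa only [_root_.Subgroup.subtype_apply, _root_.inv_inv] using hD.conj_mem _ hd x⁻¹)
    (fun d hd => by
      rw [Subgroup.mem_subgroupOf, hY]
      exact hD.conj_mem _ hd y)
    (fun a b => by rw [hmem]; exact com a a.2 b b.2)
    (fun w hw => by
      rw [hmem] at hw ⊢
      refine hxi w w.2 ?_
      have := (Z ⊔ D).inv_mem hw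
      have e : x⁻¹ * (w : Γ) * x⁻¹⁻¹ * (w : Γ)⁻¹ = (((w * (X w)⁻¹ : N) : Γ))⁻¹ := by
        rw [Subgroup.coe_mul, Subgroup.coe_inv, hX]; group
      rw [e]; exact this)
    (fun w hw => by
      rw [hmem] at hw ⊢
      refine hy w w.2 ?_
      have := (Z ⊔ D).inv_mem hw
      have e : y * (w : Γ) * y⁻¹ * (w : Γ)⁻¹ = (((w * (Y w)⁻¹ : N) : Γ))⁻¹ := by
        rw [Subgroup.coe_mul, Subgroup.coe_inv, hY]; group
      rw [e]; exact this)
    (fun d hd e => by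
      have e1 : x⁻¹ * (d : Γ) * x = d := by rw [← hX, e]
      refine Subtype.ext (hxD d hd ?_)
      conv_lhs => rw [← e1]
      group)
    (fun a ha hb => Subtype.ext (hZD a ha hb))
    (fun K hK hne r hr => by
      rw [hmem]
      refine hnd (K.map N.subtype) ?_ ?_ r r.2 ?_
      · rintro _ ⟨k, hk, rfl⟩
        exact hK hk
      · intro e
        apply hne
        apply le_antisymm hK
        intro z hz
        have : (z : Γ) ∈ K.map N.subtype := by rw [e]; exact hz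
        obtain ⟨k, hk, e'⟩ := this
        have : k = z := Subtype.ext e'
        rwa [← this]
      · intro n hn
        have hle : K ⊔ D.subgroupOf N ≤ (K.map N.subtype ⊔ D).comap N.subtype := by
          refine sup_le ?_ ?_
          · intro k hk
            exact Subgroup.mem_sup_left ⟨k, hk, rfl⟩
          · intro k hk
            exact Subgroup.mem_sup_right hk
        exact hle (hr ⟨n, hn⟩))
    (by
      have e1 : Nat.card (Z.subgroupOf N) = Nat.card Z :=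
        Nat.card_congr (Subgroup.subgroupOfEquivOfLe hZN).toEquiv
      rw [e1]
      refine lt_of_le_of_lt (Nat.mul_le_mul_left _ ?_) hr
      have hfin : Finite {u : Γ | u ∈ N ∧ x * y * u * (x * y)⁻¹ * u⁻¹ ∈ Z ⊔ D} :=
        Finite.of_injective (fun u => (⟨u, u.2.1⟩ : N)) (fun a b h =>
          Subtype.ext (congrArg (fun t : N => (t : Γ)) h))
      refine Nat.card_le_card_of_injective
        (fun u : {u : N | X u * (Y u)⁻¹ ∈ Z.subgroupOf N ⊔ D.subgroupOf N} =>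
          (⟨((u : N) : Γ), ⟨(u : N).2, ?_⟩⟩ :
            {u : Γ | u ∈ N ∧ x * y * u * (x * y)⁻¹ * u⁻¹ ∈ Z ⊔ D})) ?_
      · have h1 := u.2
        rw [Set.mem_ofPred_eq, hmem, Subgroup.coe_mul, Subgroup.coe_inv, hX, hY] at h1
        have h2 := (Z ⊔ D).inv_mem (hMn.conj_mem _ h1 x)
        have e : x * y * ((u : N) : Γ) * (x * y)⁻¹ * ((u : N) : Γ)⁻¹
            = (x * (x⁻¹ * ((u : N) : Γ) * x * (y * ((u : N) : Γ) * y⁻¹)⁻¹) * x⁻¹)⁻¹ := by group
        rw [e]; exact h2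
      · intro a b h
        simp only [Subtype.mk.injEq] at h
        exact Subtype.ext (Subtype.ext h))
    ⟨_, hc⟩
  have e1 := congrArg (fun t : N => (t : Γ)) e
  simp only [Subgroup.coe_mul, Subgroup.coe_inv, hX, hY] at e1
  refine ⟨u, u.2, v, v.2, ?_⟩
  have e2 : c = (u : Γ) * x * (u : Γ)⁻¹ * ((u : Γ) * (x⁻¹ * (u : Γ) * x)⁻¹ * (x⁻¹ * c * y⁻¹)) * y := by
    group
  rw [e2, e1]
  group

/-- non-degeneracy from irreducibility and one non-trivial commutator for every proper `K < Z` -/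
theorem nd_of_irr {N Z D : Subgroup Γ} (hN : N.Normal) (hD : D.Normal) (hZN : Z ≤ N) (hDN : D ≤ N)
    (hZ : ∀ z ∈ Z, ∀ g, z * g = g * z) (hDc : ∀ d ∈ D, ∀ n ∈ N, d * n = n * d)
    (irr : ∀ M : Subgroup Γ, M.Normal → Z ⊔ D ≤ M → M ≤ N → M = Z ⊔ D ∨ M = N)
    (hpair : ∀ K : Subgroup Γ, K ≤ Z → K ≠ Z → ∃ a ∈ N, ∃ b ∈ N, a * b * a⁻¹ * b⁻¹ ∉ K ⊔ D)
    (K : Subgroup Γ) (hK : K ≤ Z) (hne : K ≠ Z) (r : Γ) (hr : r ∈ N)
    (h : ∀ n ∈ N, r * n * r⁻¹ * n⁻¹ ∈ K ⊔ D) : r ∈ Z ⊔ D := by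
  have hKn : K.Normal := ⟨fun z hz g => by
    rw [← hZ z (hK hz) g, mul_assoc, mul_inv_cancel, mul_one]; exact hz⟩
  have hS : (K ⊔ D).Normal := Subgroup.sup_normal K D
  let M : Subgroup Γ :=
    { carrier := {r | r ∈ N ∧ ∀ n ∈ N, r * n * r⁻¹ * n⁻¹ ∈ K ⊔ D}
      one_mem' := ⟨N.one_mem, fun n _ => by simp only [_root_.one_mul, _root_.inv_one, _root_.mul_one, _root_.mul_inv_cancel, _root_.OneMemClass.one_mem]⟩
      mul_mem' := by
        rintro a b ⟨ha, ha'⟩ ⟨hb, hb'⟩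
        refine ⟨N.mul_mem ha hb, fun n hn => ?_⟩
        have e : a * b * n * (a * b)⁻¹ * n⁻¹ = a * (b * n * b⁻¹ * n⁻¹) * a⁻¹ * (a * n * a⁻¹ * n⁻¹) := by
          group
        rw [e]
        exact (K ⊔ D).mul_mem (hS.conj_mem _ (hb' n hn) a) (ha' n hn)
      inv_mem' := by
        rintro a ⟨ha, ha'⟩
        refine ⟨N.inv_mem ha, fun n hn => ?_⟩
        have e : a⁻¹ * n * a⁻¹⁻¹ * n⁻¹ = a⁻¹ * (a * n * a⁻¹ * n⁻¹)⁻¹ * a⁻¹⁻¹ := by group
        rw [e]
        exact hS.conj_mem _ ((K ⊔ D).inv_mem (ha' n hn)) a⁻¹ }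
  have hMn : M.Normal := by
    refine ⟨?_⟩
    rintro a ⟨ha, ha'⟩ g
    refine ⟨hN.conj_mem a ha g, fun n hn => ?_⟩
    have e : g * a * g⁻¹ * n * (g * a * g⁻¹)⁻¹ * n⁻¹
        = g * (a * (g⁻¹ * n * g) * a⁻¹ * (g⁻¹ * n * g)⁻¹) * g⁻¹ := by group
    rw [e]
    exact hS.conj_mem _ (ha' _ (by simpa using hN.conj_mem n hn g⁻¹)) g
  have hMN : M ≤ N := fun a ha => ha.1
  have hZM : Z ⊔ D ≤ M := by
    refine sup_le ?_ ?_
    · intro z hz
      refine ⟨hZN hz, fun n _ => ?_⟩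
      rw [hZ z hz n]; simp only [_root_.mul_inv_cancel_right, _root_.mul_inv_cancel, _root_.OneMemClass.one_mem]
    · intro d hd
      refine ⟨hDN hd, fun n hn => ?_⟩
      rw [hDc d hd n hn]; simp
  rcases irr M hMn hZM hMN with e | e
  · rw [← e]; exact ⟨hr, h⟩
  · obtain ⟨a, ha, b, hb, hab⟩ := hpair K hK hne
    rw [← e] at ha
    exact absurd (ha.2 b hb) hab

/-- the centraliser of `l` in `N / M` -/
def CM {N M : Subgroup Γ} (hN : N.Normal) (hM : M.Normal) (com : ∀ a ∈ N, ∀ b ∈ N, a * b * a⁻¹ * b⁻¹ ∈ M)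
    (l : Γ) : Subgroup Γ where
  carrier := {u | u ∈ N ∧ l * u * l⁻¹ * u⁻¹ ∈ M}
  one_mem' := ⟨N.one_mem, by simp⟩
  mul_mem' := by
    rintro a b ⟨ha, ha'⟩ ⟨hb, hb'⟩
    refine ⟨N.mul_mem ha hb, ?_⟩
    have e : l * (a * b) * l⁻¹ * (a * b)⁻¹ = (l * a * l⁻¹ * a⁻¹) * (a * (l * b * l⁻¹ * b⁻¹) * a⁻¹) := by
      group
    rw [e]
    exact M.mul_mem ha' (hM.conj_mem _ hb' a)
  inv_mem' := by
    rintro a ⟨ha, ha'⟩
    refine ⟨N.inv_mem ha, ?_⟩
    have e2 : l * a⁻¹ * l⁻¹ * a⁻¹⁻¹ = (l * a⁻¹ * l⁻¹) * ((l * a * l⁻¹ * a⁻¹)⁻¹) * (l * a⁻¹ * l⁻¹)⁻¹ := by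
      group
    rw [e2]
    exact hM.conj_mem _ (M.inv_mem ha') _

section rank

variable {N M : Subgroup Γ} (hN : N.Normal) (hM : M.Normal)
  (com : ∀ a ∈ N, ∀ b ∈ N, a * b * a⁻¹ * b⁻¹ ∈ M)

theorem CM_mul (l k : Γ) : CM hN hM com l ⊓ CM hN hM com k ≤ CM hN hM com (l * k) := by
  rintro u ⟨⟨hu, h1⟩, -, h2⟩
  refine ⟨hu, ?_⟩
  have e : l * k * u * (l * k)⁻¹ * u⁻¹ = l * (k * u * k⁻¹ * u⁻¹) * l⁻¹ * (l * u * l⁻¹ * u⁻¹) := by group
  rw [e]
  exact M.mul_mem (hM.conj_mem _ h2 l) h1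

theorem CM_inv (l : Γ) : CM hN hM com l ≤ CM hN hM com l⁻¹ := by
  rintro u ⟨hu, h1⟩
  refine ⟨hu, ?_⟩
  have e : l⁻¹ * u * l⁻¹⁻¹ * u⁻¹ = l⁻¹ * (l * u * l⁻¹ * u⁻¹)⁻¹ * l⁻¹⁻¹ := by group
  rw [e]
  exact hM.conj_mem _ (M.inv_mem h1) _

theorem CM_conj (l k : Γ) :
    CM hN hM com (k * l * k⁻¹) = (CM hN hM com l).map (MulAut.conj k).toMonoidHom := by
  have key : ∀ (l k : Γ) {u : Γ}, u ∈ CM hN hM com l → k * u * k⁻¹ ∈ CM hN hM com (k * l * k⁻¹) := by
    rintro l k u ⟨hu, h1⟩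
    refine ⟨hN.conj_mem u hu k, ?_⟩
    have e : k * l * k⁻¹ * (k * u * k⁻¹) * (k * l * k⁻¹)⁻¹ * (k * u * k⁻¹)⁻¹
        = k * (l * u * l⁻¹ * u⁻¹) * k⁻¹ := by group
    rw [e]; exact hM.conj_mem _ h1 k
  apply le_antisymm
  · intro u hu
    refine ⟨k⁻¹ * u * k, ?_, ?_⟩
    · have := key _ k⁻¹ hu
      have e : k⁻¹ * (k * l * k⁻¹) * k⁻¹⁻¹ = l := by group
      rw [e, inv_inv] at this
      exact this
    · show k * (k⁻¹ * u * k) * k⁻¹ = u
      group
  · rintro _ ⟨u, hu, rfl⟩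
    exact key l k hu

theorem CM_relIndex_conj (l k : Γ) :
    (CM hN hM com (k * l * k⁻¹)).relIndex N = (CM hN hM com l).relIndex N := by
  have e : N = N.map (MulAut.conj k).toMonoidHom := by
    apply le_antisymm
    · intro u hu
      refine ⟨k⁻¹ * u * k, by simpa using hN.conj_mem u hu k⁻¹, ?_⟩
      show k * (k⁻¹ * u * k) * k⁻¹ = u
      group
    · rintro _ ⟨u, hu, rfl⟩
      exact hN.conj_mem u hu k
  rw [CM_conj]
  exact (congrArg (fun T => ((CM hN hM com l).map (MulAut.conj k).toMonoidHom).relIndex T) e).trans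
    (Subgroup.relIndex_map_map_of_injective _ _ (MulAut.conj k).injective)

/-- `i(l)ⁿ` bounds the index of the centraliser of a product of `n` conjugates of `l` and `l⁻¹` -/
theorem CM_relIndex_prod [Finite N] (l : Γ) (L : List Γ)
    (hL : ∀ t ∈ L, ∃ k, t = k * l * k⁻¹ ∨ t = k * l⁻¹ * k⁻¹) :
    (CM hN hM com L.prod).relIndex N ≤ (CM hN hM com l).relIndex N ^ L.length := by
  have hfin : ∀ H : Subgroup Γ, H.relIndex N ≠ 0 := by
    intro H
    rw [Subgroup.relIndex]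
    exact Subgroup.index_ne_zero_of_finite
  induction L with
  | nil =>
    have e : (CM hN hM com ([] : List Γ).prod).relIndex N = 1 := by
      rw [Subgroup.relIndex_eq_one]
      intro u hu
      refine ⟨hu, ?_⟩
      simp
    rw [e]; simp
  | cons t L ih =>
    rw [List.prod_cons, List.length_cons, pow_succ, mul_comm]
    have h1 : (CM hN hM com t).relIndex N ≤ (CM hN hM com l).relIndex N := by
      obtain ⟨k, rfl | rfl⟩ := hL t (List.mem_cons_self)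
      · rw [CM_relIndex_conj]
      · rw [CM_relIndex_conj]
        exact Subgroup.relIndex_le_of_le_left (CM_inv hN hM com l) (hfin _)
    refine (Subgroup.relIndex_le_of_le_left (CM_mul hN hM com t L.prod) (hfin _)).trans ?_
    refine Subgroup.relIndex_inf_le.trans (Nat.mul_le_mul h1 (ih fun t ht => hL t ?_))
    exact List.mem_cons_of_mem _ ht

include hN hM com in
/-- **rank bound**: if a product of at most `n` conjugates of `l^{±1}` is fixed point free on `N/M` and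
`b ^ n < |N/M|`, then `b |C_N(l mod M)| < |N|` -/
theorem card_CM_lt [Finite N] (hMN : M ≤ N) (l : Γ) (L : List Γ)
    (hL : ∀ t ∈ L, ∃ k, t = k * l * k⁻¹ ∨ t = k * l⁻¹ * k⁻¹) (hx : FF N M L.prod) {b n : ℕ}
    (hn : L.length ≤ n) (hb : b ^ n < M.relIndex N) :
    b * Nat.card {u : Γ | u ∈ N ∧ l * u * l⁻¹ * u⁻¹ ∈ M} < Nat.card N := by
  have e1 : CM hN hM com L.prod = M := by
    apply le_antisymm
    · rintro u ⟨hu, h1⟩
      exact hx u hu h1
    · intro u hu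
      refine ⟨hMN hu, ?_⟩
      exact M.mul_mem (hM.conj_mem u hu _) (M.inv_mem hu)
  have h1 := CM_relIndex_prod hN hM com l L hL
  rw [e1] at h1
  set i := (CM hN hM com l).relIndex N with hi
  have hi0 : i ≠ 0 := by
    rw [hi, Subgroup.relIndex]
    exact Subgroup.index_ne_zero_of_finite
  have h2 : b < i := by
    by_contra hcon
    have h3 : i ^ L.length ≤ b ^ n := by
      refine (Nat.pow_le_pow_right (Nat.pos_of_ne_zero hi0) hn).trans ?_
      exact Nat.pow_le_pow_left (not_lt.1 hcon) n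
    omega
  have h4 : i * Nat.card (CM hN hM com l) = Nat.card N := by
    have hle : CM hN hM com l ≤ N := fun u hu => hu.1
    rw [hi, Subgroup.relIndex, mul_comm,
      ← Nat.card_congr (Subgroup.subgroupOfEquivOfLe hle).toEquiv]
    exact Subgroup.card_mul_index _
  have h5 : Nat.card {u : Γ | u ∈ N ∧ l * u * l⁻¹ * u⁻¹ ∈ M} = Nat.card (CM hN hM com l) := rfl
  rw [h5, ← h4]
  refine Nat.mul_lt_mul_of_pos_right h2 ?_
  have : Finite (CM hN hM com l) := Finite.of_injective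
    (fun u => (⟨u, u.2.1⟩ : N)) (fun a b h => by
      simp only [Subtype.mk.injEq] at h
      exact Subtype.ext h)
  exact Nat.card_pos

end rank

end group

end Cfsg.Agent.H590.F4
end

-- part: H590/F4/P4
section
/-!
# `2²E₆(2)`: the elements over `P₄ ∖ V₄`, `P₄ = 2^(8+16):Ω₈⁻(2)` : assembly (helper590, row F4 of S2491)

`V2 φ` : the second layer (`2^8`) of `V φ j4`; `KF φ x₀` : the facts in `K = ²E₆(2)`, `x₀` of order 21;
`DF`, `BF` : the facts in a cover with kernel of order 4; `p4_of` : the assembly.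
-/

set_option autoImplicit false

namespace Cfsg.Agent.H590.F4

open CoxeterSystem Cfsg.Agent.ChevalleyStructure.CoxeterGeom Cfsg.Agent.Tits.Roots Cfsg.Agent.Tits.Core
  Cfsg.Agent.Nodes Cfsg.Agent.Nodes.Reps Cfsg.Agent.Nodes.BNOf Cfsg.Agent.Nodes.RGDLib Cfsg.Agent.Nodes.Bruhat
  Cfsg.Agent.Nodes.OppDec Cfsg.Agent.Nodes.LeviDec Cfsg.Agent.Nodes.StabComb
open Cfsg.Lie Subgroup
open Cfsg.Agent.H51.Mult (PCE)
open Cfsg.Agent.H777.Ore (AllC IsC)
open Cfsg.Agent.H231.QF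

universe u v

variable {F : Type u} [Field F]

/-- the second layer of `V φ j4` : the root groups with coefficient 2 at node 3 -/
noncomputable abbrev V2 (φ : F →+* F) : Subgroup (KK F) :=
  RGD.Sup (X φ) (Cfsg.Agent.H326.QS.VP.Q fun x => x 3 = 2)

/-- the facts in `²E₆(2)` -/
structure KF (φ : F →+* F) (x₀ : KK F) : Prop where
  /-- the layer is normal in `P₄` and central in `V₄`, which is abelian modulo the layer -/
  le : V2 φ ≤ V φ j4
  norm : ∀ g ∈ P φ j4, ∀ d ∈ V2 φ, g * d * g⁻¹ ∈ V2 φ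
  cen : ∀ a ∈ V φ j4, ∀ d ∈ V2 φ, a * d = d * a
  com : ∀ a ∈ V φ j4, ∀ b ∈ V φ j4, a * b * a⁻¹ * b⁻¹ ∈ V2 φ
  idx : (V2 φ).relIndex (V φ j4) = 2 ^ 16
  /-- `P₄` acts irreducibly on `V₄/V2` -/
  irr : ∀ M : Subgroup (KK F), V2 φ ≤ M → M ≤ V φ j4 → (∀ g ∈ P φ j4, ∀ m ∈ M, g * m * g⁻¹ ∈ M) →
    M = V2 φ ∨ M = V φ j4
  /-- `x₀` (order 21) is fixed point free on both layers -/
  xL : x₀ ∈ Lv φ j4
  xW : ∀ u ∈ V φ j4, x₀ * u * x₀⁻¹ * u⁻¹ ∈ V2 φ → u ∈ V2 φ
  xD : ∀ d ∈ V2 φ, x₀ * d = d * x₀ → d = 1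
  /-- class cover of `Ω₈⁻(2)` -/
  cover : ∀ l ∈ Lv φ j4, l ≠ 1 → ∃ a ∈ Lv φ j4, ∃ b ∈ Lv φ j4, l = a * x₀ * a⁻¹ * (b * x₀⁻¹ * b⁻¹)
  /-- at most five conjugates of `l^{±1}` have a product which is fixed point free on `V₄/V2` -/
  rank : ∀ l ∈ Lv φ j4, l ≠ 1 → ∃ L : List (KK F), L.length ≤ 5 ∧
    (∀ t ∈ L, ∃ k ∈ Lv φ j4, t = k * l * k⁻¹ ∨ t = k * l⁻¹ * k⁻¹) ∧
    ∀ u ∈ V φ j4, L.prod * u * L.prod⁻¹ * u⁻¹ ∈ V2 φ → u ∈ V2 φ

/-- the complement `D` of the kernel in the preimage of the layer -/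
structure DF {L : Type v} [Group L] (φ : F →+* F) (π : L →* KK F) (D : Subgroup L) : Prop where
  disj : ∀ d ∈ D, π d = 1 → d = 1
  map : D.map π = V2 φ
  norm : ∀ g, π g ∈ P φ j4 → ∀ d ∈ D, g * d * g⁻¹ ∈ D

/-- the commutators of the preimage of `V₄` generate the kernel modulo `D` -/
def BF {L : Type v} [Group L] (φ : F →+* F) (π : L →* KK F) (D : Subgroup L) : Prop :=
  ∀ K₁ : Subgroup L, K₁ ≤ π.ker → K₁ ≠ π.ker →
    ∃ a, π a ∈ V φ j4 ∧ ∃ b, π b ∈ V φ j4 ∧ a * b * a⁻¹ * b⁻¹ ∉ K₁ ⊔ D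

section two

variable {L : Type v} [Group L] [Finite L] {φ : F →+* F} {π : L →* KK F}

theorem Lv_le : Lv φ j4 ≤ P φ j4 := le_sup_left

theorem V_le : V φ j4 ≤ P φ j4 := le_sup_right

/-- covers with kernel of order 4 -/
theorem two (hN : ∀ g ∈ P φ j4, ∀ v ∈ V φ j4, g * v * g⁻¹ ∈ V φ j4)
    (hdec : ∀ g ∈ P φ j4, ∃ l ∈ Lv φ j4, ∃ v ∈ V φ j4, g = l * v) (hπ : PCE π)
    (hk : Nat.card π.ker = 4) {x₀ : KK F} (hK : KF φ x₀) {D : Subgroup L} (hD : DF φ π D) (hB : BF φ π D)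
    {x : L} (hx : π x = x₀) {g : L} (hg : π g ∈ P φ j4) (hg1 : π g ∉ V φ j4) :
    ∃ u v : L, g = (u * x * u⁻¹) * (v * x⁻¹ * v⁻¹) := by
  classical
  let Γ : Subgroup L := (P φ j4).comap π
  let ϖ : Γ →* KK F := π.comp Γ.subtype
  have hϖ : ∀ a : Γ, ϖ a = π a := fun a => rfl
  have hlift : ∀ k ∈ P φ j4, ∃ a : Γ, ϖ a = k := by
    intro k hk'
    obtain ⟨a, rfl⟩ := hπ.surj k
    exact ⟨⟨a, hk'⟩, rfl⟩
  let N : Subgroup Γ := (V φ j4).comap ϖ
  let Z : Subgroup Γ := ϖ.ker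
  let D' : Subgroup Γ := D.subgroupOf Γ
  have hNn : N.Normal := ⟨fun n hn k => by
    show ϖ (k * n * k⁻¹) ∈ V φ j4
    rw [map_mul, map_mul, map_inv]
    exact hN _ k.2 _ hn⟩
  have hDn : D'.Normal := ⟨fun n hn k => hD.norm k k.2 n hn⟩
  have hZc : ∀ z ∈ Z, ∀ k : Γ, z * k = k * z := fun z hz k => Subtype.ext (hπ.comm (z := z) hz k)
  have hZn : Z.Normal := inferInstance
  have hZN : Z ≤ N := by
    intro z hz
    show ϖ z ∈ V φ j4
    rw [MonoidHom.mem_ker.1 hz]; exact one_mem _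
  have hDV : ∀ d : L, d ∈ D → π d ∈ V2 φ := fun d hd => by
    rw [← hD.map]; exact ⟨d, hd, rfl⟩
  have hDN : D' ≤ N := fun d hd => hK.le (hDV d hd)
  have hmem : ∀ u : Γ, u ∈ Z ⊔ D' ↔ ϖ u ∈ V2 φ := by
    intro u
    constructor
    · intro hu
      have hle : Z ⊔ D' ≤ (V2 φ).comap ϖ := by
        refine sup_le ?_ ?_
        · intro z hz
          show ϖ z ∈ V2 φ
          rw [MonoidHom.mem_ker.1 hz]; exact one_mem _
        · intro d hd
          exact hDV d hd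
      exact hle hu
    · intro hu
      rw [← hD.map] at hu
      obtain ⟨d, hd, e⟩ := hu
      have hdΓ : d ∈ Γ := by
        show π d ∈ P φ j4
        exact V_le (hK.le (hDV d hd))
      have e1 : u = (u * (⟨d, hdΓ⟩ : Γ)⁻¹) * ⟨d, hdΓ⟩ := by group
      rw [e1]
      refine mul_mem (mem_sup_left ?_) (mem_sup_right hd)
      rw [MonoidHom.mem_ker, map_mul, map_inv, mul_inv_eq_one]
      exact e.symm
  have hZD : ∀ a ∈ Z, a ∈ D' → a = 1 := fun a ha hb => Subtype.ext (hD.disj a hb ha)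
  have hDc : ∀ d ∈ D', ∀ n ∈ N, d * n = n * d := by
    intro d hd n hn
    have h1 : d * n * d⁻¹ * n⁻¹ ∈ D' := by
      have e : d * n * d⁻¹ * n⁻¹ = d * (n * d⁻¹ * n⁻¹) := by group
      rw [e]
      exact mul_mem hd (hDn.conj_mem _ (inv_mem hd) n)
    have h2 : d * n * d⁻¹ * n⁻¹ ∈ Z := by
      have e : ϖ n * ϖ d = ϖ d * ϖ n := hK.cen _ hn _ (hDV d hd)
      rw [MonoidHom.mem_ker, map_mul, map_mul, map_mul, map_inv, map_inv, ← e]
      group
    have h3 := hZD _ h2 h1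
    rw [mul_inv_eq_one, mul_inv_eq_iff_eq_mul] at h3
    exact h3
  have hcom : ∀ a ∈ N, ∀ b ∈ N, a * b * a⁻¹ * b⁻¹ ∈ Z ⊔ D' := by
    intro a ha b hb
    rw [hmem]
    simp only [map_mul, map_inv]
    exact hK.com _ ha _ hb
  -- fixed point freeness
  have hFF : ∀ (k : KK F) (t : Γ), (∀ u ∈ V φ j4, k * u * k⁻¹ * u⁻¹ ∈ V2 φ → u ∈ V2 φ) → ϖ t = k →
      FF N (Z ⊔ D') t := by
    intro k t hk' ht u hu h1
    rw [hmem] at h1 ⊢
    simp only [map_mul, map_inv, ht] at h1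
    exact hk' _ hu h1
  -- decomposition
  obtain ⟨l, hl, v, hv, elv⟩ := hdec _ hg
  have hl1 : l ≠ 1 := by
    rintro rfl
    rw [one_mul] at elv
    exact hg1 (elv ▸ hv)
  obtain ⟨a, ha, b, hb, eab⟩ := hK.cover l hl hl1
  obtain ⟨a', ha'⟩ := hlift a (Lv_le ha)
  obtain ⟨b', hb'⟩ := hlift b (Lv_le hb)
  obtain ⟨L₀, hL5, hLt, hLp⟩ := hK.rank l hl hl1
  have hxΓ : x ∈ Γ := by
    show π x ∈ P φ j4
    rw [hx]; exact Lv_le hK.xL
  let xΓ : Γ := ⟨x, hxΓ⟩
  have hxϖ : ϖ xΓ = x₀ := hx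
  have hFFx : FF N (Z ⊔ D') xΓ := hFF x₀ xΓ hK.xW hxϖ
  have hMn : (Z ⊔ D').Normal := Subgroup.sup_normal Z D'
  let xx : Γ := a' * xΓ * a'⁻¹
  let yy : Γ := b' * xΓ⁻¹ * b'⁻¹
  have hxx : FF N (Z ⊔ D') xx := hFFx.conj hNn hMn a'
  have hyy : FF N (Z ⊔ D') yy := (hFFx.inv hNn hMn).conj hNn hMn b'
  have exy : ϖ (xx * yy) = l := by
    show ϖ (a' * xΓ * a'⁻¹ * (b' * xΓ⁻¹ * b'⁻¹)) = l
    simp only [map_mul, map_inv, ha', hb', hxϖ]
    exact eab.symm
  have hxxD : ∀ d ∈ D', xx * d = d * xx → d = 1 := by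
    intro d hd h1
    refine hZD d ?_ hd
    have hd2 : ϖ (a'⁻¹ * d * a') ∈ V2 φ := by
      have h3 : a'⁻¹ * d * a' ∈ D' := by simpa only [_root_.inv_inv] using hDn.conj_mem d hd a'⁻¹
      exact hDV _ h3
    have h4 : ϖ (a'⁻¹ * d * a') = 1 := by
      refine hK.xD _ hd2 ?_
      rw [← hxϖ, ← map_mul, ← map_mul]
      congr 1
      have e1 : xΓ * (a'⁻¹ * d * a') = a'⁻¹ * (xx * d) * a' := by
        show xΓ * (a'⁻¹ * d * a') = a'⁻¹ * (a' * xΓ * a'⁻¹ * d) * a'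
        group
      rw [e1, h1]
      show a'⁻¹ * (d * (a' * xΓ * a'⁻¹)) * a' = a'⁻¹ * d * a' * xΓ
      group
    rw [MonoidHom.mem_ker]
    rw [map_mul, map_mul, map_inv] at h4
    clear_value xx
    calc ϖ d = ϖ a' * ((ϖ a')⁻¹ * ϖ d * ϖ a') * (ϖ a')⁻¹ := by group
      _ = 1 := by rw [h4]; group
  have hcardZ : Nat.card Z = 4 := by
    rw [← hk]
    refine Nat.card_congr ⟨fun z => ⟨z.1.1, z.2⟩, fun z => ⟨⟨z.1, ?_⟩, z.2⟩, fun _ => rfl, fun _ => rfl⟩
    show π z ∈ P φ j4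
    rw [MonoidHom.mem_ker.1 z.2]; exact one_mem _
  -- non-degeneracy
  have hirr : ∀ M : Subgroup Γ, M.Normal → Z ⊔ D' ≤ M → M ≤ N → M = Z ⊔ D' ∨ M = N := by
    intro M hM h1 h2
    have hkM : ϖ.ker ≤ M := le_sup_left.trans h1
    have e1 : (M.map ϖ).comap ϖ = M := by
      rw [Subgroup.comap_map_eq]; exact sup_eq_left.2 hkM
    have h3 := hK.irr (M.map ϖ) ?_ ?_ ?_
    · rcases h3 with h3 | h3
      · left
        ext u
        rw [hmem, ← e1, h3]
        exact Iff.rfl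
      · right
        rw [← e1, h3]
    · intro d hd
      rw [← hD.map] at hd
      obtain ⟨d', hd', rfl⟩ := hd
      have hdΓ : d' ∈ Γ := V_le (hK.le (hDV d' hd'))
      exact ⟨⟨d', hdΓ⟩, h1 (mem_sup_right hd'), rfl⟩
    · rintro _ ⟨m, hm, rfl⟩
      exact h2 hm
    · rintro k hk' _ ⟨m, hm, rfl⟩
      obtain ⟨k', rfl⟩ := hlift k hk'
      exact ⟨k' * m * k'⁻¹, hM.conj_mem m hm k', by simp only [map_mul, map_inv]⟩
  have hpair : ∀ K₁ : Subgroup Γ, K₁ ≤ Z → K₁ ≠ Z → ∃ a ∈ N, ∃ b ∈ N, a * b * a⁻¹ * b⁻¹ ∉ K₁ ⊔ D' := by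
    intro K₁ h1 h2
    have h4 : K₁.map Γ.subtype ≤ π.ker := by
      rintro _ ⟨k, hk', rfl⟩
      exact h1 hk'
    have h5 : K₁.map Γ.subtype ≠ π.ker := by
      intro e
      apply h2
      apply le_antisymm h1
      intro z hz
      have h3 : (z : L) ∈ K₁.map Γ.subtype := by rw [e]; exact hz
      obtain ⟨k, hk', e'⟩ := h3
      have e'' : k = z := Subtype.ext e'
      rwa [← e'']
    obtain ⟨a, ha, b, hb, hab⟩ := hB (K₁.map Γ.subtype) h4 h5
    refine ⟨⟨a, V_le ha⟩, ha, ⟨b, V_le hb⟩, hb, fun h3 => hab ?_⟩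
    have hle : K₁ ⊔ D' ≤ (K₁.map Γ.subtype ⊔ D).comap Γ.subtype := by
      refine sup_le ?_ ?_
      · intro k hk'
        exact mem_sup_left ⟨k, hk', rfl⟩
      · intro k hk'
        exact mem_sup_right hk'
    exact hle h3
  -- the rank
  have hr : (Nat.card Z - 1) ^ 2 * Nat.card {u : Γ | u ∈ N ∧ xx * yy * u * (xx * yy)⁻¹ * u⁻¹ ∈ Z ⊔ D'}
      < Nat.card N := by
    rw [hcardZ]
    -- lift the list
    have hlist : ∀ L₀ : List (KK F), (∀ t ∈ L₀, ∃ k ∈ Lv φ j4, t = k * l * k⁻¹ ∨ t = k * l⁻¹ * k⁻¹) →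
        ∃ L₁ : List Γ, L₁.length = L₀.length ∧ ϖ L₁.prod = L₀.prod ∧
          ∀ t ∈ L₁, ∃ k, t = k * (xx * yy) * k⁻¹ ∨ t = k * (xx * yy)⁻¹ * k⁻¹ := by
      intro L₀
      induction L₀ with
      | nil => exact fun _ => ⟨[], rfl, by simp only [_root_.List.prod_nil, _root_.map_one], by simp only [_root_.List.not_mem_nil, _root_.mul_inv_rev, _root_.Subtype.exists, _root_.IsEmpty.forall_iff, _root_.implies_true]⟩
      | cons t L₀ ih =>
        intro h
        obtain ⟨L₁, e1, e2, e3⟩ := ih fun s hs => h s (List.mem_cons_of_mem _ hs)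
        obtain ⟨k, hk', hkt⟩ := h t List.mem_cons_self
        obtain ⟨k', rfl⟩ := hlift k (Lv_le hk')
        rcases hkt with rfl | rfl
        · refine ⟨(k' * (xx * yy) * k'⁻¹) :: L₁, by simp only [e1, _root_.List.length_cons, _root_.Nat.add_left_cancel_iff], ?_, ?_⟩
          · rw [List.prod_cons, map_mul, e2, List.prod_cons, map_mul, map_mul, map_inv, exy]
          · intro s hs
            rcases List.mem_cons.1 hs with rfl | hs
            · exact ⟨k', Or.inl rfl⟩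
            · exact e3 s hs
        · refine ⟨(k' * (xx * yy)⁻¹ * k'⁻¹) :: L₁, by simp only [e1, _root_.mul_inv_rev, _root_.List.length_cons, _root_.Nat.add_left_cancel_iff], ?_, ?_⟩
          · rw [List.prod_cons, map_mul, e2, List.prod_cons, map_mul, map_mul, map_inv, map_inv, exy]
          · intro s hs
            rcases List.mem_cons.1 hs with rfl | hs
            · exact ⟨k', Or.inr rfl⟩
            · exact e3 s hs
    obtain ⟨L₁, e1, e2, e3⟩ := hlist L₀ hLt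
    refine card_CM_lt (N := N) (M := Z ⊔ D') hNn hMn hcom (sup_le hZN hDN) (xx * yy) L₁ e3
      (hFF L₀.prod L₁.prod hLp e2) (b := (4 - 1) ^ 2) (n := 5) (by omega) ?_
    have e4 : Z ⊔ D' = (V2 φ).comap ϖ := by
      ext u; exact hmem u
    have e5 : N.map ϖ = V φ j4 := by
      apply le_antisymm
      · rintro _ ⟨n, hn, rfl⟩; exact hn
      · intro w hw
        obtain ⟨w', rfl⟩ := hlift w (V_le hw)
        exact ⟨w', hw, rfl⟩
    rw [e4, Subgroup.relIndex_comap, e5, hK.idx]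
    norm_num
  have hgΓ : g ∈ Γ := hg
  have hc : xx⁻¹ * (⟨g, hgΓ⟩ : Γ) * yy⁻¹ ∈ N := by
    show ϖ (xx⁻¹ * (⟨g, hgΓ⟩ : Γ) * yy⁻¹) ∈ V φ j4
    have e1 : ϖ (⟨g, hgΓ⟩ : Γ) = l * v := elv
    have e2 : ϖ (xx⁻¹ * (⟨g, hgΓ⟩ : Γ) * yy⁻¹) = ϖ yy * v * (ϖ yy)⁻¹ := by
      clear_value xx yy
      rw [map_mul, map_mul, map_inv, map_inv, e1, ← exy, map_mul]
      group
    rw [e2]
    exact hN _ yy.2 _ hv
  obtain ⟨u, -, w, -, e⟩ := exists_pair hNn hDn hZN hDN hZc hDc hZD hcom hxx hxxD hyy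
    (nd_of_irr hNn hDn hZN hDN hZc hDc hirr hpair) hr hc
  refine ⟨u * a', w * b', ?_⟩
  have e1 : g = (u : L) * ((a' : L) * x * (a' : L)⁻¹) * (u : L)⁻¹ *
      ((w : L) * ((b' : L) * x⁻¹ * (b' : L)⁻¹) * (w : L)⁻¹) := congrArg (fun t : Γ => (t : L)) e
  rw [e1]
  group

end two

/-- `c = x^u (x⁻¹)^v ζ`, `x ζ` conjugate to `x` : `c` is a commutator -/
theorem isC_of_twist {L : Type v} [Group L] {x u w c ζ y : L} (hz : ∀ g : L, ζ * g = g * ζ)
    (e : c = (u * x * u⁻¹) * (w * x⁻¹ * w⁻¹) * ζ) (hy : y * x * y⁻¹ = x * ζ) : IsC c := by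
  refine ⟨u * y * x * (u * y)⁻¹, w * (u * y)⁻¹, ?_⟩
  have e1 : u * y * x * (u * y)⁻¹ = u * x * u⁻¹ * ζ := by
    have e2 : u * y * x * (u * y)⁻¹ = u * (y * x * y⁻¹) * u⁻¹ := by group
    rw [e2, hy, mul_assoc, mul_assoc, hz u⁻¹]
    simp only [mul_assoc]
  have e3 : w * (u * y)⁻¹ * (u * y * x * (u * y)⁻¹)⁻¹ * (w * (u * y)⁻¹)⁻¹ = w * x⁻¹ * w⁻¹ := by group
  have e4 : u * y * x * (u * y)⁻¹ * (w * (u * y)⁻¹) * (u * y * x * (u * y)⁻¹)⁻¹ * (w * (u * y)⁻¹)⁻¹
      = (u * y * x * (u * y)⁻¹) * (w * (u * y)⁻¹ * (u * y * x * (u * y)⁻¹)⁻¹ * (w * (u * y)⁻¹)⁻¹) := by group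
  rw [e4, e3, e1, e, mul_assoc _ ζ, hz (w * x⁻¹ * w⁻¹)]
  simp only [mul_assoc]

/-- **P4, assembled** : all elements over `P₄ ∖ V₄` -/
theorem p4_of {L : Type v} [Group L] [Finite L] {φ : F →+* F} {π : L →* KK F}
    (hN : ∀ g ∈ P φ j4, ∀ v ∈ V φ j4, g * v * g⁻¹ ∈ V φ j4)
    (hdec : ∀ g ∈ P φ j4, ∃ l ∈ Lv φ j4, ∃ v ∈ V φ j4, g = l * v) (hπ : PCE π)
    (hk : Nat.card π.ker = 12) {x₀ : KK F} (hK : KF φ x₀)
    (hDB : ∀ {L' : Type v} [Group L'] [Finite L'] {ρ : L' →* KK F}, PCE ρ → Nat.card ρ.ker = 4 →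
      ∃ D, DF φ ρ D ∧ BF φ ρ D)
    (hX3 : ∀ x ζ : L, π x = x₀ → π ζ = 1 → ζ ^ 3 = 1 → ∃ y, y * x * y⁻¹ = x * ζ)
    (g : L) (hg : π g ∈ P φ j4) (hg1 : π g ∉ V φ j4) : IsC g := by
  classical
  have h3 : Fact (Nat.Prime 3) := ⟨Nat.prime_three⟩
  obtain ⟨N₀, hN₀⟩ := Sylow.exists_subgroup_card_pow_prime (G := π.ker) 3 (n := 1) (by rw [hk]; norm_num)
  let N₁ : Subgroup L := N₀.map π.ker.subtype
  have hN₁ : N₁ ≤ π.ker := by
    rintro _ ⟨z, -, rfl⟩
    exact z.2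
  have hcN₁ : Nat.card N₁ = 3 := by
    have e := Nat.card_congr (N₀.equivMapOfInjective π.ker.subtype (Subgroup.subtype_injective _)).toEquiv
    rw [← e, hN₀, pow_one]
  obtain ⟨L', _, q, ρ, hq, hqk, hρ, hρc⟩ := hπ.quot hN₁
  have hfin : Finite L' := Finite.of_surjective q hq
  have hk' : Nat.card ρ.ker = 4 := by
    have e := Cfsg.Agent.H51.Mult.card_ker_of_quot hq hρ
    rw [hk, hqk, hcN₁] at e
    omega
  obtain ⟨D, hD, hB⟩ := hDB hρc hk'
  obtain ⟨x, hx⟩ := hπ.surj x₀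
  obtain ⟨u, w, e⟩ := two (x := q x) (g := q g) hN hdec hρc hk' hK hD hB (by rw [hρ, hx])
    (by rw [hρ]; exact hg) (by rw [hρ]; exact hg1)
  obtain ⟨u, rfl⟩ := hq u
  obtain ⟨w, rfl⟩ := hq w
  let ζ : L := ((u * x * u⁻¹) * (w * x⁻¹ * w⁻¹))⁻¹ * g
  have hζ : ζ ∈ N₁ := by
    rw [← hqk, MonoidHom.mem_ker]
    show q (((u * x * u⁻¹) * (w * x⁻¹ * w⁻¹))⁻¹ * g) = 1
    rw [map_mul, map_inv, e]
    simp only [map_mul, map_inv]
    group
  have hζ1 : π ζ = 1 := hN₁ hζ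
  have hζ3 : ζ ^ 3 = 1 := by
    have h1 := pow_card_eq_one' (x := (⟨ζ, hζ⟩ : N₁))
    rw [hcN₁] at h1
    exact congrArg Subtype.val h1
  obtain ⟨y, hy⟩ := hX3 x ζ hx hζ1 hζ3
  refine isC_of_twist (x := x) (u := u) (w := w) (ζ := ζ) (y := y) (fun k => hπ.comm hζ1 k) ?_ hy
  show g = (u * x * u⁻¹) * (w * x⁻¹ * w⁻¹) * (((u * x * u⁻¹) * (w * x⁻¹ * w⁻¹))⁻¹ * g)
  group

end Cfsg.Agent.H590.F4
end

private theorem dce_ba2070f237b6 : _root_.True := by
  try have : _root_.True := by simp only [_root_.Cfsg.Agent.H590.F4.Fr.ρ.eq_1]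
  try have : _root_.True := by simp only [_root_.Cfsg.Agent.H590.F4.CM.congr_simp]
  try have : _root_.True := by simp only [_root_.Cfsg.Agent.H590.F4.Fr.ρ.congr_simp]
  try have : _root_.True := by simp only [_root_.Cfsg.Agent.H590.F4.Fr.B.congr_simp]
  exact _root_.True.intro
end

-- part: H164/F4/Out
section
prune_inst 0xf420370147000000001c009021004091150000000040840805e5020202088262a90420010820000b50080810200500281210009000000000008404000000042180a8500283080091060009001088015000385000000000000000000000000004214010000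
set_option linter.all false
open scoped Cfsg.Agent.FastGrp

-- part: H164/F4/NotRad
section
/-!
# Elements of a maximal parabolic outside of the radical (helper164, box (e) of S2491 F4)

`R` a root group datum, `J = {k | k ≠ j}`, `i` adjacent to `j` by a simple bond.

`exists_notMem` : if `g ≠ 1` has a conjugate in `P_J`, it has a conjugate in `P_J` outside of `V_J`.
-/

set_option autoImplicit false
set_option linter.unusedSectionVars false

namespace Cfsg.Agent.H164.F4.NotRad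

open CoxeterSystem Cfsg.Agent.ChevalleyStructure.CoxeterGeom Cfsg.Agent.Tits.Roots Cfsg.Agent.Tits.Core
  Cfsg.Agent.Tits.RootComb Cfsg.Agent.Tits.Exchange Cfsg.Agent.Nodes.Reps Cfsg.Agent.Nodes.BNOf
  Cfsg.Agent.Nodes.StabComb Cfsg.Agent.Nodes.Bruhat Cfsg.Agent.Nodes.OppDec Cfsg.Agent.Nodes.LeviDec
  Cfsg.Agent.Nodes.Comb
open scoped commutatorElement

variable {I W Y : Type*} [Fintype I] [DecidableEq I] [Group W] [Group Y] {M : CoxeterMatrix I}
  {cs : CoxeterSystem M W} {A : I → I → ℤ} {h : IsCartan M A} {p : ℕ} {T : Subgroup Y} {n : I → Y}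
  {X : (I → ℤ) → Subgroup Y}

section Comb

variable {i j : I}

theorem pairing_sr : pairing A i (sr j) = A i j := by
  unfold pairing
  rw [Finset.sum_eq_single j]
  · rw [sr_self, mul_one]
  · intro k _ hk
    rw [sr_ne hk, mul_zero]
  · intro hk
    exact absurd (Finset.mem_univ j) hk

theorem rep_left (hA : A i j = -1) : rep cs h (cs.simple i) (sr j) = sr i + sr j := by
  rw [rep_simple_eq, pairing_sr, hA]
  module

theorem rep_sum_left (hA : A i j = -1) : rep cs h (cs.simple i) (sr i + sr j) = sr j := by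
  rw [map_add, rep_simple_sr, rep_left hA]
  module

theorem rep_sum_right (hA' : A j i = -1) : rep cs h (cs.simple j) (sr i + sr j) = sr i := by
  rw [add_comm, rep_sum_left hA']

/-- the six roots -/
def Six (i j : I) (x : I → ℤ) : Prop :=
  (x = sr i ∨ x = sr j ∨ x = sr i + sr j) ∨ (x = -sr i ∨ x = -sr j ∨ x = -(sr i + sr j))

omit [Fintype I] in
theorem Six.swap {x : I → ℤ} (hx : Six i j x) : Six j i x := by
  rcases hx with (h1 | h1 | h1) | (h1 | h1 | h1)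
  · exact Or.inl (Or.inr (Or.inl h1))
  · exact Or.inl (Or.inl h1)
  · exact Or.inl (Or.inr (Or.inr (by rw [h1, add_comm])))
  · exact Or.inr (Or.inr (Or.inl h1))
  · exact Or.inr (Or.inl h1)
  · exact Or.inr (Or.inr (Or.inr (by rw [h1, add_comm])))

theorem six_rep (hA : A i j = -1) {x : I → ℤ} (hx : Six i j x) : Six i j (rep cs h (cs.simple i) x) := by
  rcases hx with (h1 | h1 | h1) | (h1 | h1 | h1)
  · rw [h1, rep_simple_sr]; exact Or.inr (Or.inl rfl)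
  · rw [h1, rep_left hA]; exact Or.inl (Or.inr (Or.inr rfl))
  · rw [h1, rep_sum_left hA]; exact Or.inl (Or.inr (Or.inl rfl))
  · rw [h1, map_neg, rep_simple_sr, neg_neg]; exact Or.inl (Or.inl rfl)
  · rw [h1, map_neg, rep_left hA]; exact Or.inr (Or.inr (Or.inr rfl))
  · rw [h1, map_neg, rep_sum_left hA]; exact Or.inr (Or.inr (Or.inl rfl))

theorem six_rep_iff (hA : A i j = -1) {x : I → ℤ} : Six i j x ↔ Six i j (rep cs h (cs.simple i) x) := by
  refine ⟨six_rep hA, fun hx => ?_⟩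
  have h1 := six_rep (cs := cs) (h := h) hA hx
  rwa [← rep_mul_apply, cs.simple_mul_simple_self, map_one] at h1

theorem six_rep_WJ (hA : A i j = -1) (hA' : A j i = -1) {v : W} (hv : v ∈ WJ cs {i, j}) :
    ∀ x, Six i j x ↔ Six i j (rep cs h v x) := by
  refine Subgroup.closure_induction (p := fun v _ => ∀ x, Six i j x ↔ Six i j (rep cs h v x)) ?_ ?_ ?_ ?_ hv
  · rintro _ ⟨k, hk, rfl⟩ x
    rcases hk with rfl | hk
    · exact six_rep_iff hA
    · rw [Set.mem_singleton_iff] at hk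
      subst hk
      have h1 := six_rep_iff (cs := cs) (h := h) hA' (x := x)
      exact ⟨fun hx => (h1.1 hx.swap).swap, fun hx => (h1.2 hx.swap).swap⟩
  · intro x
    rw [map_one]
    rfl
  · intro a b _ _ ha hb x
    rw [rep_mul_apply]
    exact (hb x).trans (ha _)
  · intro a _ ha x
    rw [ha (rep cs h a⁻¹ x), ← rep_mul_apply, mul_inv_cancel, map_one]
    rfl

/-- the roots supported on `i, j` -/
theorem six_of_supp [Finite W] (hA : A i j = -1) (hA' : A j i = -1) {x : I → ℤ} (hx : IsRoot cs h x)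
    (hs : Supp i j x) : Six i j x := by
  obtain ⟨v, hv, k, hk, rfl⟩ := exists_of_supp cs h hx hs
  refine (six_rep_WJ hA hA' hv _).1 ?_
  rcases hk with rfl | rfl
  · exact Or.inl (Or.inl rfl)
  · exact Or.inl (Or.inr (Or.inl rfl))

/-- the positive roots supported on `i, j` -/
theorem pos_of_supp [Finite W] (hA : A i j = -1) (hA' : A j i = -1) {x : I → ℤ} (hx : IsRoot cs h x)
    (hs : Supp i j x) (h0 : 0 ≤ x) : x = sr i ∨ x = sr j ∨ x = sr i + sr j := by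
  rcases six_of_supp hA hA' hx hs with h1 | h1
  · exact h1
  · exfalso
    rcases h1 with rfl | rfl | rfl
    · have h2 : (0 : ℤ) ≤ (-sr i : I → ℤ) i := h0 i
      rw [Pi.neg_apply, sr_self] at h2
      omega
    · have h2 : (0 : ℤ) ≤ (-sr j : I → ℤ) j := h0 j
      rw [Pi.neg_apply, sr_self] at h2
      omega
    · have h2 : (0 : ℤ) ≤ (-(sr i + sr j) : I → ℤ) i := h0 i
      rw [Pi.neg_apply, Pi.add_apply, sr_self] at h2
      by_cases h3 : i = j
      · subst h3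
        rw [sr_self] at h2
        omega
      · rw [sr_ne h3] at h2
        omega

end Comb

section Main

variable {i j : I}

theorem UJ_single (k : I) : UJ cs h X {k} = X (sr k) := by
  apply le_antisymm
  · refine RGD.Sup_le fun z hz => ?_
    have h1 : z = sr k := by
      by_contra h2
      obtain ⟨l, hl, hl0⟩ := RGD.exists_coeff hz.1 hz.2.1 h2
      have := hz.2.2 l hl
      omega
    rw [h1]
  · refine RGD.le_Sup (S := PosJ cs h {k}) ⟨isRoot_sr cs h k, ?_, fun l hl => sr_ne hl⟩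
    intro l
    rw [Pi.zero_apply]
    by_cases hl : l = k
    · subst hl
      rw [sr_self]
      norm_num
    · rw [sr_ne hl]

variable (R : RGD cs h p T n X)

include R

theorem isRoot_sum (hA : A i j = -1) : IsRoot cs h (sr i + sr j) := by
  rw [← rep_left (cs := cs) (h := h) hA]
  exact (isRoot_sr cs h j).act _

theorem X_sum_le_VJ (hij : i ≠ j) (hA : A i j = -1) : X (sr i + sr j) ≤ VJ cs h X {j} := by
  refine RGD.le_Sup (S := NotJ cs h {j}) ⟨isRoot_sum R hA, ?_, i, hij, ?_⟩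
  · intro k
    rw [Pi.zero_apply, Pi.add_apply]
    have h1 : ∀ a b : I, 0 ≤ (sr b : I → ℤ) a := by
      intro a b
      by_cases hab : a = b
      · subst hab
        rw [sr_self]
        norm_num
      · rw [sr_ne hab]
    exact add_nonneg (h1 k i) (h1 k j)
  · rw [Pi.add_apply, sr_self, sr_ne hij]
    norm_num

theorem btw_bot_left (hij : i ≠ j) : _root_.Cfsg.Agent.Nodes.Reps.btw cs h X (sr j) (-sr i) = ⊥ := by
  rw [eq_bot_iff]
  unfold Cfsg.Agent.Nodes.Reps.btw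
  refine iSup_le ?_
  rintro ⟨z, hz, m, a, b, hm, ha, hb, e⟩
  exfalso
  have e1 := congrFun e i
  have e2 := congrFun e j
  simp only [Pi.add_apply, Pi.smul_apply, Pi.neg_apply, smul_eq_mul, sr_self, sr_ne hij, sr_ne hij.symm] at e1 e2
  have h1 : z i < 0 := by nlinarith only [hm, hb, e1]
  have h2 : 0 < z j := by nlinarith only [hm, ha, e2]
  rcases hz.pos_or_neg with h3 | h3
  · exact absurd (h3 i) (by simpa using h1)
  · exact absurd (h3 j) (by simpa using h2)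

/-- an element of `X_j` commuting with an element `≠ 1` of `X_i` -/
theorem eq_one_of_commute [Finite W] (hij : i ≠ j) (hA : A i j = -1) {a b : Y} (ha : a ∈ X (sr j)) (hb : b ∈ X (sr i))
    (hb1 : b ≠ 1) (hab : a * b = b * a) : a = 1 := by
  have hri := isRoot_sr cs h i
  have hrj := isRoot_sr cs h j
  have hc : cj (n i) (X (-sr i)) = X (sr i) := by
    rw [R.conj i _ hri.neg, map_neg, rep_simple_sr, neg_neg]
  have hc' : cj (n i) (X (sr i)) = X (-sr i) := by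
    rw [R.conj i _ hri, rep_simple_sr]
  have hu : (n i)⁻¹ * b * n i ∈ X (-sr i) := by
    rw [← hc] at hb
    exact mem_cj.1 hb
  have hu1 : (n i)⁻¹ * b * n i ≠ 1 := by
    intro h1
    apply hb1
    calc b = n i * ((n i)⁻¹ * b * n i) * (n i)⁻¹ := by group
      _ = 1 := by rw [h1]; group
  obtain ⟨a1, ha1, t, ht, b1, hb1', e⟩ := R.rk1 i _ hu hu1
  have hd : n i * a1 * (n i)⁻¹ ∈ X (-sr i) := by
    rw [← hc']
    exact conj_mem_cj.2 ha1
  have hd' : n i * b1 * (n i)⁻¹ ∈ X (-sr i) := by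
    rw [← hc']
    exact conj_mem_cj.2 hb1'
  have hcomm : ∀ d ∈ X (-sr i), a * d = d * a := by
    intro d hd
    have h1 := R.comm (sr j) (-sr i) hrj hri.neg (by
      intro h2
      have h3 := congrFun h2 i
      rw [Pi.neg_apply, sr_self, sr_ne hij] at h3
      omega) (by
      intro h2
      have h3 := congrFun h2 i
      rw [neg_neg, sr_self, sr_ne hij] at h3
      omega) a ha d hd
    rw [btw_bot_left R hij, Subgroup.mem_bot, commutatorElement_eq_one_iff_mul_comm] at h1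
    exact h1
  have hk : n i * t = (n i * a1 * (n i)⁻¹)⁻¹ * b * (n i * b1 * (n i)⁻¹)⁻¹ := by
    have e2 : b = n i * ((n i)⁻¹ * b * n i) * (n i)⁻¹ := by group
    rw [e] at e2
    rw [e2]
    group
  have hcomk : a * (n i * t) = n i * t * a := by
    have h1 := hcomm _ (inv_mem hd)
    have h2 := hcomm _ (inv_mem hd')
    rw [hk]
    calc a * ((n i * a1 * (n i)⁻¹)⁻¹ * b * (n i * b1 * (n i)⁻¹)⁻¹)
        = (a * (n i * a1 * (n i)⁻¹)⁻¹) * b * (n i * b1 * (n i)⁻¹)⁻¹ := by group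
      _ = (n i * a1 * (n i)⁻¹)⁻¹ * (a * b) * (n i * b1 * (n i)⁻¹)⁻¹ := by rw [h1]; group
      _ = (n i * a1 * (n i)⁻¹)⁻¹ * b * (a * (n i * b1 * (n i)⁻¹)⁻¹) := by rw [hab]; group
      _ = (n i * a1 * (n i)⁻¹)⁻¹ * b * (n i * b1 * (n i)⁻¹)⁻¹ * a := by rw [h2]; group
  have hm : a ∈ X (sr i + sr j) := by
    have h1 : cj (n i * t) (X (sr j)) = X (sr i + sr j) := by
      rw [cj_mul, R.tor _ hrj t ht, R.conj i _ hrj, rep_left hA]
    rw [← h1, mem_cj]
    have h2 : (n i * t)⁻¹ * a * (n i * t) = a := by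
      rw [mul_assoc, hcomk]
      group
    rw [h2]
    exact ha
  have h3 := UJ_inf_VJ R (T := T) (J := {j})
  rw [Subgroup.eq_bot_iff_forall] at h3
  refine h3 a ⟨?_, X_sum_le_VJ R hij hA hm⟩
  rw [UJ_single]
  exact ha

omit R in
theorem btwn_supp {x y z : I → ℤ} (hx : Supp i j x) (hy : Supp i j y) (hz : Btwn cs h x y z) : Supp i j z := by
  obtain ⟨-, m, a, b, hm, -, -, e⟩ := hz
  intro k h1 h2
  have e1 := congrFun e k
  rw [Pi.add_apply, Pi.smul_apply, Pi.smul_apply, Pi.smul_apply, hx k h1 h2, hy k h1 h2, smul_zero, smul_zero,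
    add_zero, smul_eq_mul] at e1
  exact (mul_eq_zero.1 e1).resolve_left hm.ne'

omit R in
theorem supp_sum : Supp i j (sr i + sr j) := fun k h1 h2 => by
  rw [Pi.add_apply, sr_ne h1, sr_ne h2, add_zero]

omit R in
theorem sr_nonneg (i : I) : (0 : I → ℤ) ≤ sr i := by
  intro k
  rw [Pi.zero_apply]
  by_cases hab : k = i
  · subst hab
    rw [sr_self]
    norm_num
  · rw [sr_ne hab]

/-- `X_(i+j)` commutes with `X_i` -/
theorem comm_sum [Finite W] (hij : i ≠ j) (hA : A i j = -1) (hA' : A j i = -1) {b c : Y} (hb : b ∈ X (sr i))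
    (hc : c ∈ X (sr i + sr j)) : b * c = c * b := by
  have hri := isRoot_sr cs h i
  have h1 := R.comm (sr i) (sr i + sr j) hri (isRoot_sum R hA) (by
      intro h2
      have h3 := congrFun h2 j
      rw [Pi.add_apply, sr_self, sr_ne hij.symm] at h3
      omega) (by
      intro h2
      have h3 := congrFun h2 i
      rw [Pi.neg_apply, Pi.add_apply, sr_self, sr_ne hij] at h3
      omega) b hb c hc
  have h2 : _root_.Cfsg.Agent.Nodes.Reps.btw cs h X (sr i) (sr i + sr j) = ⊥ := by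
    rw [eq_bot_iff]
    unfold Cfsg.Agent.Nodes.Reps.btw
    refine iSup_le ?_
    rintro ⟨z, hz⟩
    exfalso
    have h3 := btwn_supp (supp_sr_left i j) supp_sum hz
    have h4 := RGD.nonneg_of_btwn (sr_nonneg i) (add_nonneg (sr_nonneg i) (sr_nonneg j)) hz
    obtain ⟨hz', m, a, b, hm, ha, hb, e⟩ := hz
    have e1 := congrFun e i
    have e2 := congrFun e j
    simp only [Pi.add_apply, Pi.smul_apply, smul_eq_mul, sr_self, sr_ne hij, sr_ne hij.symm] at e1 e2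
    rcases pos_of_supp hA hA' hz' h3 h4 with h5 | h5 | h5
    · rw [h5] at e2
      rw [sr_ne hij.symm] at e2
      linarith only [hb, e2]
    · rw [h5] at e1
      rw [sr_ne hij] at e1
      linarith only [ha, hb, e1]
    · rw [h5] at e1 e2
      rw [Pi.add_apply, sr_self, sr_ne hij] at e1
      rw [Pi.add_apply, sr_self, sr_ne hij.symm] at e2
      linarith only [ha, e1, e2]
  rw [h2, Subgroup.mem_bot, commutatorElement_eq_one_iff_mul_comm] at h1
  exact h1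

/-- `[X_i, X_j] ≤ X_(i+j)` -/
theorem comm_mem [Finite W] (hij : i ≠ j) (hA : A i j = -1) (hA' : A j i = -1) {b a : Y} (hb : b ∈ X (sr i))
    (ha : a ∈ X (sr j)) : ⁅b, a⁆ ∈ X (sr i + sr j) := by
  have hri := isRoot_sr cs h i
  have hrj := isRoot_sr cs h j
  have h1 := R.comm (sr i) (sr j) hri hrj (by
      intro h2
      have h3 := congrFun h2 j
      rw [sr_self, sr_ne hij.symm] at h3
      omega) (by
      intro h2
      have h3 := congrFun h2 i
      rw [Pi.neg_apply, sr_self, sr_ne hij] at h3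
      omega) b hb a ha
  have h2 : _root_.Cfsg.Agent.Nodes.Reps.btw cs h X (sr i) (sr j) ≤ X (sr i + sr j) := by
    unfold Cfsg.Agent.Nodes.Reps.btw
    refine iSup_le ?_
    rintro ⟨z, hz⟩
    have h3 := btwn_supp (supp_sr_left i j) (supp_sr_right i j) hz
    have h4 := RGD.nonneg_of_btwn (sr_nonneg i) (sr_nonneg j) hz
    obtain ⟨hz', m, a, b, hm, ha, hb, e⟩ := hz
    have e1 := congrFun e i
    have e2 := congrFun e j
    simp only [Pi.add_apply, Pi.smul_apply, smul_eq_mul, sr_self, sr_ne hij, sr_ne hij.symm] at e1 e2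
    rcases pos_of_supp hA hA' hz' h3 h4 with h5 | h5 | h5
    · exfalso
      rw [h5] at e2
      rw [sr_ne hij.symm] at e2
      linarith only [hb, e2]
    · exfalso
      rw [h5] at e1
      rw [sr_ne hij] at e1
      linarith only [ha, e1]
    · change X z ≤ _
      rw [h5]
  exact h2 h1

/-- the commutators `[X_i, a]` fill `X_(i+j)` -/
theorem exists_conj_eq [Finite W] [Finite Y] (hij : i ≠ j) (hA : A i j = -1) (hA' : A j i = -1) {a c : Y}
    (ha : a ∈ X (sr j)) (ha1 : a ≠ 1) (hc : c ∈ X (sr i + sr j)) : ∃ b ∈ X (sr i), b * (a * c) * b⁻¹ = a := by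
  have hcard : Nat.card ↥(X (sr i)) = Nat.card ↥(X (sr i + sr j)) := by
    have h1 : cj (n j) (X (sr i)) = X (sr i + sr j) := by
      rw [R.conj j _ (isRoot_sr cs h i), rep_left hA', add_comm]
    rw [← h1]
    exact Nat.card_congr ((X (sr i)).equivMapOfInjective _ (MulAut.conj (n j)).injective).toEquiv
  let F : ↥(X (sr i)) → ↥(X (sr i + sr j)) := fun b => ⟨⁅(b : Y), a⁆, comm_mem R hij hA hA' b.2 ha⟩
  have hF : Function.Injective F := by
    intro b b' hbb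
    have h1 : ⁅(b : Y), a⁆ = ⁅(b' : Y), a⁆ := congrArg Subtype.val hbb
    rw [commutatorElement_def, commutatorElement_def] at h1
    have h2 : (b : Y) * a * (b : Y)⁻¹ = b' * a * (b' : Y)⁻¹ := mul_right_cancel h1
    have h3 : a * ((b' : Y)⁻¹ * b) = (b' : Y)⁻¹ * b * a := by
      calc a * ((b' : Y)⁻¹ * b) = (b' : Y)⁻¹ * (b' * a * (b' : Y)⁻¹) * b := by group
        _ = (b' : Y)⁻¹ * (b * a * (b : Y)⁻¹) * b := by rw [h2]
        _ = _ := by group
    by_contra hne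
    refine ha1 (eq_one_of_commute R hij hA ha (mul_mem (inv_mem b'.2) b.2) ?_ h3)
    intro h4
    apply hne
    apply Subtype.ext
    calc (b : Y) = b' * ((b' : Y)⁻¹ * b) := by group
      _ = b' := by rw [h4, mul_one]
  have hsur : Function.Surjective F := by
    have : Finite ↥(X (sr i)) := inferInstance
    have h1 := Nat.bijective_iff_injective_and_card F
    exact (h1.2 ⟨hF, hcard⟩).2
  obtain ⟨⟨b, hb⟩, e⟩ := hsur ⟨c⁻¹, inv_mem hc⟩
  have e' : ⁅b, a⁆ = c⁻¹ := congrArg Subtype.val e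
  refine ⟨b, hb, ?_⟩
  have h1 := comm_sum R hij hA hA' hb hc
  -- `a` commutes with `X_(i+j)`
  have h2 : a * c = c * a := comm_sum R (i := j) (j := i) hij.symm hA' hA ha (by rw [add_comm]; exact hc)
  have h3 : b * a * b⁻¹ = c⁻¹ * a := by
    rw [← e', commutatorElement_def]
    group
  calc b * (a * c) * b⁻¹ = (b * a * b⁻¹) * (b * c * b⁻¹) := by group
    _ = (c⁻¹ * a) * c := by rw [h3, h1]; group
    _ = c⁻¹ * (a * c) := by group
    _ = a := by rw [h2]; group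

omit R in
theorem VJ_le_VJ {J J' : Set I} (hJ : J' ⊆ J) : VJ cs h X J ≤ VJ cs h X J' :=
  RGD.Sup_mono fun _ ⟨h1, h2, k, hk, h3⟩ => ⟨h1, h2, k, fun h4 => hk (hJ h4), h3⟩

theorem eq_one_of_UJ_VJ [Finite W] {J : Set I} {x : Y} (h1 : x ∈ UJ cs h X J) (h2 : x ∈ VJ cs h X J) : x = 1 := by
  have h3 := UJ_inf_VJ R (T := T) (J := J)
  rw [Subgroup.eq_bot_iff_forall] at h3
  exact h3 x ⟨h1, h2⟩

/-- the conjugate by a representative of `s_j` stays in `V_J` -/
theorem step [Finite W] [Finite Y] (hij : i ≠ j) (hA : A i j = -1) (hA' : A j i = -1) {g : Y}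
    (hg : g ∈ VJ cs h X {k | k ≠ j})
    (hQ : ∀ y, y * g * y⁻¹ ∈ PJ cs h T X {k | k ≠ j} → y * g * y⁻¹ ∈ VJ cs h X {k | k ≠ j}) :
    n j * g * (n j)⁻¹ ∈ VJ cs h X {k | k ≠ j} := by
  have hri := isRoot_sr cs h i
  have hrj := isRoot_sr cs h j
  have hUP : RGD.Sup X (RGD.Pos cs h) ≤ PJ cs h T X {k | k ≠ j} := le_trans RGD.U_le_B B_le_PJ
  have hgU : g ∈ RGD.Sup X (RGD.Pos cs h) := VJ_le_U _ hg
  obtain ⟨a, ha, v, hv, hgav⟩ := (mem_U_iff R (T := T) (J := {j})).1 hgU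
  have hnj : n j ∈ LJ cs h T X {j} := n_mem_LJ R (Set.mem_singleton j)
  by_cases ha1 : a = 1
  · -- the easy case
    refine hQ _ (hUP (VJ_le_U {j} ?_))
    rw [ha1, one_mul] at hgav
    rw [hgav]
    exact (Subgroup.mem_normalizer_iff.1 (LJ_le_normalizer_VJ R {j} hnj) v).1 hv
  · exfalso
    rw [UJ_single] at ha
    have hVi : VJ cs h X {k | k ≠ j} ≤ VJ cs h X {i} := VJ_le_VJ (by
      rintro k hk
      rw [Set.mem_singleton_iff] at hk
      rw [hk]
      exact hij)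
    have hVij : VJ cs h X {i, j} ≤ VJ cs h X {i} := VJ_le_VJ (by
      rintro k hk
      rw [Set.mem_singleton_iff] at hk
      rw [hk]
      exact Or.inl rfl)
    have hVij' : VJ cs h X {i, j} ≤ VJ cs h X {j} := VJ_le_VJ (by
      rintro k hk
      rw [Set.mem_singleton_iff] at hk
      rw [hk]
      exact Or.inr rfl)
    obtain ⟨u, hu, v2, hv2, hguv⟩ := (mem_U_iff R (T := T) (J := {i, j})).1 hgU
    -- the roots of `{i, j}`
    have hsupp : ∀ z ∈ PosJ cs h {i, j}, z = sr i ∨ z = sr j ∨ z = sr i + sr j := fun z hz =>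
      pos_of_supp hA hA' hz.1 (fun k h1 h2 => hz.2.2 k (by
        rintro (h3 | h3)
        · exact h1 h3
        · exact h2 h3)) hz.2.1
    have hPi : sr i ∈ PosJ cs h {i, j} := ⟨hri, sr_nonneg i, fun k hk => sr_ne fun h1 => hk (Or.inl h1)⟩
    have hPj : sr j ∈ PosJ cs h {i, j} := ⟨hrj, sr_nonneg j, fun k hk => sr_ne fun h1 => hk (Or.inr h1)⟩
    have hclos : ∀ x ∈ PosJ cs h {i, j}, ∀ y ∈ PosJ cs h {i, j}, ∀ z, Btwn cs h x y z → z ∈ PosJ cs h {i, j} := by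
      intro x hx y hy z hz
      refine ⟨hz.1, RGD.nonneg_of_btwn hx.2.1 hy.2.1 hz, fun k hk => ?_⟩
      obtain ⟨-, m, a, b, hm, -, -, e⟩ := hz
      have e1 := congrFun e k
      rw [Pi.add_apply, Pi.smul_apply, Pi.smul_apply, Pi.smul_apply, hx.2.2 k hk, hy.2.2 k hk, smul_zero, smul_zero,
        add_zero, smul_eq_mul] at e1
      exact (mul_eq_zero.1 e1).resolve_left hm.ne'
    obtain ⟨r, hr, u', hu', hur⟩ := exists_mul R (S := PosJ cs h {i, j}) (i := i) (fun x hx => ⟨hx.1, hx.2.1⟩) hPi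
      (fun y hy _ z hz => hclos _ hPi _ hy z hz) hu
    -- `u' = 1`
    have hrV : RGD.Sup X (PosJ cs h {i, j} \ {sr i}) ≤ VJ cs h X {i} := by
      refine RGD.Sup_mono fun z hz => ⟨hz.1.1, hz.1.2.1, ?_⟩
      obtain ⟨k, hk, hk0⟩ := RGD.exists_coeff hz.1.1 hz.1.2.1 (fun h1 => hz.2 h1)
      exact ⟨k, hk, hk0⟩
    have hu'1 : u' = 1 := by
      refine eq_one_of_UJ_VJ R (J := {i}) ?_ ?_
      · rw [UJ_single]
        exact hu'
      · have e : u' = r⁻¹ * (g * v2⁻¹) := by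
          rw [hguv, hur]
          group
        rw [e]
        exact mul_mem (inv_mem (hrV hr)) (mul_mem (hVi hg) (inv_mem (hVij hv2)))
    rw [hu'1, mul_one] at hur
    subst hur
    -- `u = c a'`
    have hS2 : ∀ z ∈ PosJ cs h {i, j} \ {sr i}, z = sr j ∨ z = sr i + sr j := by
      intro z hz
      rcases hsupp z hz.1 with h1 | h1 | h1
      · exact absurd h1 hz.2
      · exact Or.inl h1
      · exact Or.inr h1
    obtain ⟨c, hc, a', ha', hua⟩ := exists_mul R (S := PosJ cs h {i, j} \ {sr i}) (i := j)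
      (fun x hx => ⟨hx.1.1, hx.1.2.1⟩) ⟨hPj, fun h1 => by
        have h2 := congrFun (Set.mem_singleton_iff.1 h1) i
        rw [sr_self, sr_ne hij] at h2
        omega⟩
      (fun y hy hyj z hz => ⟨hclos _ hPj _ hy.1 z hz, fun h1 => by
        rw [Set.mem_singleton_iff] at h1
        obtain ⟨-, m, a, b, hm, ha0, hb0, e⟩ := hz
        have e1 := congrFun e j
        rw [h1, Pi.add_apply, Pi.smul_apply, Pi.smul_apply, Pi.smul_apply, sr_self, sr_ne hij.symm] at e1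
        have h3 := hy.1.2.1 j
        simp only [smul_eq_mul, Pi.zero_apply, mul_zero, mul_one] at e1 h3
        linarith only [ha0, e1, mul_nonneg hb0.le h3]⟩) hr
    have hc' : c ∈ X (sr i + sr j) := by
      refine (RGD.Sup_le (K := X (sr i + sr j)) fun z hz => ?_) hc
      rcases hS2 z hz.1 with h1 | h1
      · exact absurd h1 hz.2
      · rw [h1]
    have hcV := X_sum_le_VJ R hij hA hc'
    have hca : a' * c = c * a' :=
      comm_sum R (i := j) (j := i) hij.symm hA' hA ha' (by rw [add_comm]; exact hc')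
    -- `a' = a`
    have haa : a'⁻¹ * a = 1 := by
      refine eq_one_of_UJ_VJ R (J := {j}) ?_ ?_
      · rw [UJ_single]
        exact mul_mem (inv_mem ha') ha
      · have e : a'⁻¹ * a = c * v2 * v⁻¹ := by
          have e1 : a = g * v⁻¹ := by rw [hgav]; group
          rw [e1, hguv, hua, ← hca]
          group
        rw [e]
        exact mul_mem (mul_mem hcV (hVij' hv2)) (inv_mem hv)
    have ha'1 : a' ≠ 1 := by
      rintro rfl
      rw [inv_one, one_mul] at haa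
      exact ha1 haa
    obtain ⟨b, hb, hbc⟩ := exists_conj_eq R hij hA hA' ha' ha'1 hc'
    -- the conjugate
    have hbL : b ∈ LJ cs h T X {i, j} := X_le_LJ (PosJ_subset _ hPi) hb
    have hv3 : b * v2 * b⁻¹ ∈ VJ cs h X {i, j} :=
      (Subgroup.mem_normalizer_iff.1 (LJ_le_normalizer_VJ R {i, j} hbL) v2).1 hv2
    have hmL : n j * n i ∈ LJ cs h T X {i, j} :=
      mul_mem (n_mem_LJ R (Or.inr rfl)) (n_mem_LJ R (Or.inl rfl))
    have hv4 : (n j * n i) * (b * v2 * b⁻¹) * (n j * n i)⁻¹ ∈ VJ cs h X {i, j} :=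
      (Subgroup.mem_normalizer_iff.1 (LJ_le_normalizer_VJ R {i, j} hmL) _).1 hv3
    have hx : (n j * n i) * a' * (n j * n i)⁻¹ ∈ X (sr i) := by
      have h1 : cj (n j * n i) (X (sr j)) = X (sr i) := by
        rw [cj_mul, R.conj i _ hrj, rep_left hA, R.conj j _ (isRoot_sum R hA), rep_sum_right hA']
      rw [← h1]
      exact conj_mem_cj.2 ha'
    have e : n j * n i * b * g * (n j * n i * b)⁻¹ =
        ((n j * n i) * a' * (n j * n i)⁻¹) * ((n j * n i) * (b * v2 * b⁻¹) * (n j * n i)⁻¹) := by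
      have e1 : g = a' * c * v2 := by rw [hguv, hua, hca]
      calc n j * n i * b * g * (n j * n i * b)⁻¹
          = (n j * n i) * ((b * (a' * c) * b⁻¹) * (b * v2 * b⁻¹)) * (n j * n i)⁻¹ := by rw [e1]; group
        _ = _ := by rw [hbc]; group
    have hP : n j * n i * b * g * (n j * n i * b)⁻¹ ∈ PJ cs h T X {k | k ≠ j} := by
      rw [e]
      exact mul_mem (hUP (RGD.le_Sup (S := RGD.Pos cs h) ⟨hri, sr_nonneg i⟩ hx)) (hUP (VJ_le_U _ hv4))
    have h5 := hVi (hQ _ hP)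
    have h6 : (n j * n i) * a' * (n j * n i)⁻¹ = 1 := by
      refine eq_one_of_UJ_VJ R (J := {i}) ?_ ?_
      · rw [UJ_single]
        exact hx
      · have e2 : (n j * n i) * a' * (n j * n i)⁻¹ = n j * n i * b * g * (n j * n i * b)⁻¹ *
            ((n j * n i) * (b * v2 * b⁻¹) * (n j * n i)⁻¹)⁻¹ := by
          rw [e]
          group
        rw [e2]
        exact mul_mem h5 (inv_mem (hVij hv4))
    apply ha'1
    calc a' = (n j * n i)⁻¹ * ((n j * n i) * a' * (n j * n i)⁻¹) * (n j * n i) := by group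
      _ = 1 := by rw [h6]; group

/-- **Elements of a maximal parabolic subgroup can be moved out of the radical.** -/
theorem exists_notMem [Finite W] [Finite Y] (hG : GG cs h T X = ⊤) (hij : i ≠ j) (hA : A i j = -1)
    (hA' : A j i = -1) {g : Y} (h1 : g ≠ 1) (hg : ∃ y, y * g * y⁻¹ ∈ PJ cs h T X {k | k ≠ j}) :
    ∃ y, y * g * y⁻¹ ∈ PJ cs h T X {k | k ≠ j} ∧ y * g * y⁻¹ ∉ VJ cs h X {k | k ≠ j} := by
  by_contra hcon
  push Not at hcon
  have hPn := PJ_le_normalizer_VJ R (T := T) {k | k ≠ j}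
  have key : ∀ p ∈ PJ cs h T X {k | k ≠ j}, ∀ y, y * g * y⁻¹ ∈ VJ cs h X {k | k ≠ j} →
      p * y * g * (p * y)⁻¹ ∈ VJ cs h X {k | k ≠ j} := by
    intro p hp y hy
    have h2 := (Subgroup.mem_normalizer_iff.1 (hPn hp) _).1 hy
    rwa [show p * (y * g * y⁻¹) * p⁻¹ = p * y * g * (p * y)⁻¹ by group] at h2
  have key2 : ∀ y, y * g * y⁻¹ ∈ VJ cs h X {k | k ≠ j} → n j * y * g * (n j * y)⁻¹ ∈ VJ cs h X {k | k ≠ j} := by
    intro y hy
    have h2 := step R hij hA hA' hy (fun z hz => by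
      have h3 := hcon (z * y)
      rw [show z * y * g * (z * y)⁻¹ = z * (y * g * y⁻¹) * z⁻¹ by group] at h3
      exact h3 hz)
    rwa [show n j * (y * g * y⁻¹) * (n j)⁻¹ = n j * y * g * (n j * y)⁻¹ by group] at h2
  let H : Subgroup Y :=
    { carrier := {k | ∀ y, y * g * y⁻¹ ∈ VJ cs h X {k | k ≠ j} ↔ k * y * g * (k * y)⁻¹ ∈ VJ cs h X {k | k ≠ j}}
      one_mem' := by intro y; rw [one_mul]
      mul_mem' := by
        intro a b ha hb y
        rw [hb y, ha (b * y), mul_assoc a b y]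
      inv_mem' := by
        intro a ha y
        have h2 := ha (a⁻¹ * y)
        rw [mul_inv_cancel_left] at h2
        exact h2.symm }
  have hPH : PJ cs h T X {k | k ≠ j} ≤ H := by
    intro p hp y
    refine ⟨key p hp y, fun h2 => ?_⟩
    have h3 := key p⁻¹ (inv_mem hp) (p * y) h2
    rwa [inv_mul_cancel_left] at h3
  have hnH : n j ∈ H := by
    intro y
    refine ⟨key2 y, fun h2 => ?_⟩
    have h3 := key2 _ h2
    -- `n_j² ∈ T`
    have h4 : (n j * n j) ∈ T := by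
      have h5 := R.nsys.rel j j
      rw [M.diagonal, pow_one] at h5
      exact h5
    have h5 : n j * n j ∈ PJ cs h T X {k | k ≠ j} := LJ_le_PJ (T_le_LJ h4)
    have h6 := key _ (inv_mem h5) _ h3
    rwa [show (n j * n j)⁻¹ * (n j * (n j * y)) = y by group] at h6
  have htop : H = ⊤ := by
    have h2 := inf_eq_PJ R (P := H) (le_trans B_le_PJ hPH)
    rw [hG, inf_top_eq] at h2
    rw [h2]
    have h3 : {k | n k ∈ H} = (Set.univ : Set I) := by
      ext k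
      simp only [Set.mem_univ, iff_true, Set.mem_ofPred_eq]
      by_cases hk : k = j
      · rw [hk]
        exact hnH
      · exact hPH (LJ_le_PJ (n_mem_LJ R hk))
    rw [h3, eq_top_iff, ← hG, ← LJ_univ (cs := cs) (h := h) (T := T) (X := X)]
    exact LJ_le_PJ
  obtain ⟨y₀, hy₀⟩ := hg
  have hall : ∀ y, y * g * y⁻¹ ∈ VJ cs h X {k | k ≠ j} := by
    intro y
    have h2 : y * y₀⁻¹ ∈ H := by rw [htop]; exact Subgroup.mem_top _
    have h3 := (h2 y₀).1 (hcon _ hy₀)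
    rwa [inv_mul_cancel_right] at h3
  -- the core is trivial
  obtain ⟨k, hk⟩ := exists_rp cs R.nsys (w0 cs)
  have h2 : g ∈ RGD.Sup X (RGD.Pos cs h) := by
    have h3 := VJ_le_U _ (hall 1)
    rwa [one_mul, inv_one, mul_one] at h3
  have h3 : g ∈ UN cs h X := by
    rw [← cj_U R hk, mem_cj]
    have h4 := VJ_le_U _ (hall k⁻¹)
    rwa [inv_inv] at h4
  exact h1 (eq_one_of_mem_U_of_mem_BN R h2 (UN_le_BN h3))

end Main

end Cfsg.Agent.H164.F4.NotRad
end

-- part: H164/F4/Out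
section
/-!
# S2491, row F4, box K3 (and (e)): elements of `P_1` and `P_4` can be moved out of the radical (helper164)
-/

set_option autoImplicit false

namespace Cfsg.Agent.H164.F4.OutV

open CoxeterSystem Cfsg.Agent.ChevalleyStructure.CoxeterGeom Cfsg.Agent.Tits.Roots Cfsg.Agent.Tits.Core
  Cfsg.Agent.Nodes Cfsg.Agent.Nodes.Reps Cfsg.Agent.Nodes.BNOf Cfsg.Agent.Nodes.RGDLib Cfsg.Agent.Nodes.Bruhat
  Cfsg.Agent.Nodes.OppDec Cfsg.Agent.Nodes.LeviDec Cfsg.Agent.Nodes.StabComb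
open Cfsg.Lie Subgroup
open Cfsg.Agent.H231.QF

universe u

variable {F : Type u} [Field F] [Fintype F] (hF : Fintype.card F = 4) {φ : F →+* F} (hφ : ∀ t, φ t = t ^ 2)

include hF hφ

omit hφ in
theorem charTwo : CharP F 2 := by
  obtain ⟨p, hp⟩ := CharP.exists F
  have hpp : p.Prime := (CharP.char_is_prime_or_zero F p).resolve_right (CharP.char_ne_zero_of_finite F p)
  have : Fact p.Prime := ⟨hpp⟩
  obtain ⟨n, -, hn⟩ := FiniteField.card F p
  rw [hF] at hn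
  have h1 : p ∣ 2 ^ 2 := by
    rw [show (2 : ℕ) ^ 2 = 4 by norm_num, hn]
    exact dvd_pow_self p n.ne_zero
  have h2 := (Nat.prime_dvd_prime_iff_eq hpp Nat.prime_two).1 (hpp.dvd_of_dvd_pow h1)
  rw [← h2]
  exact hp

omit hφ in
theorem hqq (t : F) : (t ^ 2) ^ 2 = t := by
  rw [← pow_mul]
  have := FiniteField.pow_card t
  rwa [hF] at this

theorem gg_top : GG cs RGDTwE6.isCartan (RGDTwE6.T F 2) (X φ) = ⊤ := by
  rw [eq_top_iff, ← RGDTwE6.G1_eq_top cs (φ := φ) (q := 2) hφ (hqq hF)]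
  exact le_sup_right

theorem out_of {i j : Fin 4} (hij : i ≠ j) (hA : RGDTwE6.A i j = -1) (hA' : RGDTwE6.A j i = -1) (g : KK F)
    (h1 : g ≠ 1) (hg : Cfsg.Agent.H231.QF.In φ {k | k ≠ j} g) : Cfsg.Agent.H231.QF.Out φ {k | k ≠ j} g := by
  have : CharP F 2 := charTwo hF
  have : Fact (Nat.Prime 2) := ⟨Nat.prime_two⟩
  have : Finite (KK F) := inferInstance
  have : Finite CoxeterMatrix.F₄.Group :=
    Cfsg.Agent.Nodes.RGDFold.finite_W (hp := RGDTwE6.hp) cs RGDTwE6.isCartan RGDTwE6.foldData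
  exact NotRad.exists_notMem (RGDTwE6.rgd cs hφ (hqq hF) 2) (gg_top hF hφ) hij hA hA' h1 hg

/-- an element `≠ 1` with a conjugate in `P_1` has a conjugate in `P_1 \ V_1` -/
theorem out_one (g : KK F) (h1 : g ≠ 1) (hg : Cfsg.Agent.H231.QF.In φ j1 g) : Cfsg.Agent.H231.QF.Out φ j1 g :=
  out_of hF hφ (i := 1) (j := 0) (by decide) (by decide) (by decide) g h1 hg

/-- K3 -/
theorem out_of_V1 (g : KK F) (hg : g ∈ V φ j1) (h1 : g ≠ 1) : Cfsg.Agent.H231.QF.Out φ j1 g :=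
  out_one hF hφ g h1 ⟨1, by
    rw [one_mul, inv_one, mul_one]
    exact VJ_le_PJ hg⟩

end Cfsg.Agent.H164.F4.OutV
end

private theorem dce_4e7e067d2037 : _root_.True := by
  try have : _root_.True := by simp only [_root_.Cfsg.Agent.Nodes.LeviDec.VJ.congr_simp]
  exact _root_.True.intro
end

-- part: H590/F4/Layer_mg
section
prune_inst 0xd42023054722000000040012600040910100000000400c0815a50042004e9262090020004c20180b400008102005000813440010020000000084040000000000008050020300019506000e802008415000385000000000000000000000041000014010000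
set_option linter.all false
open scoped Cfsg.Agent.FastGrp

-- part: KFacts/TwESix/CentOrth
section
/-!
# Centralisers in `²E₆(q)`: two orthogonal long roots (helper622)

`R` a root group datum of type `F₄` with `Facts.Dat R`, `NoCent`; `r ⟂ s` long roots.

* `k0_fix` : `C(N_rs) ≤ ⟨X z : (z, b0) = 2⟩` for `r = ρ`, `s = s0`, `r + s = 2 b0`, `N_rs = ⟨X a : ⟨a, r^∨⟩ + ⟨a, s^∨⟩ > 0⟩`;
* **`aut_k0`** : an automorphism which centralises `N_rs` and all `X a`, `a ⟂ r, s`, is conjugation by an element of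
  `X r X s`.
-/

set_option autoImplicit false
set_option linter.unusedSectionVars false

namespace Cfsg.Agent.KFacts.TwESix.CentOrth

open CoxeterSystem Cfsg.Agent.ChevalleyStructure.CoxeterGeom Cfsg.Agent.Tits.Roots Cfsg.Agent.Tits.Core
  Cfsg.Agent.Tits.RootComb Cfsg.Agent.Tits.Exchange Cfsg.Agent.Nodes.Reps Cfsg.Agent.Nodes.BNOf
  Cfsg.Agent.Nodes.StabComb Cfsg.Agent.Nodes.Bruhat Cfsg.Agent.Nodes.OppDec Cfsg.Agent.Nodes.LeviDec
  Cfsg.Agent.Nodes.Coroot Cfsg.Agent.KFacts.RgdSL Cfsg.Agent.KFacts.RgdTI Cfsg.Agent.KFacts.RgdCent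
  Cfsg.Agent.KFacts.RgdEx
  Cfsg.Agent.KFacts.RgdCentW Cfsg.Agent.Nodes.RGDTwE6 Cfsg.Agent.KFacts.TwESix.Comb
  Cfsg.Agent.KFacts.TwESix.CombRho Cfsg.Agent.KFacts.TwESix.Facts
open scoped commutatorElement

/-! ### Combinatorics -/

/-- `(ρ + s0) / 2` -/
def b0 : Fin 4 → ℤ := ![1, 2, 3, 2]

set_option maxRecDepth 20000

theorem c1 : ∀ b ∈ rts, (∀ a ∈ rts, bf a a = 4 → bf a b0 = 2 → 0 ≤ bf b a) → 0 < bf b b0 := by decide +kernel

theorem c2 : ∀ z ∈ rts, bf z b0 = 2 → ∀ a ∈ rts, 0 < bf a b0 → (bf z z = 4 ∧ 0 ≤ bf a z) ∨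
    (bf z z = 2 ∧ ((bf a a = 4 ∧ 0 ≤ bf z a) ∨ (bf a a = 2 ∧ (a = z ∨ bf z a = 1)))) := by decide +kernel

theorem c3 : ∀ b ∈ rts, 0 < bf b b0 → bf b b0 = 2 ∨ (bf b b0 = 1 ∧ bf b b = 2) := by decide +kernel

theorem c4 : ∀ b ∈ rts, bf b b0 = 1 → ∀ y ∈ rts, bf y b0 = 1 → y = b ∨ bf b y = 1 ∨ bf b y = 0 ∨ bf b y = -1 := by
  decide +kernel

theorem c10 : ∀ z ∈ rts, bf z b0 = 2 → ∀ w ∈ rts, 0 < bf w b0 → (w = z ∨ bf z w ≤ 2) := by decide +kernel

variable {W Y : Type*} [Group W] [Group Y] {cs : CoxeterSystem CoxeterMatrix.F₄ W} {T : Subgroup Y} {n : Fin 4 → Y}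
  {X : (Fin 4 → ℤ) → Subgroup Y} {R : RGD cs isCartan 2 T n X}

/-- level 2 -/
def S2 (cs : CoxeterSystem CoxeterMatrix.F₄ W) : Set (Fin 4 → ℤ) := {z | IsRoot cs isCartan z ∧ bf z b0 = 2}

/-- level 1 -/
def S1 (cs : CoxeterSystem CoxeterMatrix.F₄ W) : Set (Fin 4 → ℤ) := {z | IsRoot cs isCartan z ∧ bf z b0 = 1}

theorem S1_short {b : Fin 4 → ℤ} (hb : b ∈ S1 cs) : bf b b = 2 := by
  have hb' : bf b b0 = 1 := hb.2
  rcases c3 b ((mem_rts cs).1 hb.1) (by omega) with h | h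
  · omega
  · exact h.2

theorem pos_cases {b : Fin 4 → ℤ} (hb : IsRoot cs isCartan b) (h : 0 < bf b b0) : b ∈ S2 cs ∨ b ∈ S1 cs := by
  rcases c3 b ((mem_rts cs).1 hb) h with h1 | h1
  · exact Or.inl ⟨hb, h1⟩
  · exact Or.inr ⟨hb, h1.1⟩

theorem closed_S2 : Nodes.Unique.Closed cs isCartan (S2 cs) := by
  intro x hx y hy w hw
  obtain ⟨hwr, m, a, b, hm, ha, hb, he⟩ := hw
  have e1 : m * bf w b0 = 2 * a + 2 * b := by
    have := congrArg (fun v => bf v b0) he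
    simp only [bf_add_left, bf_smul_left] at this
    rw [this, hx.2, hy.2]; ring
  have hwpos : 0 < bf w b0 := by
    have : 0 < m * bf w b0 := by rw [e1]; linarith
    exact (mul_pos_iff_of_pos_left hm).1 this
  have e2 : m * bf w w = a * bf x w + b * bf y w := by
    have h2 := congrArg (fun v => bf v w) he
    simpa only [bf_add_left, bf_smul_left] using h2
  rcases pos_cases hwr hwpos with h | h
  · exact h
  exfalso
  have hws := S1_short h
  have h1 : bf w b0 = 1 := h.2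
  rw [h1, mul_one] at e1
  have hxw : bf x w ≤ 2 := by
    rcases c10 x ((mem_rts cs).1 hx.1) hx.2 w ((mem_rts cs).1 hwr) hwpos with h2 | h2
    · rw [h2, hx.2] at h1; omega
    · exact h2
  have hyw : bf y w ≤ 2 := by
    rcases c10 y ((mem_rts cs).1 hy.1) hy.2 w ((mem_rts cs).1 hwr) hwpos with h2 | h2
    · rw [h2, hy.2] at h1; omega
    · exact h2
  rw [hws] at e2
  nlinarith only [ha, hb, e1, e2, hxw, hyw]

/-! ### Peeling off one factor -/

/-- a root group normalising a group generated by root groups -/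
theorem conj_mem_of_comm {B : Set (Fin 4 → ℤ)} {g : Y} (h : ∀ b ∈ B, ∀ u ∈ X b, ⁅g, u⁆ ∈ RGD.Sup X B) :
    ∀ a ∈ RGD.Sup X B, g * a * g⁻¹ ∈ RGD.Sup X B := by
  have hle : RGD.Sup X B ≤ (RGD.Sup X B).comap (MulAut.conj g).toMonoidHom := RGD.Sup_le fun b hb u hu => by
    show g * u * g⁻¹ ∈ RGD.Sup X B
    have e : g * u * g⁻¹ = ⁅g, u⁆ * u := by rw [commutatorElement_def]; group
    rw [e]
    exact mul_mem (h b hb u hu) (RGD.le_Sup hb hu)
  exact fun a ha => hle ha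

section Main

variable (D : Dat R)

include D

/-- level 2 is central -/
theorem comm_S2 {z a : Fin 4 → ℤ} (hz : z ∈ S2 cs) (ha : IsRoot cs isCartan a) (ha0 : 0 < bf a b0) {u v : Y}
    (hu : u ∈ X z) (hv : v ∈ X a) : u * v = v * u := by
  rcases c2 z ((mem_rts cs).1 hz.1) hz.2 a ((mem_rts cs).1 ha) ha0 with ⟨h1, h2⟩ | ⟨h1, ⟨h2, h3⟩ | ⟨h2, h3⟩⟩
  · exact (comm_long D ha hz.1 h1 h2 hv hu).symm
  · exact comm_long D hz.1 ha h2 h3 hu hv
  · rcases h3 with h3 | h3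
    · rw [h3] at hv
      exact abel R hz.1 hu hv
    · exact comm_60 R hz.1 ha h1 h2 h3 hu hv

theorem comm_Sup_S2 {B : Set (Fin 4 → ℤ)} (hB : B ⊆ S2 cs) {a : Fin 4 → ℤ} (ha : IsRoot cs isCartan a)
    (ha0 : 0 < bf a b0) {u v : Y} (hu : u ∈ RGD.Sup X B) (hv : v ∈ X a) : u * v = v * u := by
  have h1 : RGD.Sup X B ≤ Subgroup.centralizer {v} := RGD.Sup_le fun b hb u hu => by
    rw [Subgroup.mem_centralizer_singleton_iff]
    exact comm_S2 D (hB hb) ha ha0 hu hv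
  exact Subgroup.mem_centralizer_singleton_iff.1 (h1 hu)

/-- the commutators of level 1 -/
theorem comm_S1 {b y : Fin 4 → ℤ} (hb : b ∈ S1 cs) (hy : y ∈ S1 cs) {u v : Y} (hu : u ∈ X b) (hv : v ∈ X y) :
    u * v = v * u ∨ (b + y ∈ S2 cs ∧ ⁅u, v⁆ ∈ X (b + y)) := by
  have : Finite W := finiteW cs
  have hbb := S1_short hb
  have hyy := S1_short hy
  have hlev : bf (b + y) b0 = 2 := by rw [bf_add_left, hb.2, hy.2]; norm_num
  rcases c4 b ((mem_rts cs).1 hb.1) hb.2 y ((mem_rts cs).1 hy.1) hy.2 with h | h | h | h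
  · left
    rw [h] at hv
    exact abel R hb.1 hu hv
  · left
    exact comm_60 R hb.1 hy.1 hbb hyy h hu hv
  · right
    refine ⟨⟨(mem_rts cs).2 (orth_add b ((mem_rts cs).1 hb.1) hbb y ((mem_rts cs).1 hy.1) hyy h).1, hlev⟩, ?_⟩
    exact orth_mem R hb.1 hy.1 hbb hyy h hu hv
  · right
    have hA : A2 cs isCartan b y := a2 cs hb.1 hy.1 (by rw [hbb, hyy]) (by rw [h, hbb]; norm_num)
    exact ⟨⟨hA.rxy, hlev⟩, hA.comm_mem R hu hv⟩

end Main

/-! ### Transitivity on pairs of orthogonal long roots -/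

/-- the words -/
def words : List (List (Fin 4)) := [[], [3, 2, 1, 2], [3, 2, 1], [3, 2], [3], [3, 2, 1, 2, 3]]

theorem refl_rho : ∀ i : Fin 4, i ≠ 0 → Cfsg.Agent.Nodes.RGDFold.refl A i rho = rho := by decide +kernel

theorem exists_word (cs : CoxeterSystem CoxeterMatrix.F₄ W) (ω : List (Fin 4)) : ∃ w : W, (∀ v, rep cs isCartan w v =
    ω.foldr (fun i v => Cfsg.Agent.Nodes.RGDFold.refl A i v) v) ∧ ((∀ i ∈ ω, i ≠ 0) → rep cs isCartan w rho = rho) := by
  induction ω with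
  | nil => exact ⟨1, fun v => by rw [map_one, Module.End.one_apply]; rfl, fun _ => by
      rw [map_one, Module.End.one_apply]⟩
  | cons i ω ih =>
    obtain ⟨w, h1, h2⟩ := ih
    refine ⟨cs.simple i * w, fun v => ?_, fun h => ?_⟩
    · rw [rep_mul_apply, h1, rep_simple_refl]
      rfl
    · rw [rep_mul_apply, h2 fun j hj => h j (List.mem_cons_of_mem i hj), rep_simple_refl]
      exact refl_rho i (h i List.mem_cons_self)

end Cfsg.Agent.KFacts.TwESix.CentOrth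
end

-- part: H590/F4/Layer
section
/-!
# The two layers of the unipotent radical of `P₄ = 2^(8+16):Ω₈⁻(2)` (helper590, row F4 of S2491)
-/

set_option autoImplicit false
set_option linter.unusedSectionVars false

namespace Cfsg.Agent.H590.F4.Lay

open CoxeterSystem Cfsg.Agent.ChevalleyStructure.CoxeterGeom Cfsg.Agent.Tits.Roots Cfsg.Agent.Tits.Core
  Cfsg.Agent.Tits.RootComb Cfsg.Agent.Nodes.Reps Cfsg.Agent.Nodes.BNOf Cfsg.Agent.Nodes.Coroot
  Cfsg.Agent.Nodes.StabComb Cfsg.Agent.Nodes.Bruhat Cfsg.Agent.Nodes.OppDec Cfsg.Agent.Nodes.LeviDec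
  Cfsg.Agent.KFacts.RgdSL Cfsg.Agent.KFacts.RgdTI Cfsg.Agent.Nodes.RGDTwE6 Cfsg.Agent.KFacts.TwESix.Comb Cfsg.Agent.KFacts.TwESix.Btw
open Cfsg.Agent.KFacts.TwESix.CentOrth Cfsg.Agent.KFacts.TwESix.Facts
open Cfsg.Agent.Nodes.Unique Cfsg.Agent.Nodes.CardSup
open Cfsg.Agent.H326.QS.VP (Q)
open Cfsg.Agent.H231.QF (KK j4)
open Cfsg.Lie Subgroup
open scoped commutatorElement

universe u

/-- commutators with a fixed element -/
theorem comm_sup {G : Type*} [Group G] {ι : Type*} {N M : Subgroup G} {S : Set ι} {X : ι → Subgroup G}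
    (hM : ∀ n ∈ N, ∀ m ∈ M, n * m * n⁻¹ ∈ M) (hXN : ∀ i ∈ S, X i ≤ N) {a : G}
    (h : ∀ i ∈ S, ∀ b ∈ X i, a * b * a⁻¹ * b⁻¹ ∈ M) {b : G} (hb : b ∈ (⨆ i : S, X i.1 : Subgroup G)) :
    a * b * a⁻¹ * b⁻¹ ∈ M := by
  let K : Subgroup G :=
    { carrier := {b | b ∈ N ∧ a * b * a⁻¹ * b⁻¹ ∈ M}
      one_mem' := ⟨N.one_mem, by simp⟩
      mul_mem' := by
        rintro b c ⟨hb, hb'⟩ ⟨hc, hc'⟩
        refine ⟨N.mul_mem hb hc, ?_⟩
        have e : a * (b * c) * a⁻¹ * (b * c)⁻¹ = (a * b * a⁻¹ * b⁻¹) * (b * (a * c * a⁻¹ * c⁻¹) * b⁻¹) := by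
          group
        rw [e]
        exact M.mul_mem hb' (hM b hb _ hc')
      inv_mem' := by
        rintro b ⟨hb, hb'⟩
        refine ⟨N.inv_mem hb, ?_⟩
        have e : a * b⁻¹ * a⁻¹ * b⁻¹⁻¹ = b⁻¹ * (a * b * a⁻¹ * b⁻¹)⁻¹ * b⁻¹⁻¹ := by group
        rw [e]
        exact hM _ (N.inv_mem hb) _ (M.inv_mem hb') }
  have hle : (⨆ i : S, X i.1 : Subgroup G) ≤ K := iSup_le fun i b hb => ⟨hXN i i.2 hb, h i i.2 b hb⟩
  exact (hle hb).2

section abs

variable {W Y : Type*} [Group W] [Group Y] {cs : CoxeterSystem CoxeterMatrix.F₄ W} {p : ℕ} {T : Subgroup Y}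
  {n : Fin 4 → Y} {X : (Fin 4 → ℤ) → Subgroup Y}

theorem NotJ_eq : NotJ cs isCartan j4 = Q (fun x => 1 ≤ x 3) := by
  ext x
  constructor
  · rintro ⟨hx, -, k, hk, hk0⟩
    have : k = 3 := by
      by_contra h; exact hk h
    subst this
    exact ⟨(mem_rts cs).1 hx, hk0⟩
  · rintro ⟨hx, h0⟩
    refine ⟨(mem_rts cs).2 hx, ?_, 3, fun h => h rfl, h0⟩
    have h1 : ∀ x ∈ rts, 1 ≤ x 3 → ∀ k, 0 ≤ x k := by decide +kernel
    exact fun k => h1 x hx h0 k

theorem RootsJ_eq : RootsJ cs isCartan j4 = Q (fun x => x 3 = 0) := by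
  ext x
  constructor
  · rintro ⟨hx, h1⟩
    exact ⟨(mem_rts cs).1 hx, h1 3 (fun h => h rfl)⟩
  · rintro ⟨hx, h0⟩
    refine ⟨(mem_rts cs).2 hx, fun k hk => ?_⟩
    have : k = 3 := by
      by_contra h; exact hk h
    subst this
    exact h0

theorem bf_b0 (x : Fin 4 → ℤ) : bf x b0 = x 3 := by
  unfold bf b0
  simp only [_root_.Fin.isValue, _root_.Matrix.cons_val_zero, _root_.mul_one, _root_.Matrix.cons_val_one, _root_.Matrix.cons_val]
  ring

theorem Q_two : Q (fun x => x 3 = 2) = S2 cs := by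
  ext x
  constructor
  · rintro ⟨hx, h⟩
    exact ⟨(mem_rts cs).2 hx, by rw [bf_b0]; exact h⟩
  · rintro ⟨hx, h⟩
    exact ⟨(mem_rts cs).1 hx, by rw [bf_b0] at h; exact h⟩

end abs

section dat

variable {W Y : Type*} [Group W] [Group Y] {cs : CoxeterSystem CoxeterMatrix.F₄ W} {T : Subgroup Y}
  {n : Fin 4 → Y} {X : (Fin 4 → ℤ) → Subgroup Y} {R : RGD cs isCartan 2 T n X} (D : Dat R)

theorem z_abs : ∀ a ∈ rts, a 3 = 0 → ∀ z ∈ rts, z 3 = 2 →
    (bf z z = 4 ∧ 0 ≤ bf a z) ∨ (bf a a = 4 ∧ 0 ≤ bf z a) ∨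
    (bf a a = 2 ∧ bf z z = 2 ∧ bf a z = 0) ∨ (a ≠ z ∧ a ≠ -z ∧ ∀ w ∈ rts, bt a z w → w 3 = 2) := by
  decide +kernel

theorem add_abs : ∀ a ∈ rts, a 3 = 0 → ∀ z ∈ rts, z 3 = 2 → bf a a = 2 → bf z z = 2 → bf a z = 0 → a + z ∈ rts := by
  (set_option synthInstance.maxSize 2000 in open scoped Cfsg.Agent.Lib.Hoist in decide +kernel)

include D

/-- `[X a, X z] ≤ V2`, `a` of level 0, `z` of level 2 -/
theorem comm_zero {a z : Fin 4 → ℤ} (ha : a ∈ rts) (ha0 : a 3 = 0) (hz : z ∈ rts) (hz2 : z 3 = 2) {u v : Y}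
    (hu : u ∈ X a) (hv : v ∈ X z) : ⁅u, v⁆ ∈ RGD.Sup X (S2 cs) := by
  rcases z_abs a ha ha0 z hz hz2 with ⟨h1, h2⟩ | ⟨h1, h2⟩ | ⟨h1, h2, h3⟩ | ⟨h1, h2, h3⟩
  · rw [commutatorElement_eq_one_iff_mul_comm.2
      (comm_long D ((mem_rts cs).2 ha) ((mem_rts cs).2 hz) h1 h2 hu hv)]
    exact one_mem _
  · rw [commutatorElement_eq_one_iff_mul_comm.2
      (comm_long D ((mem_rts cs).2 hz) ((mem_rts cs).2 ha) h1 h2 hv hu).symm]
    exact one_mem _
  · have h4 := orth_mem R ((mem_rts cs).2 ha) ((mem_rts cs).2 hz) h1 h2 h3 hu hv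
    refine RGD.le_Sup (X := X) (S := S2 cs) (z := a + z) ?_ h4
    refine ⟨(mem_rts cs).2 (add_abs a ha ha0 z hz hz2 h1 h2 h3), ?_⟩
    rw [bf_b0]
    show a 3 + z 3 = 2
    omega
  · have h4 := R.comm a z ((mem_rts cs).2 ha) ((mem_rts cs).2 hz) h1 h2 u hu v hv
    refine R.btw_le_Sup (fun w hw => ?_) h4
    obtain ⟨h5, h6⟩ := btwn_spec cs ((mem_rts cs).2 ha) ((mem_rts cs).2 hz) h1 h2 hw
    exact ⟨(mem_rts cs).2 h5, by rw [bf_b0]; exact h3 w h5 h6⟩

/-- `P₄` normalises the layer -/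
theorem norm2 {g : Y} (hg : g ∈ PJ cs isCartan T X j4) {d : Y} (hd : d ∈ RGD.Sup X (S2 cs)) :
    g * d * g⁻¹ ∈ RGD.Sup X (S2 cs) := by
  have key : ∀ a ∈ rts, 0 ≤ a 3 → X a ≤ Subgroup.normalizer (RGD.Sup X (S2 cs) : Set Y) := by
    intro a ha ha0 u hu
    rw [Subgroup.mem_normalizer_iff]
    have h1 : ∀ u ∈ X a, ∀ d ∈ RGD.Sup X (S2 cs), u * d * u⁻¹ ∈ RGD.Sup X (S2 cs) := by
      intro u hu
      refine conj_mem_of_comm fun z hz v hv => ?_
      have hz3 : z 3 = 2 := by rw [← bf_b0 z]; exact hz.2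
      rcases ha0.eq_or_lt with h | h
      · exact comm_zero D ha h.symm ((mem_rts cs).1 hz.1) hz3 hu hv
      · rw [commutatorElement_eq_one_iff_mul_comm.2
          (comm_S2 D hz ((mem_rts cs).2 ha) (by rw [bf_b0]; exact h) hv hu).symm]
        exact one_mem _
    intro d
    refine ⟨h1 u hu d, fun h => ?_⟩
    have := h1 u⁻¹ (inv_mem hu) _ h
    have e : u⁻¹ * (u * d * u⁻¹) * u⁻¹⁻¹ = d := by group
    rwa [e] at this
  have h1 : PJ cs isCartan T X j4 ≤ Subgroup.normalizer (RGD.Sup X (S2 cs) : Set Y) := by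
    refine sup_le (sup_le ?_ ?_) ?_
    · exact R.T_le_normalizer fun x hx => hx.1
    · rw [RootsJ_eq]
      exact RGD.Sup_le fun x hx => key x hx.1 (le_of_eq hx.2.symm)
    · unfold VJ
      rw [NotJ_eq]
      exact RGD.Sup_le fun x hx => key x hx.1 (by have := hx.2; omega)
  exact (Subgroup.mem_normalizer_iff.1 (h1 hg) d).1 hd

theorem cen2 {a : Y} (ha : a ∈ VJ cs isCartan X j4) {d : Y} (hd : d ∈ RGD.Sup X (S2 cs)) : a * d = d * a := by
  have h1 : VJ cs isCartan X j4 ≤ Subgroup.centralizer {d} := by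
    unfold VJ
    rw [NotJ_eq]
    refine RGD.Sup_le fun x hx u hu => ?_
    rw [Subgroup.mem_centralizer_singleton_iff]
    exact (comm_Sup_S2 D (le_refl _) ((mem_rts cs).2 hx.1) (by rw [bf_b0]; have := hx.2; omega) hd hu).symm
  exact Subgroup.mem_centralizer_singleton_iff.1 (h1 ha)

theorem lev_cases : ∀ x ∈ rts, 1 ≤ x 3 → x 3 = 1 ∨ x 3 = 2 := by decide +kernel

theorem com2 {a b : Y} (ha : a ∈ VJ cs isCartan X j4) (hb : b ∈ VJ cs isCartan X j4) :
    a * b * a⁻¹ * b⁻¹ ∈ RGD.Sup X (S2 cs) := by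
  have hroot : ∀ x ∈ rts, 1 ≤ x 3 → ∀ y ∈ rts, 1 ≤ y 3 → ∀ u ∈ X x, ∀ v ∈ X y,
      u * v * u⁻¹ * v⁻¹ ∈ RGD.Sup X (S2 cs) := by
    intro x hx hx1 y hy hy1 u hu v hv
    rw [← commutatorElement_def]
    rcases lev_cases D x hx hx1 with h | h
    · rcases lev_cases D y hy hy1 with h' | h'
      · rcases comm_S1 D (b := x) (y := y) ⟨(mem_rts cs).2 hx, by rw [bf_b0]; exact h⟩
          ⟨(mem_rts cs).2 hy, by rw [bf_b0]; exact h'⟩ hu hv with h2 | ⟨h2, h3⟩
        · rw [commutatorElement_eq_one_iff_mul_comm.2 h2]; exact one_mem _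
        · exact RGD.le_Sup (X := X) h2 h3
      · rw [commutatorElement_eq_one_iff_mul_comm.2
          (comm_S2 D (z := y) ⟨(mem_rts cs).2 hy, by rw [bf_b0]; exact h'⟩ ((mem_rts cs).2 hx)
            (by rw [bf_b0]; omega) hv hu).symm]
        exact one_mem _
    · rw [commutatorElement_eq_one_iff_mul_comm.2
        (comm_S2 D (z := x) ⟨(mem_rts cs).2 hx, by rw [bf_b0]; exact h⟩ ((mem_rts cs).2 hy)
          (by rw [bf_b0]; omega) hu hv)]
      exact one_mem _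
  have hn : ∀ n ∈ VJ cs isCartan X j4, ∀ m ∈ RGD.Sup X (S2 cs), n * m * n⁻¹ ∈ RGD.Sup X (S2 cs) :=
    fun n hn m hm => norm2 D (VJ_le_PJ hn) hm
  have hXV : ∀ i ∈ NotJ cs isCartan j4, X i ≤ VJ cs isCartan X j4 := fun i hi => RGD.le_Sup hi
  have step : ∀ x ∈ NotJ cs isCartan j4, ∀ u ∈ X x, u * b * u⁻¹ * b⁻¹ ∈ RGD.Sup X (S2 cs) := by
    intro x hx u hu
    refine comm_sup (S := NotJ cs isCartan j4) (X := X) hn hXV ?_ hb
    intro y hy v hv
    rw [NotJ_eq] at hx hy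
    exact hroot x hx.1 hx.2 y hy.1 hy.2 u hu v hv
  have h2 : b * a * b⁻¹ * a⁻¹ ∈ RGD.Sup X (S2 cs) := by
    refine comm_sup (S := NotJ cs isCartan j4) (X := X) hn hXV ?_ ha
    intro y hy v hv
    have h3 := inv_mem (step y hy v hv)
    have e : (v * b * v⁻¹ * b⁻¹)⁻¹ = b * v * b⁻¹ * v⁻¹ := by group
    rwa [e] at h3
  have h3 := inv_mem h2
  have e : (b * a * b⁻¹ * a⁻¹)⁻¹ = a * b * a⁻¹ * b⁻¹ := by group
  rwa [e] at h3

end dat

end Cfsg.Agent.H590.F4.Lay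

namespace Cfsg.Agent.H590.F4.Lay

open CoxeterSystem Cfsg.Agent.ChevalleyStructure.CoxeterGeom Cfsg.Agent.Tits.Roots Cfsg.Agent.Tits.Core
  Cfsg.Agent.Tits.RootComb Cfsg.Agent.Nodes.Reps Cfsg.Agent.Nodes.BNOf Cfsg.Agent.Nodes.Coroot
  Cfsg.Agent.Nodes.StabComb Cfsg.Agent.Nodes.Bruhat Cfsg.Agent.Nodes.OppDec Cfsg.Agent.Nodes.LeviDec
  Cfsg.Agent.KFacts.RgdSL Cfsg.Agent.KFacts.RgdTI Cfsg.Agent.Nodes.RGDTwE6 Cfsg.Agent.KFacts.TwESix.Comb Cfsg.Agent.KFacts.TwESix.Btw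
open Cfsg.Agent.KFacts.TwESix.CentOrth Cfsg.Agent.KFacts.TwESix.Facts
open Cfsg.Agent.Nodes.Unique Cfsg.Agent.Nodes.CardSup
open Cfsg.Agent.H326.QS.VP (Q)
open Cfsg.Agent.H231.QF (KK j4)
open Cfsg.Lie Subgroup
open scoped commutatorElement

universe u

section card

variable {W Y : Type*} [Group W] [Group Y] {cs : CoxeterSystem CoxeterMatrix.F₄ W} {T : Subgroup Y}
  {n : Fin 4 → Y} {X : (Fin 4 → ℤ) → Subgroup Y} (R : RGD cs isCartan 2 T n X)

/-- the roots of level 1 -/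
def l1 : Finset (Fin 4 → ℤ) := (rts.filter fun x => x 3 = 1).toFinset

/-- the roots of level 2 -/
def l2 : Finset (Fin 4 → ℤ) := (rts.filter fun x => x 3 = 2).toFinset

theorem mem_l1 {x : Fin 4 → ℤ} : x ∈ l1 ↔ x ∈ rts ∧ x 3 = 1 := by
  rw [l1, List.mem_toFinset, List.mem_filter, decide_eq_true_iff]

theorem mem_l2 {x : Fin 4 → ℤ} : x ∈ l2 ↔ x ∈ rts ∧ x 3 = 2 := by
  rw [l2, List.mem_toFinset, List.mem_filter, decide_eq_true_iff]

theorem card_l1 : l1.card = 8 := by decide +kernel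

theorem short_l1 : ∀ x ∈ rts, x 3 = 1 → bf x x = 2 := by decide +kernel

theorem pos_lev : ∀ x ∈ rts, 1 ≤ x 3 → ∀ k, 0 ≤ x k := by decide +kernel

theorem lev' : ∀ x ∈ rts, 1 ≤ x 3 → x 3 = 1 ∨ x 3 = 2 := by decide +kernel

include R

theorem relIndex_layer [Finite Y] (h4 : Nat.card (X (sr 3)) = 4) :
    (RGD.Sup X (S2 cs)).relIndex (VJ cs isCartan X j4) = 2 ^ 16 := by
  classical
  have : Finite W := finiteW cs
  have : Fact (Nat.Prime 2) := ⟨Nat.prime_two⟩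
  have e2 : (l2 : Set (Fin 4 → ℤ)) = S2 cs := by
    rw [← Q_two (cs := cs)]
    ext x
    rw [Finset.mem_coe, mem_l2]
    exact Iff.rfl
  have e12 : ((l1 ∪ l2 : Finset (Fin 4 → ℤ)) : Set (Fin 4 → ℤ)) = NotJ cs isCartan j4 := by
    rw [NotJ_eq]
    ext x
    rw [Finset.mem_coe, Finset.mem_union, mem_l1, mem_l2]
    constructor
    · rintro (⟨h, h'⟩ | ⟨h, h'⟩)
      · exact ⟨h, by show 1 ≤ x 3; omega⟩
      · exact ⟨h, by show 1 ≤ x 3; omega⟩
    · rintro ⟨h, h'⟩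
      rcases lev' x h h' with h1 | h1
      · exact Or.inl ⟨h, h1⟩
      · exact Or.inr ⟨h, h1⟩
  have hdis : Disjoint l1 l2 := by
    rw [Finset.disjoint_left]
    intro x h1 h2
    rw [mem_l1] at h1
    rw [mem_l2] at h2
    omega
  have c2 : Nat.card (RGD.Sup X (S2 cs)) = ∏ x ∈ l2, Nat.card (X x) := by
    rw [← e2]
    exact card_sup R (by rw [e2]; exact fun x hx => ⟨hx.1, fun k =>
      pos_lev x ((mem_rts cs).1 hx.1) (by have := hx.2; rw [bf_b0] at this; omega) k⟩) (by rw [e2]; exact closed_S2)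
  have c12 : Nat.card (VJ cs isCartan X j4) = ∏ x ∈ l1 ∪ l2, Nat.card (X x) := by
    unfold VJ
    rw [← e12]
    exact card_sup R (by rw [e12]; exact fun x hx => ⟨hx.1, hx.2.1⟩)
      (by rw [e12]; exact Cfsg.Agent.H62.PPIdx.closed_NotJ _)
  have c1 : ∏ x ∈ l1, Nat.card (X x) = 4 ^ 8 := by
    rw [← card_l1, ← Finset.prod_const]
    refine Finset.prod_congr rfl fun x hx => ?_
    rw [mem_l1] at hx
    obtain ⟨w, hw⟩ := exists_rep_short cs ((mem_rts cs).2 hx.1) (short_l1 x hx.1 hx.2)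
    rw [← h4, ← hw]
    exact card_X_rep R w ((mem_rts cs).2 (by decide +kernel))
  have hle : RGD.Sup X (S2 cs) ≤ VJ cs isCartan X j4 := by
    unfold VJ
    rw [NotJ_eq]
    exact RGD.Sup_mono fun x hx => ⟨(mem_rts cs).1 hx.1, by
      have := hx.2; rw [bf_b0] at this; show 1 ≤ x 3; omega⟩
  have h5 : (RGD.Sup X (S2 cs)).relIndex (VJ cs isCartan X j4) * Nat.card (RGD.Sup X (S2 cs))
      = Nat.card (VJ cs isCartan X j4) := by
    rw [Subgroup.relIndex, mul_comm, ← Nat.card_congr (Subgroup.subgroupOfEquivOfLe hle).toEquiv]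
    exact Subgroup.card_mul_index _
  rw [c12, Finset.prod_union hdis, c1, ← c2] at h5
  have h6 : 0 < Nat.card (RGD.Sup X (S2 cs)) := Nat.card_pos
  have h7 := Nat.eq_of_mul_eq_mul_right h6 h5
  rw [h7]; norm_num

end card

section final

open Cfsg.Agent.H231.QF (V P Lv)
open Cfsg.Agent.H164.F4.OutV (charTwo hqq)
open Cfsg.Agent.Nodes.RGDFoldSL (Fx)

variable {F : Type u} [Field F] [Fintype F] (hF : Fintype.card F = 4) {φ : F →+* F} (hφ : ∀ t, φ t = t ^ 2)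

include hF hφ

theorem card_X3 : Nat.card ↥(Cfsg.Agent.H231.QF.X φ (sr 3)) = 4 := by
  show Nat.card ↥(Cfsg.Agent.Nodes.RGDTwE6.X φ 2 (sr 3)) = 4
  rw [Cfsg.Agent.KFacts.TwESix.OutTwo.card_of_coord (Cfsg.Agent.KFacts.TwESix.Out.coordE hφ (hqq hF) 3)]
  have h1 : (Fx φ 2 : Subfield F) = ⊤ := Cfsg.Agent.KFacts.TwESix.Out.F2_eq_top hφ (hqq hF)
  have h2 : Nat.card (Cfsg.Agent.KFacts.TwESix.Out.KF φ 3) = Nat.card F := by
    show Nat.card ↥(Fx φ 2) = _
    rw [h1]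
    exact Nat.card_congr Subfield.topEquiv.toEquiv
  rw [h2, Nat.card_eq_fintype_card, hF]

/-- **the layer** -/
theorem layer : V2 φ ≤ V φ j4 ∧ (∀ g ∈ P φ j4, ∀ d ∈ V2 φ, g * d * g⁻¹ ∈ V2 φ) ∧
    (∀ a ∈ V φ j4, ∀ d ∈ V2 φ, a * d = d * a) ∧ (∀ a ∈ V φ j4, ∀ b ∈ V φ j4, a * b * a⁻¹ * b⁻¹ ∈ V2 φ) ∧
    (V2 φ).relIndex (V φ j4) = 2 ^ 16 := by
  have : CharP F 2 := charTwo hF
  have : Finite (KK F) := inferInstance
  have D := Cfsg.Agent.KFacts.TwESix.Dat.dat Cfsg.Agent.H231.QF.cs hφ (hqq hF) (by rw [hF]; norm_num) (by norm_num)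
  have e : V2 φ = RGD.Sup (Cfsg.Agent.H231.QF.X φ) (S2 Cfsg.Agent.H231.QF.cs) := by
    unfold V2
    rw [Q_two (cs := Cfsg.Agent.H231.QF.cs)]
  refine ⟨?_, ?_, ?_, ?_, ?_⟩
  · show V2 φ ≤ VJ Cfsg.Agent.H231.QF.cs isCartan (Cfsg.Agent.H231.QF.X φ) j4
    unfold VJ V2
    rw [NotJ_eq]
    exact RGD.Sup_mono fun x hx => ⟨hx.1, by have := hx.2; show 1 ≤ x 3; omega⟩
  · rw [e]
    exact fun g hg d hd => norm2 D hg hd
  · rw [e]
    exact fun a ha d hd => cen2 D ha hd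
  · rw [e]
    exact fun a ha b hb => com2 D ha hb
  · rw [e]
    exact relIndex_layer (rgd Cfsg.Agent.H231.QF.cs hφ (hqq hF) 2) (card_X3 hF hφ)

/-- the Levi decomposition and the normality of the radical -/
theorem pdec : (∀ g ∈ P φ j4, ∀ v ∈ V φ j4, g * v * g⁻¹ ∈ V φ j4) ∧
    (∀ g ∈ P φ j4, ∃ l ∈ Lv φ j4, ∃ v ∈ V φ j4, g = l * v) := by
  have : CharP F 2 := charTwo hF
  have : Fact (Nat.Prime 2) := ⟨Nat.prime_two⟩
  have R := rgd Cfsg.Agent.H231.QF.cs hφ (hqq hF) 2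
  constructor
  · intro g hg v hv
    exact (Subgroup.mem_normalizer_iff.1 (PJ_le_normalizer_VJ R j4 hg) v).1 hv
  · intro g hg
    exact (mem_PJ R).1 hg

end final

end Cfsg.Agent.H590.F4.Lay
end

-- part: H240/F4/Gen
section
/-!
# `Ω₈⁻(2)` is generated by eight root elements (helper240, for the row F4 of S2491)

* `N8_le` : a subgroup of the isometry group which contains the eight elements `IsG` contains the commutator subgroup;
* `trans_sing` : the commutator subgroup is transitive on the singular vectors `≠ 0`.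
-/

set_option autoImplicit false
set_option maxRecDepth 100000

namespace Cfsg.Agent.H240.F4

open Cfsg.Agent.H181.O8m Cfsg.Agent.H612.Ore Cfsg.Agent.H201.O8 Cfsg.Agent.LieClassical.OrthCore
  Cfsg.Agent.LieClassical.OmegaReindex Cfsg.Agent.LieClassical.OrthFinite Cfsg.Agent.ClassicalGeometry.OrthDickson
  Cfsg.Agent.ClassicalGeometry.Reflection QuadraticMap
open scoped commutatorElement

/-- the columns of the eight elements -/
def cL : List (List ℕ) :=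
  [[3, 2, 4, 8, 16, 48, 64, 128], [1, 3, 4, 8, 48, 32, 64, 128], [1, 6, 4, 8, 16, 32, 96, 128], [1, 2, 6, 8,
  16, 96, 64, 128], [1, 2, 76, 8, 16, 32, 64, 192], [1, 2, 204, 72, 16, 32, 64, 192], [1, 2, 4, 8, 16, 32, 76,
  132], [1, 2, 4, 12, 16, 32, 196, 128]]

/-- column `i` of the element `k` -/
def c (k i : ℕ) : ℕ := (cL.getD k []).getD i 0

/-- one of the eight elements -/
def IsG (g : O8) : Prop := ∃ k < 8, ∀ i < 8, (g : V ≃ₗ[ZMod 2] V) (dec (2 ^ i)) = dec (c k i)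

/-- the codes of the eight elements -/
def gk (k : ℕ) : ℕ :=
  [9241439280776348163, 9241421826029257473, 9250428887845045761, 9241492057334612481, 13853107707022410241, 13853107708104540673, 9533029764462543361, 9278576385583219201].getD k 0

theorem col_gk : ∀ k < 8, ∀ i < 8, col 8 (gk k) i = c k i := by decide +kernel

theorem gk_isomF : ∀ k < 8, isomF 8 mQ8 mB8 b8 q8 (gk k) = true := by decide +kernel

theorem c_lt : ∀ k < 8, ∀ i < 8, c k i < 256 := by decide +kernel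

theorem rep_of {g : O8} {k : ℕ} (hk : k < 8) (h : ∀ i < 8, (g : V ≃ₗ[ZMod 2] V) (dec (2 ^ i)) = dec (c k i)) :
    act.Rep g (gk k) := by
  intro i hi
  rw [act_ap, h i hi, cd_dec (c_lt k hk i hi), col_gk k hk i hi]

theorem isG_of_rep {g : O8} {k : ℕ} (hk : k < 8) (h : act.Rep g (gk k)) : IsG g := by
  refine ⟨k, hk, fun i hi => ?_⟩
  have h1 := h i hi
  rw [act_ap, col_gk k hk i hi] at h1
  rw [← dec_cd ((g : V ≃ₗ[ZMod 2] V) (dec (2 ^ i))), h1]

theorem exists_G {k : ℕ} (hk : k < 8) : ∃ g : O8, IsG g ∧ act.Rep g (gk k) := by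
  obtain ⟨g, hg⟩ := act.exists_rep (isom_of masks (gk_isomF k hk))
  exact ⟨g, isG_of_rep hk hg, hg⟩

/-! ### words -/

/-- value of a word -/
def ev : List ℕ → ℕ → ℕ
  | [], v => v
  | k :: l, v => apc 8 (gk k) (ev l v)

theorem exists_word {M : Subgroup ↥O8} (h : ∀ g : ↥O8, IsG g → g ∈ M) :
    ∀ l : List ℕ, (l.all fun k => k < 8) = true → ∃ g ∈ M, ∀ v < 256, act.ap g v = ev l v := by
  intro l
  induction l with
  | nil => intro _; exact ⟨1, one_mem _, fun v hv => act.one v hv⟩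
  | cons k l ih =>
    intro hl
    rw [List.all_cons, Bool.and_eq_true, decide_eq_true_eq] at hl
    obtain ⟨g, hg, h1⟩ := ih hl.2
    obtain ⟨x, hx, hr⟩ := exists_G hl.1
    refine ⟨x * g, mul_mem (h x hx) hg, fun v hv => ?_⟩
    rw [act.mul _ _ _ hv, h1 v hv]
    have h2 : ev l v < 2 ^ 8 := by rw [← h1 v hv]; exact act.lt _ _ hv
    rw [act.ap_eq hr h2]
    rfl

/-- words reaching the nonsingular vectors from `8` -/
def words : List (List ℕ) :=
  [[], [7, 0, 1, 3, 7], [2, 3, 7], [2, 1, 3, 7], [7], [0, 1, 3, 7], [3, 7], [1, 3, 7], [0, 2, 1, 3, 6, 0, 2,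
  5], [2, 1, 3, 6, 0, 2, 5], [0, 1, 3, 6, 0, 2, 5], [1, 3, 6, 0, 2, 5], [5, 1, 0, 2, 5], [2, 3, 7, 5, 1, 0, 2,
  5], [7, 5, 1, 0, 2, 5], [3, 7, 5, 1, 0, 2, 5], [2, 3, 6, 2, 5], [2, 1, 3, 6, 2, 5], [3, 6, 2, 5], [1, 3, 6,
  2, 5], [3, 2, 5], [7, 3, 1, 3, 7, 3, 2, 5], [7, 3, 2, 5], [3, 1, 3, 7, 3, 2, 5], [0, 2, 1, 3, 6, 2, 5], [2,
  3, 6, 0, 2, 5], [0, 1, 3, 6, 2, 5], [3, 6, 0, 2, 5], [3, 0, 2, 5], [2, 1, 3, 7, 5, 1, 0, 2, 5], [7, 3, 0, 2,
  5], [1, 3, 7, 5, 1, 0, 2, 5], [6, 5], [0, 1, 3, 6, 5], [3, 6, 5], [1, 3, 6, 5], [5], [6, 0, 1, 3, 6, 5], [6,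
  3, 6, 5], [6, 1, 3, 6, 5], [1, 0, 2, 1, 3, 6, 5], [1, 0, 2, 3, 6, 5], [6, 1, 0, 2, 5], [3, 6, 1, 0, 2, 5],
  [1, 0, 2, 5], [6, 3, 6, 1, 0, 2, 5], [0, 1, 3, 7, 3, 0, 2, 5], [1, 3, 7, 3, 0, 2, 5], [2, 3, 6, 5], [2, 1, 3,
  6, 5], [6, 2, 5], [3, 1, 3, 6, 2, 5], [2, 5], [6, 3, 1, 3, 6, 2, 5], [3, 7, 3, 2, 5], [1, 3, 7, 3, 2, 5], [0,
  2, 1, 3, 6, 5], [0, 2, 3, 6, 5], [6, 0, 2, 5], [1, 3, 6, 1, 0, 2, 5], [0, 2, 5], [6, 1, 3, 6, 1, 0, 2, 5],
  [0, 1, 3, 7, 3, 2, 5], [3, 7, 3, 0, 2, 5], [6, 5, 7], [6, 5, 0, 1, 3, 7], [2, 5, 3, 7], [2, 5, 1, 3, 7], [5,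
  7], [5, 0, 1, 3, 7], [5, 3, 7], [5, 1, 3, 7], [4, 7, 5], [6, 5, 0, 1, 3, 6, 5], [2, 5, 3, 6, 5], [2, 5, 1, 3,
  6, 5], [5, 6, 5], [5, 0, 1, 3, 6, 5], [5, 3, 6, 5], [5, 1, 3, 6, 5], [4, 7, 6, 1, 0, 2, 5], [4, 7, 3, 6, 1,
  0, 2, 5], [5, 7, 5, 1, 0, 2, 5], [5, 3, 7, 5, 1, 0, 2, 5], [4, 7, 1, 0, 2, 5], [2, 5, 3, 6, 1, 0, 2, 5], [5,
  6, 1, 0, 2, 5], [5, 3, 6, 1, 0, 2, 5], [3, 7, 6, 2, 5], [3, 7, 3, 1, 3, 6, 2, 5], [5, 7, 3, 2, 5], [3, 7, 2,
  1, 3, 6, 5], [3, 7, 2, 5], [6, 5, 3, 1, 3, 6, 2, 5], [5, 6, 2, 5], [5, 3, 1, 3, 6, 2, 5], [3, 7, 6, 0, 2, 5],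
  [3, 7, 1, 3, 6, 1, 0, 2, 5], [5, 7, 3, 0, 2, 5], [3, 7, 0, 2, 1, 3, 6, 5], [3, 7, 0, 2, 5], [2, 5, 1, 3, 6,
  1, 0, 2, 5], [5, 6, 0, 2, 5], [5, 1, 3, 6, 1, 0, 2, 5], [7, 6, 5], [7, 0, 1, 3, 6, 5], [7, 3, 6, 5], [7, 1,
  3, 6, 5], [7, 5], [7, 6, 0, 1, 3, 6, 5], [7, 6, 3, 6, 5], [7, 6, 1, 3, 6, 5], [7, 6, 1, 0, 2, 5], [7, 3, 6,
  1, 0, 2, 5], [7, 1, 0, 2, 1, 3, 6, 5], [7, 1, 0, 2, 3, 6, 5], [7, 1, 0, 2, 5], [2, 5, 3, 6, 0, 2, 5], [5, 0,
  1, 3, 6, 0, 2, 5], [5, 1, 3, 6, 0, 2, 5], [7, 6, 2, 5], [7, 3, 1, 3, 6, 2, 5], [7, 2, 3, 6, 5], [7, 2, 1, 3,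
  6, 5], [7, 2, 5], [7, 6, 3, 1, 3, 6, 2, 5], [5, 3, 6, 2, 5], [5, 1, 3, 6, 2, 5], [7, 6, 0, 2, 5], [7, 1, 3,
  6, 1, 0, 2, 5], [7, 0, 2, 1, 3, 6, 5], [7, 0, 2, 3, 6, 5], [7, 0, 2, 5], [2, 5, 1, 3, 6, 0, 2, 5], [5, 0, 1,
  3, 6, 2, 5], [5, 3, 6, 0, 2, 5]]

theorem words_ev : words.map (fun l => ev l 8) = (List.range 256).filter qn := by decide +kernel

theorem words_all : words.all (fun l => l.all fun k => k < 8) = true := by decide +kernel

theorem exists_to {M : Subgroup ↥O8} (h : ∀ g : ↥O8, IsG g → g ∈ M) {v : ℕ} (hv : v < 256) (hq : qn v = true) :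
    ∃ g ∈ M, act.ap g 8 = v := by
  have h1 : v ∈ words.map (fun l => ev l 8) := by
    rw [words_ev, List.mem_filter, List.mem_range]
    exact ⟨hv, hq⟩
  obtain ⟨l, hl, rfl⟩ := List.mem_map.1 h1
  obtain ⟨g, hg, h2⟩ := exists_word h l (List.all_eq_true.1 words_all l hl)
  exact ⟨g, hg, h2 8 (by norm_num)⟩

/-! ### the reflection in the vector `8` -/

theorem qn8 : qn 8 = true := by decide

/-- the reflection -/
noncomputable abbrev r8 : O8 := rf 8 qn8

theorem ap_r8 (v : ℕ) (hv : v < 256) : act.ap r8 v = v ^^^ (bif Bn 8 v then 8 else 0) := by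
  rw [act_ap, rf_dec, cd_dec]
  have h8 : (bif Bn 8 v then 8 else 0) < 2 ^ 8 := by cases Bn 8 v <;> decide
  exact Nat.xor_lt_two_pow (n := 8) hv h8

theorem r8_sq : r8 * r8 = 1 := by
  apply act.faithful
  intro i hi
  rw [act.mul _ _ _ (two_pow_lt (n := 8) hi), ap_r8 _ (two_pow_lt (n := 8) hi)]
  revert i
  have key : ∀ i < 8, (2 ^ i ^^^ (bif Bn 8 (2 ^ i) then 8 else 0)) < 256 ∧
      (2 ^ i ^^^ (bif Bn 8 (2 ^ i) then 8 else 0)) ^^^
        (bif Bn 8 (2 ^ i ^^^ (bif Bn 8 (2 ^ i) then 8 else 0)) then 8 else 0) = 2 ^ i := by decide +kernel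
  intro i hi
  rw [ap_r8 _ (key i hi).1, (key i hi).2]

theorem r8_inv : r8⁻¹ = r8 := inv_eq_of_mul_eq_one_left r8_sq

/-- conjugates of the eight elements by the reflection -/
def cw (k : ℕ) : List ℕ := if k = 5 then [4, 5] else if k = 7 then [6, 7] else [k]

theorem cw_all : ∀ k < 8, ((cw k).all fun k => k < 8) = true := by decide +kernel

theorem cw_ev : ∀ k < 8, ∀ i < 8, (c k i ^^^ (bif Bn 8 (c k i) then 8 else 0)) =
    ev (cw k) (2 ^ i ^^^ (bif Bn 8 (2 ^ i) then 8 else 0)) ∧ (2 ^ i ^^^ (bif Bn 8 (2 ^ i) then 8 else 0)) < 256 := by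
  decide +kernel

theorem conj_mem {M : Subgroup ↥O8} (h : ∀ g : ↥O8, IsG g → g ∈ M) {g : O8} (hg : IsG g) : r8 * g * r8⁻¹ ∈ M := by
  obtain ⟨k, hk, hg'⟩ := hg
  have hr := rep_of hk hg'
  obtain ⟨w, hw, h1⟩ := exists_word h (cw k) (cw_all k hk)
  have h2 : r8 * g = w * r8 := by
    apply act.ext
    intro i hi
    have hi' : 2 ^ i < 2 ^ 8 := two_pow_lt (n := 8) hi
    rw [act.mul _ _ _ hi', act.mul _ _ _ hi', hr i hi, col_gk k hk i hi, ap_r8 _ (c_lt k hk i hi), ap_r8 _ hi',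
      h1 _ (cw_ev k hk i hi).2, (cw_ev k hk i hi).1]
  rw [h2, mul_inv_cancel_right]
  exact hw

/-- the subgroup generated by the eight elements -/
def M0 : Subgroup ↥O8 := Subgroup.closure {g | IsG g}

theorem M0_h : ∀ g : ↥O8, IsG g → g ∈ M0 := fun _ hg => Subgroup.subset_closure hg

theorem conj_M0 {x : O8} (hx : x ∈ M0) : r8 * x * r8⁻¹ ∈ M0 := by
  have h : M0 ≤ M0.comap (MulAut.conj r8).toMonoidHom := by
    conv_lhs => rw [M0]
    rw [Subgroup.closure_le]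
    intro g hg
    exact conj_mem M0_h hg
  exact h hx

theorem conj_M0' {x : O8} (hx : x ∈ M0) : r8 * x * r8 ∈ M0 := by
  have := conj_M0 hx
  rwa [r8_inv] at this

/-- `M0` and its coset -/
def K0 : Subgroup ↥O8 where
  carrier := {x | x ∈ M0 ∨ x * r8 ∈ M0}
  one_mem' := Or.inl (one_mem _)
  mul_mem' := by
    rintro x y (hx | hx) (hy | hy)
    · exact Or.inl (mul_mem hx hy)
    · right
      rw [mul_assoc]
      exact mul_mem hx hy
    · right
      have e : x * y * r8 = (x * r8) * (r8 * y * r8) := by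
        calc x * y * r8 = x * 1 * y * r8 := by rw [mul_one]
          _ = x * (r8 * r8) * y * r8 := by rw [r8_sq]
          _ = _ := by simp only [mul_assoc]
      rw [e]
      exact mul_mem hx (conj_M0' hy)
    · left
      have e : x * y = (x * r8) * (r8 * (y * r8) * r8) := by
        calc x * y = x * 1 * y * 1 := by rw [mul_one, mul_one]
          _ = x * (r8 * r8) * y * (r8 * r8) := by rw [r8_sq]
          _ = _ := by simp only [mul_assoc]
      rw [e]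
      exact mul_mem hx (conj_M0' hy)
  inv_mem' := by
    rintro x (hx | hx)
    · exact Or.inl (inv_mem hx)
    · right
      have e : x⁻¹ * r8 = r8 * (x * r8)⁻¹ * r8 := by
        rw [mul_inv_rev, r8_inv, ← mul_assoc, r8_sq, one_mul]
      rw [e]
      exact conj_M0' (inv_mem hx)

theorem rf_eq {a : ℕ} (ha : qn a = true) (h0 : q (dec a) ≠ 0) : isometryEquiv q (reflIso q (dec a) h0) = rf a ha := by
  apply Subtype.ext
  ext1 x
  show _ = refl q (dec a) h0 x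
  rw [isometryEquiv_apply, coe_reflIso, reflectionMatrix_mulVec, refl_apply]

theorem rf_mem_K0 {a : ℕ} (ha : qn a = true) (h256 : a < 256) : rf a ha ∈ K0 := by
  obtain ⟨g, hg, e⟩ := exists_to M0_h h256 ha
  right
  have e1 : (g : V ≃ₗ[ZMod 2] V) (dec 8) = dec a := by
    apply cd_inj
    rw [cd_dec h256]
    exact e
  have h2 : rf a ha = g * r8 * g⁻¹ := by
    rw [eq_mul_inv_iff_mul_eq]
    apply Subtype.ext
    apply LinearEquiv.ext
    intro y
    have h0 : q (dec 8) ≠ 0 := by rw [q_dec, qn8]; decide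
    have h0' : q (dec a) ≠ 0 := by rw [q_dec, ha]; decide
    show refl q (dec a) h0' ((g : V ≃ₗ[ZMod 2] V) y) = (g : V ≃ₗ[ZMod 2] V) (refl q (dec 8) h0 y)
    have h1 : q (dec 8) = 1 := by rw [q_dec, qn8]; rfl
    have h1' : q (dec a) = 1 := by rw [q_dec, ha]; rfl
    rw [refl_apply, refl_apply, map_sub, map_smul, e1, h1, h1']
    have h3 : polar q (dec a) ((g : V ≃ₗ[ZMod 2] V) y) = polar q (dec 8) y := by
      rw [← e1]
      exact polar_map g.2 _ _
    rw [h3]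
  have h3 : rf a ha * r8 = g * (r8 * g⁻¹ * r8) := by rw [h2]; group
  rw [h3]
  exact mul_mem hg (conj_M0' (inv_mem hg))

theorem K0_top (x : O8) : x ∈ K0 := by
  have h : (⊤ : Subgroup (Cfsg.isometryGroup (ZMod 2) ⇑q)) ≤ K0.comap (isometryEquiv q).toMonoidHom := by
    rw [← Cfsg.Agent.ClassicalGeometry.GenReflections.closure_refls_eq_top q nondeg (Or.inr card_ix),
      Subgroup.closure_le]
    rintro g ⟨v, hv, hr⟩
    obtain ⟨a, ha, rfl⟩ := dec_surj v
    have hg : g = reflIso q (dec a) hv := Subtype.ext (Units.ext (by rw [hr, coe_reflIso]))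
    subst hg
    have hq : qn a = true := by
      by_contra h
      apply hv
      rw [Bool.not_eq_true] at h
      rw [q_dec, h]
      rfl
    show isometryEquiv q (reflIso q (dec a) hv) ∈ K0
    rw [rf_eq hq]
    exact rf_mem_K0 hq ha
  obtain ⟨y, rfl⟩ := (isometryEquiv q).surjective x
  exact h (Subgroup.mem_top y)

instance M0_normal : (M0 : Subgroup ↥O8).Normal := by
  refine ⟨fun y hy x => ?_⟩
  rcases K0_top x with hx | hx
  · exact mul_mem (mul_mem hx hy) (inv_mem hx)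
  · have e : x * y * x⁻¹ = (x * r8) * (r8 * y * r8) * (x * r8)⁻¹ := by
      rw [mul_inv_rev, r8_inv]
      calc x * y * x⁻¹ = x * 1 * y * 1 * x⁻¹ := by rw [mul_one, mul_one]
        _ = x * (r8 * r8) * y * (r8 * r8) * x⁻¹ := by rw [r8_sq]
        _ = _ := by simp only [mul_assoc]
    rw [e]
    exact mul_mem (mul_mem hx (conj_M0' hy)) (inv_mem hx)

theorem N8_le_M0 : N8 ≤ M0 := by
  have key : ∀ x : O8, (QuotientGroup.mk x : ↥O8 ⧸ M0) = 1 ∨ (QuotientGroup.mk x : ↥O8 ⧸ M0) = QuotientGroup.mk r8 := by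
    intro x
    rcases K0_top x with hx | hx
    · exact Or.inl ((QuotientGroup.eq_one_iff x).2 hx)
    · right
      have h1 : (QuotientGroup.mk (x * r8) : ↥O8 ⧸ M0) = 1 := (QuotientGroup.eq_one_iff _).2 hx
      rw [QuotientGroup.mk_mul] at h1
      have h2 := eq_inv_of_mul_eq_one_left h1
      rw [h2, ← QuotientGroup.mk_inv, r8_inv]
  have hN : N8 = ⁅(⊤ : Subgroup ↥O8), (⊤ : Subgroup ↥O8)⁆ := rfl
  rw [hN, Subgroup.commutator_le]
  intro x _ y _
  rw [← QuotientGroup.eq_one_iff]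
  show (QuotientGroup.mk (x * y * x⁻¹ * y⁻¹) : ↥O8 ⧸ M0) = 1
  rw [QuotientGroup.mk_mul, QuotientGroup.mk_mul, QuotientGroup.mk_mul, QuotientGroup.mk_inv, QuotientGroup.mk_inv]
  rcases key x with hx | hx <;> rcases key y with hy | hy <;> rw [hx, hy] <;> group

/-- **B2.** A subgroup containing the eight elements contains `Ω₈⁻(2)`. -/
theorem N8_le {M : Subgroup ↥O8} (h : ∀ g : ↥O8, IsG g → g ∈ M) : N8 ≤ M :=
  N8_le_M0.trans (by rw [M0, Subgroup.closure_le]; exact h)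

/-! ### transitivity on the singular vectors -/

theorem exists_to_one {v : V} (h0 : v ≠ 0) (hq : q v = 0) : ∃ g ∈ N8, ((g : ↥O8) : V ≃ₗ[ZMod 2] V) v = dec 1 := by
  obtain ⟨a, ha, rfl⟩ := dec_surj v
  have hqa : qn a = false := by
    by_contra h
    rw [Bool.not_eq_false] at h
    rw [q_dec, h] at hq
    exact absurd hq (by decide)
  have ha0 : a ≠ 0 := by rintro rfl; exact h0 dec_zero
  obtain ⟨h, hh⟩ := exists_tr ha hqa ha0
  have e1 : (h : V ≃ₗ[ZMod 2] V) (dec a) = dec 1 := by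
    apply cd_inj
    rw [cd_dec (by norm_num)]
    exact hh
  by_cases hm : h ∈ N8
  · exact ⟨h, hm, e1⟩
  · refine ⟨r8 * h, mul_mem_N8 (rf_notMem qn8) hm, ?_⟩
    show (r8 : V ≃ₗ[ZMod 2] V) ((h : V ≃ₗ[ZMod 2] V) (dec a)) = dec 1
    rw [e1, rf_dec]
    decide +kernel

/-- **B3.** `Ω₈⁻(2)` is transitive on the singular vectors `≠ 0`. -/
theorem trans_sing {v w : V} (hv : v ≠ 0) (hw : w ≠ 0) (qv : q v = 0) (qw : q w = 0) :
    ∃ g ∈ N8, ((g : ↥O8) : V ≃ₗ[ZMod 2] V) v = w := by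
  obtain ⟨g, hg, e⟩ := exists_to_one hv qv
  obtain ⟨k, hk, e'⟩ := exists_to_one hw qw
  refine ⟨k⁻¹ * g, mul_mem (inv_mem hk) hg, ?_⟩
  show ((k⁻¹ : ↥O8) : V ≃ₗ[ZMod 2] V) ((g : V ≃ₗ[ZMod 2] V) v) = w
  rw [e, ← e']
  exact (k : V ≃ₗ[ZMod 2] V).symm_apply_apply w

end Cfsg.Agent.H240.F4
end

private theorem dce_cba463b3d555 : _root_.True := by
  try have : _root_.True := by simp only [_root_.Cfsg.Agent.H590.F4.Lay.l1.eq_1]
  try have : _root_.True := by simp only [_root_.Cfsg.Agent.H240.F4.M0.eq_1]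
  try have : _root_.True := by simp only [_root_.Cfsg.Agent.H590.F4.Lay.l2.eq_1]
  exact _root_.True.intro
end

-- part: H594/QF/VOne
section
prune_inst 0xd430630547220000001c0080410058939700019000208c092465004001c88f02a00001011c201009500822402035006813540090020000000084000000040421800810008008a09100000000008c415000385000000000000000000000000004214010000
set_option linter.all false
open scoped Cfsg.Agent.FastGrp

/-!
# S2491, row F4 = `²E₆(2)`: the unipotent radical `V₁` of `P₁` is extraspecial of order `2 ^ 21` (K6, helper594)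
-/

set_option autoImplicit false
set_option linter.unusedSectionVars false
set_option linter.unusedFintypeInType false
set_option maxHeartbeats 400000

namespace Cfsg.Agent.H594.QF

open CoxeterSystem Cfsg.Agent.ChevalleyStructure.CoxeterGeom Cfsg.Agent.Tits.Roots Cfsg.Agent.Tits.Core
  Cfsg.Agent.Nodes Cfsg.Agent.Nodes.Reps Cfsg.Agent.Nodes.BNOf Cfsg.Agent.Nodes.RGDLib Cfsg.Agent.Nodes.Bruhat
  Cfsg.Agent.Nodes.OppDec Cfsg.Agent.Nodes.LeviDec Cfsg.Agent.Nodes.StabComb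
open Cfsg.Lie Subgroup
open Cfsg.Agent.H231.QF
open Cfsg.Agent.Nodes.RGDTwCoordE6 Cfsg.Agent.Nodes.RGDTwComE6 Cfsg.Agent.Nodes.RGDTwActE6
open Cfsg.Agent.KFacts.TwESix.Comb (rts mem_rts)
open Cfsg.Agent.Nodes.RGDTwCoord (Ok)
open scoped commutatorElement

universe u v

/-! ### Abstract -/

section Abs

variable {G : Type v} [Group G] {A B Z : Subgroup G}

theorem exists_mul (hZB : Z ≤ B) (hAB : ∀ a ∈ A, ∀ b ∈ B, a * b * a⁻¹ * b⁻¹ ∈ Z) {x : G} (hx : x ∈ A ⊔ B) :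
    ∃ a ∈ A, ∃ b ∈ B, x = a * b := by
  have hN : A ≤ Subgroup.normalizer (B : Set G) := by
    have key : ∀ a ∈ A, ∀ b ∈ B, a * b * a⁻¹ ∈ B := by
      intro a ha b hb
      have h1 := mul_mem (hZB (hAB a ha b hb)) hb
      have h2 : a * b * a⁻¹ * b⁻¹ * b = a * b * a⁻¹ := by group
      rwa [h2] at h1
    intro a ha
    rw [Subgroup.mem_normalizer_iff]
    intro b
    refine ⟨fun hb => key a ha b hb, fun hb => ?_⟩
    have h1 := key a⁻¹ (inv_mem ha) _ hb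
    have h2 : a⁻¹ * (a * b * a⁻¹) * a⁻¹⁻¹ = b := by group
    rwa [h2] at h1
  have h1 : x ∈ ((A ⊔ B : Subgroup G) : Set G) := hx
  rw [Subgroup.coe_mul_of_left_le_normalizer_right _ _ hN, Set.mem_mul] at h1
  obtain ⟨a, ha, b, hb, e⟩ := h1
  exact ⟨a, ha, b, hb, e.symm⟩

theorem card_sup (hZB : Z ≤ B) (hAB : ∀ a ∈ A, ∀ b ∈ B, a * b * a⁻¹ * b⁻¹ ∈ Z) (hinf : ∀ x ∈ A, x ∈ B → x = 1) :
    Nat.card ↥(A ⊔ B) = Nat.card A * Nat.card B := by
  rw [← Nat.card_prod]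
  symm
  refine Nat.card_congr (Equiv.ofBijective
    (fun p : A × B => (⟨p.1.1 * p.2.1, mul_mem (Subgroup.mem_sup_left p.1.2) (Subgroup.mem_sup_right p.2.2)⟩ : ↥(A ⊔ B)))
    ⟨?_, ?_⟩)
  · rintro ⟨⟨a, ha⟩, ⟨b, hb⟩⟩ ⟨⟨a', ha'⟩, ⟨b', hb'⟩⟩ h
    have h1 : a * b = a' * b' := congrArg Subtype.val h
    have h2 : a'⁻¹ * a = b' * b⁻¹ := by
      have h3 : a'⁻¹ * (a * b) * b⁻¹ = a'⁻¹ * (a' * b') * b⁻¹ := by rw [h1]
      calc a'⁻¹ * a = a'⁻¹ * (a * b) * b⁻¹ := by group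
        _ = a'⁻¹ * (a' * b') * b⁻¹ := h3
        _ = b' * b⁻¹ := by group
    have h3 : a'⁻¹ * a = 1 := hinf _ (mul_mem (inv_mem ha') ha) (h2 ▸ mul_mem hb' (inv_mem hb))
    have h4 : a' = a := inv_mul_eq_one.1 h3
    have h5 : b' = b := by
      rw [h3] at h2
      exact (mul_inv_eq_one.1 h2.symm)
    subst h4 h5
    rfl
  · rintro ⟨x, hx⟩
    obtain ⟨a, ha, b, hb, rfl⟩ := exists_mul hZB hAB hx
    exact ⟨⟨⟨a, ha⟩, ⟨b, hb⟩⟩, rfl⟩

end Abs

/-! ### Tables -/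

/-- the positive roots with coefficient one at the node `0` -/
def SL : List (Fin 4 → ℤ) := [![1, 0, 0, 0], ![1, 1, 0, 0], ![1, 1, 1, 0], ![1, 1, 1, 1], ![1, 1, 2, 0], ![1, 1, 2, 1],
  ![1, 2, 2, 0], ![1, 1, 2, 2], ![1, 2, 2, 1], ![1, 2, 2, 2], ![1, 2, 3, 1], ![1, 2, 3, 2], ![1, 2, 4, 2], ![1, 3, 4, 2]]

theorem tab_pos : ∀ z ∈ rts, 0 < z 0 → z = th ∨ z ∈ SL := by decide +kernel

theorem tab_th : th ∈ rts ∧ (∀ i, 0 ≤ th i) ∧ Qv th = 4 ∧ th ∉ SL := by decide +kernel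

private noncomputable def _root_.Cfsg.Agent.LsF.fba7390_0 : {f // @Cfsg.Agent.H594.QF.SL = f} := ⟨_, by first | (delta Cfsg.Agent.H594.QF.SL; rewrite [Cfsg.Agent.LsF.vecCons_eq]; exact rfl) | exact rfl⟩
private noncomputable def _root_.Cfsg.Agent.LsF.fba7390_1 : {f // @Cfsg.Agent.KFacts.TwESix.Comb.rts = f} := ⟨_, by first | (delta Cfsg.Agent.KFacts.TwESix.Comb.rts; rewrite [Cfsg.Agent.LsF.ineg_pat, Cfsg.Agent.LsF.vecCons_eq]; exact rfl) | exact rfl⟩
private noncomputable def _root_.Cfsg.Agent.LsF.fba7390_2 : {f // @Cfsg.Agent.H231.QF.th = f} := ⟨_, by first | (delta Cfsg.Agent.H231.QF.th; rewrite [Cfsg.Agent.LsF.vecCons_eq]; exact rfl) | exact rfl⟩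
private noncomputable def _root_.Cfsg.Agent.LsF.fba7390_3 : {f // @Cfsg.Agent.Nodes.RGDTwCoordE6.Q4 = f} := ⟨_, by first | (delta Cfsg.Agent.Nodes.RGDTwCoordE6.Q4; rewrite [Cfsg.Agent.LsF.iadd_pat, Cfsg.Agent.LsF.imul_pat, Cfsg.Agent.LsF.isub_pat]; exact rfl) | exact rfl⟩
private noncomputable def _root_.Cfsg.Agent.LsF.fba7390_4 : {f // @Cfsg.Agent.Nodes.RGDTwCoordE6.Qv = f} := ⟨_, by first | (delta Cfsg.Agent.Nodes.RGDTwCoordE6.Qv; rewrite [Cfsg.Agent.LsF.fba7390_3.2]; exact rfl) | exact rfl⟩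
private noncomputable def _root_.Cfsg.Agent.LsF.fba7390_5 : {f // @Cfsg.Agent.Nodes.RGDTwTab.dgE6 = f} := ⟨_, by first | (delta Cfsg.Agent.Nodes.RGDTwTab.dgE6; rewrite [Cfsg.Agent.LsF.nadd_pat, Cfsg.Agent.LsF.nmul_pat, Cfsg.Agent.LsF.ndiv_pat, Cfsg.Agent.LsF.nmod_pat, Cfsg.Agent.LsF.npow_pat]; exact rfl) | exact rfl⟩
private noncomputable def _root_.Cfsg.Agent.LsF.fba7390_6 : {f // @Cfsg.Agent.Nodes.RGDTwCoordE6.kd = f} := ⟨_, by first | (delta Cfsg.Agent.Nodes.RGDTwCoordE6.kd List.getLast List.brecOn List.brecOn.go List.getLastD List.getLast._f; rewrite [Cfsg.Agent.LsF.fba7390_5.2, Cfsg.Agent.LsF.instDecEq_eq, Cfsg.Agent.LsF.headD_eq, Cfsg.Agent.LsF.dOr_eq, Cfsg.Agent.LsF.length_eq, Cfsg.Agent.LsF.ite_eq]; (try delta List.getLastD.match_1); (try delta List.getLast.match_1); (try delta List.casesOn); first | dsimp -zeta only | exact rfl) | exact rfl⟩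
private noncomputable def _root_.Cfsg.Agent.LsF.fba7390_7 : {f // @Cfsg.Agent.ChevalleyStructure.RootVecTab.dig = f} := ⟨_, by first | (delta Cfsg.Agent.ChevalleyStructure.RootVecTab.dig; rewrite [Cfsg.Agent.LsF.nmul_pat]; exact rfl) | exact rfl⟩
private noncomputable def _root_.Cfsg.Agent.LsF.fba7390_8 : {f // @Cfsg.Agent.ChevalleyStructure.RootVecTab.packTab = f} := ⟨_, by first | (delta Cfsg.Agent.ChevalleyStructure.RootVecTab.packTab; rewrite [Cfsg.Agent.LsF.instDecEq_eq, Cfsg.Agent.LsF.ite_eq]; exact rfl) | exact rfl⟩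
private noncomputable def _root_.Cfsg.Agent.LsF.fba7390_9 : {f // @Cfsg.Agent.ChevalleyStructure.RootVecTab.code = f} := ⟨_, by first | (delta Cfsg.Agent.ChevalleyStructure.RootVecTab.code; rewrite [Cfsg.Agent.LsF.fba7390_8.2, Cfsg.Agent.LsF.nmul_pat, Cfsg.Agent.LsF.npow_pat]; exact rfl) | exact rfl⟩
private noncomputable def _root_.Cfsg.Agent.LsF.fba7390_10 : {f // @Cfsg.Agent.ChevalleyStructure.RootVec.rt = f} := ⟨_, by first | (delta Cfsg.Agent.ChevalleyStructure.RootVec.rt; rewrite [Cfsg.Agent.LsF.fba7390_7.2, Cfsg.Agent.LsF.fba7390_9.2, Cfsg.Agent.LsF.nsub_pat, Cfsg.Agent.LsF.isub_pat, Cfsg.Agent.LsF.icast_pat, Cfsg.Agent.LsF.decLt_eq, Cfsg.Agent.LsF.dAnd_eq, Cfsg.Agent.LsF.ite_eq]; exact rfl) | exact rfl⟩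
private noncomputable def _root_.Cfsg.Agent.LsF.fba7390_11 : {f // @Cfsg.Agent.Nodes.RGDFold.V = f} := ⟨_, by first | (delta Cfsg.Agent.Nodes.RGDFold.V; rewrite [Cfsg.Agent.LsF.fba7390_10.2, Cfsg.Agent.LsF.map_eq, Cfsg.Agent.LsF.sum_eq, Cfsg.Agent.LsF.instIAdd_eq]; exact rfl) | exact rfl⟩
private noncomputable def _root_.Cfsg.Agent.LsF.fba7390_12 : {f // @Cfsg.Agent.Nodes.RGDTwCoord.cl = f} := ⟨_, by first | (delta Cfsg.Agent.Nodes.RGDTwCoord.cl; rewrite [Cfsg.Agent.LsF.fba7390_11.2, Cfsg.Agent.LsF.finFintype_eq, Cfsg.Agent.LsF.dPi_eq, Cfsg.Agent.LsF.find?_eq, Cfsg.Agent.LsF.headD_eq, Cfsg.Agent.LsF.ogetD_eq, Cfsg.Agent.LsF.instIDecEq_eq, Cfsg.Agent.LsF.decide_eq]; exact rfl) | exact rfl⟩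
private noncomputable def _root_.Cfsg.Agent.LsF.fba7390_13 : {f // @Cfsg.Agent.Nodes.RGDTwE6.J = f} := ⟨_, by first | (delta Cfsg.Agent.Nodes.RGDTwE6.J; rewrite [Cfsg.Agent.LsF.vecCons_eq]; exact rfl) | exact rfl⟩
private noncomputable def _root_.Cfsg.Agent.LsF.fba7390_14 : {f // @Cfsg.Agent.Nodes.RGDTwCoord.dk = f} := ⟨_, by first | (delta Cfsg.Agent.Nodes.RGDTwCoord.dk; rewrite [Cfsg.Agent.LsF.nsub_pat, Cfsg.Agent.LsF.ndiv_pat]; exact rfl) | exact rfl⟩
private noncomputable def _root_.Cfsg.Agent.LsF.fba7390_15 : {f // @Cfsg.Agent.Nodes.RGDTwCoord.dc = f} := ⟨_, by first | (delta Cfsg.Agent.Nodes.RGDTwCoord.dc; rewrite [Cfsg.Agent.LsF.nmod_pat, Cfsg.Agent.LsF.ineg_pat, Cfsg.Agent.LsF.instDecEq_eq, Cfsg.Agent.LsF.ite_eq]; exact rfl) | exact rfl⟩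
private noncomputable def _root_.Cfsg.Agent.LsF.fba7390_16 : {f // @Cfsg.Agent.Nodes.RGDTwCoord.NN = f} := ⟨_, by first | (delta Cfsg.Agent.Nodes.RGDTwCoord.NN; rewrite [Cfsg.Agent.LsF.fba7390_14.2, Cfsg.Agent.LsF.fba7390_15.2, Cfsg.Agent.LsF.imul_pat]; exact rfl) | exact rfl⟩
private noncomputable def _root_.Cfsg.Agent.LsF.fba7390_17 : {f // @Cfsg.Agent.Nodes.RGDTwCoordE6.dl = f} := ⟨_, by first | (delta Cfsg.Agent.Nodes.RGDTwCoordE6.dl; rewrite [Cfsg.Agent.LsF.dMemE_pat, Cfsg.Agent.LsF.ineg_pat, Cfsg.Agent.LsF.instDecEq_eq, Cfsg.Agent.LsF.ite_eq]; exact rfl) | exact rfl⟩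
private noncomputable def _root_.Cfsg.Agent.LsF.fba7390_18 : {f // @Cfsg.Agent.Nodes.RGDTwComE6.N = f} := ⟨_, by first | (delta Cfsg.Agent.Nodes.RGDTwComE6.N List.getLast List.brecOn List.brecOn.go List.getLastD List.getLast._f; rewrite [Cfsg.Agent.LsF.fba7390_6.2, Cfsg.Agent.LsF.fba7390_12.2, Cfsg.Agent.LsF.fba7390_13.2, Cfsg.Agent.LsF.fba7390_16.2, Cfsg.Agent.LsF.fba7390_5.2, Cfsg.Agent.LsF.fba7390_17.2, Cfsg.Agent.LsF.instDecEq_eq, Cfsg.Agent.LsF.headD_eq, Cfsg.Agent.LsF.ite_eq]; (try delta List.getLastD.match_1); (try delta List.getLast.match_1); (try delta List.casesOn); first | dsimp -zeta only | exact rfl) | exact rfl⟩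
theorem tab_SL : ∀ z ∈ SL, z ∈ rts ∧ (∀ i, 0 ≤ z i) ∧ z 0 = 1 ∧ th - z ∈ SL ∧ th + z ∉ rts ∧ Qv (th - z) = Qv z ∧
    (N z (th - z) = 1 ∨ N z (th - z) = -1) := by (refine of_decide_eq_true ?_; (try (rewrite [Cfsg.Agent.LsF.padd_pat, Cfsg.Agent.LsF.psub_pat, Cfsg.Agent.LsF.dPiF_pat, Cfsg.Agent.LsF.dMemE_pat, Cfsg.Agent.LsF.fba7390_0.2, Cfsg.Agent.LsF.fba7390_1.2, Cfsg.Agent.LsF.fba7390_2.2, Cfsg.Agent.LsF.fba7390_4.2, Cfsg.Agent.LsF.fba7390_18.2, Cfsg.Agent.LsF.iadd_pat, Cfsg.Agent.LsF.isub_pat, Cfsg.Agent.LsF.ineg_pat, Cfsg.Agent.LsF.instIDecEq_eq, Cfsg.Agent.LsF.idecLe_eq, Cfsg.Agent.LsF.dAnd_eq, Cfsg.Agent.LsF.dOr_eq, Cfsg.Agent.LsF.dNot_eq, Cfsg.Agent.LsF.dBAll_eq, Cfsg.Agent.LsF.dForallFin_eq, Cfsg.Agent.LsF.decide_eq])); decide +kernel)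

theorem tab_sum : ∀ z ∈ SL, ∀ w ∈ SL, z + w ∈ rts → z + w = th := by (refine of_decide_eq_true ?_; (try (rewrite [Cfsg.Agent.LsF.padd_pat, Cfsg.Agent.LsF.dPiF_pat, Cfsg.Agent.LsF.dMemE_pat, Cfsg.Agent.LsF.fba7390_0.2, Cfsg.Agent.LsF.fba7390_1.2, Cfsg.Agent.LsF.fba7390_2.2, Cfsg.Agent.LsF.iadd_pat, Cfsg.Agent.LsF.instIDecEq_eq, Cfsg.Agent.LsF.dBAll_eq, Cfsg.Agent.LsF.dAllP_eq, Cfsg.Agent.LsF.decide_eq])); decide +kernel)

theorem tab_nodup : SL.Nodup := by decide +kernel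

theorem tab_len : (SL.map fun z => if Qv z = 4 then 2 else 4).prod = 2 ^ 20 := by decide +kernel

/-! ### The field -/

section

variable {F : Type u} [Field F] [Fintype F] (hF : Fintype.card F = 4) {φ : F →+* F} (hφ : ∀ t, φ t = t ^ 2)

include hF in
theorem hqq (t : F) : (t ^ 2) ^ 2 = t := by
  rw [← pow_mul]
  have h := FiniteField.pow_card t
  rw [hF] at h
  exact h

include hF in
theorem two_eq : (2 : F) = 0 := by
  have h : ((Fintype.card F : ℕ) : F) = 0 := Nat.cast_card_eq_zero F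
  rw [hF] at h
  have h2 : (2 : F) * 2 = 0 := by
    have : ((4 : ℕ) : F) = 2 * 2 := by norm_num
    rw [← this]; exact h
  exact mul_self_eq_zero.1 h2

include hF in
theorem add_self (a : F) : a + a = 0 := by
  rw [← two_mul, two_eq hF, zero_mul]

include hF in
theorem exists_ne : ∃ c : F, c ≠ 0 ∧ c ≠ 1 := by
  by_contra hcon
  push Not at hcon
  have h1 : Fintype.card F ≤ 2 := by
    classical
    have h2 : (Finset.univ : Finset F) ⊆ {0, 1} := by
      intro a _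
      rw [Finset.mem_insert, Finset.mem_singleton]
      by_cases h : a = 0
      · exact Or.inl h
      · exact Or.inr (hcon a h)
    calc Fintype.card F = (Finset.univ : Finset F).card := rfl
      _ ≤ ({0, 1} : Finset F).card := Finset.card_le_card h2
      _ ≤ 2 := Finset.card_le_two
  omega

include hφ in
theorem card_fix : Nat.card {a : F // φ a = a} = 2 := by
  classical
  have h1 : ∀ a : F, φ a = a ↔ a = 0 ∨ a = 1 := by
    intro a
    rw [hφ]
    constructor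
    · intro h
      have h2 : a * (a - 1) = 0 := by linear_combination h
      rcases mul_eq_zero.1 h2 with h3 | h3
      · exact Or.inl h3
      · exact Or.inr (sub_eq_zero.1 h3)
    · rintro (rfl | rfl) <;> norm_num
  have h2 : {a : F | φ a = a} = {0, 1} := by
    ext a
    exact h1 a
  have h3 : Nat.card {a : F // φ a = a} = ({a : F | φ a = a} : Set F).ncard := rfl
  rw [h3, h2, Set.ncard_pair zero_ne_one]

/-! ### Root groups -/

theorem isRoot {z : Fin 4 → ℤ} (hz : z ∈ rts) : IsRoot cs RGDTwE6.isCartan z := (mem_rts cs).2 hz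

theorem isRoot_th : IsRoot cs RGDTwE6.isCartan th := isRoot tab_th.1

include hF hφ

/-- elements of root groups have order at most two -/
theorem X_sq {z : Fin 4 → ℤ} (hz : z ∈ rts) {x : KK F} (hx : x ∈ X φ z) : x * x = 1 := by
  obtain ⟨a, ha, rfl⟩ := (mem_X hφ (hqq hF) (isRoot hz) _).1 hx
  rw [← x_add hφ (hqq hF) (isRoot hz) ha ha, add_self hF]
  exact x_zero hφ (hqq hF) (isRoot hz)

theorem X_comm {z w : Fin 4 → ℤ} (hz : z ∈ rts) (hw : w ∈ rts) (hzw : z + w ∉ rts) (hne : z + w ≠ 0) {x y : KK F}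
    (hx : x ∈ X φ z) (hy : y ∈ X φ w) : x * y = y * x := by
  obtain ⟨a, ha, rfl⟩ := (mem_X hφ (hqq hF) (isRoot hz) _).1 hx
  obtain ⟨b, hb, rfl⟩ := (mem_X hφ (hqq hF) (isRoot hw) _).1 hy
  exact comm_nil hφ (hqq hF) (isRoot hz) (isRoot hw) (fun h => hzw ((mem_rts cs).1 h))
    (fun h => hne (by rw [h, add_neg_cancel])) a b

theorem card_X {z : Fin 4 → ℤ} (hz : z ∈ rts) : Nat.card (X φ z) = if Qv z = 4 then 2 else 4 := by
  have key : Nat.card (X φ z) = Nat.card {a : F // Ok chevE6 RGDTwE6.J O φ z a} := by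
    symm
    refine Nat.card_congr (Equiv.ofBijective
      (fun a : {a : F // Ok chevE6 RGDTwE6.J O φ z a} => (⟨RGDTwComE6.x φ 2 z a.1, x_mem hφ (hqq hF) (isRoot hz) a.2⟩ : X φ z)) ⟨?_, ?_⟩)
    · rintro ⟨a, ha⟩ ⟨b, hb⟩ h
      exact Subtype.ext (x_inj hφ (hqq hF) (isRoot hz) ha hb (congrArg Subtype.val h))
    · rintro ⟨g, hg⟩
      obtain ⟨a, ha, rfl⟩ := (mem_X hφ (hqq hF) (isRoot hz) _).1 hg
      exact ⟨⟨a, ha⟩, rfl⟩
  rw [key]
  split_ifs with h
  · rw [← card_fix hφ]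
    exact Nat.card_congr (Equiv.subtypeEquivRight fun a => ok_iff_long (isRoot hz) h)
  · refine (Nat.card_congr (Equiv.subtypeUnivEquiv fun a =>
      ok_short hφ (hqq hF) (isRoot hz) ((long_or_short (isRoot hz)).resolve_left h) a)).trans ?_
    rw [Nat.card_eq_fintype_card, hF]

/-- **Nondegeneracy.** -/
theorem X_nondeg {r : Fin 4 → ℤ} (hr : r ∈ SL) {x : KK F} (hx : x ∈ X φ r)
    (h : ∀ y ∈ X φ (th - r), x * y = y * x) : x = 1 := by
  obtain ⟨h1, -, -, h2, -, h3, h4⟩ := tab_SL r hr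
  have hr' := isRoot h1
  have hs' := isRoot (tab_SL _ h2).1
  have e : r + (th - r) = th := by abel
  have hsum : IsRoot cs RGDTwE6.isCartan (r + (th - r)) := by rw [e]; exact isRoot_th
  have hN : ((N r (th - r) : ℤ) : F) ≠ 0 := by
    rcases h4 with h5 | h5 <;> rw [h5] <;> simp
  obtain ⟨a, ha, rfl⟩ := (mem_X hφ (hqq hF) hr' _).1 hx
  rw [x_eq_one_iff hφ (hqq hF) hr' ha]
  by_cases hl : Qv r = 4
  · have hl' : Lg (th - r) := h3.trans hl
    have hfa : φ a = a := (ok_iff_long hr' hl).1 ha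
    have hf1 : φ (1 : F) = 1 := map_one φ
    obtain ⟨hl2, h5⟩ := comm_long hφ (hqq hF) hr' hs' hsum hl hl' hfa hf1
    have h6 := h _ (x_mem hφ (hqq hF) hs' (ok_one _))
    rw [commutatorElement_eq_one_iff_mul_comm.2 h6] at h5
    have h7 := (x_eq_one_iff hφ (hqq hF) hsum (ok_long hsum hl2 (by
      rw [map_mul, map_mul, map_intCast, hfa, hf1]))).1 h5.symm
    rw [mul_one] at h7
    exact (mul_eq_zero.1 h7).resolve_left hN
  · have hs : St r := (long_or_short hr').resolve_left hl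
    have hs2 : St (th - r) := h3.trans hs
    have hl3 : Lg (r + (th - r)) := by rw [e]; exact tab_th.2.2.1
    by_contra ha0
    obtain ⟨c, hc0, hc1⟩ := exists_ne hF
    have hpp := phi_phi hφ (hqq hF)
    have h5 := comm_trace hφ (hqq hF) hr' hs' hsum hs hs2 hl3 a (φ (c / a))
    have h6 := h _ (x_mem hφ (hqq hF) hs' (ok_short hφ (hqq hF) hs' hs2 (φ (c / a))))
    rw [commutatorElement_eq_one_iff_mul_comm.2 h6] at h5
    have hsim : a * φ (φ (c / a)) + φ a * φ (c / a) = c + c ^ 2 := by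
      rw [hpp, mul_div_cancel₀ _ ha0, ← map_mul, mul_div_cancel₀ _ ha0, hφ]
    rw [hsim] at h5
    have h7 := (x_eq_one_iff hφ (hqq hF) hsum (ok_long hsum hl3 (by
      rw [map_mul, map_intCast, hφ]
      have h8 : (c + c ^ 2) ^ 2 = c + c ^ 2 := by
        have h9 := hqq hF c
        have h10 := two_eq hF
        linear_combination h9 + c * c ^ 2 * h10
      rw [h8]))).1 h5.symm
    have h8 := (mul_eq_zero.1 h7).resolve_left hN
    have h9 : c * (1 + c) = 0 := by linear_combination h8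
    have h10 := (mul_eq_zero.1 h9).resolve_left hc0
    apply hc1
    have h11 := two_eq hF
    linear_combination h10 - h11

/-! ### The filtration -/

omit hF hφ [Fintype F] in
/-- the subgroup generated by `X_θ` and the root groups of a list of roots -/
noncomputable def HH (φ : F →+* F) : List (Fin 4 → ℤ) → Subgroup (KK F)
  | [] => X φ th
  | r :: L => X φ r ⊔ HH φ L

omit hF hφ [Fintype F] in
theorem Z_le_HH (L : List (Fin 4 → ℤ)) : X φ th ≤ HH φ L := by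
  induction L with
  | nil => exact le_refl _
  | cons r L ih => exact ih.trans le_sup_right

omit hF hφ [Fintype F] in
theorem X_le_HH {L : List (Fin 4 → ℤ)} {r : Fin 4 → ℤ} (hr : r ∈ L) : X φ r ≤ HH φ L := by
  induction L with
  | nil => exact absurd hr List.not_mem_nil
  | cons s L ih =>
    rcases List.mem_cons.1 hr with rfl | h
    · exact le_sup_left
    · exact (ih h).trans le_sup_right

omit hF hφ [Fintype F] in
theorem HH_le {L : List (Fin 4 → ℤ)} {K : Subgroup (KK F)} (h : ∀ r ∈ L, X φ r ≤ K) (h0 : X φ th ≤ K) : HH φ L ≤ K := by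
  induction L with
  | nil => exact h0
  | cons s L ih => exact sup_le (h s List.mem_cons_self) (ih fun r hr => h r (List.mem_cons_of_mem _ hr))

/-- `X_θ` commutes with all root groups of `V₁` -/
theorem Z_comm {r : Fin 4 → ℤ} (hr : r ∈ SL) {x y : KK F} (hx : x ∈ X φ th) (hy : y ∈ X φ r) : x * y = y * x := by
  obtain ⟨h1, -, h0, -, h2, -⟩ := tab_SL r hr
  refine X_comm hF hφ tab_th.1 h1 h2 (fun h => ?_) hx hy
  have h3 := congrFun h 0
  rw [Pi.add_apply, h0] at h3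
  revert h3
  decide

/-- root groups of `V₁` commute unless the sum is `θ` -/
theorem X_comm' {r s : Fin 4 → ℤ} (hr : r ∈ SL) (hs : s ∈ SL) (hne : r + s ≠ th) {x y : KK F} (hx : x ∈ X φ r)
    (hy : y ∈ X φ s) : x * y = y * x := by
  obtain ⟨h1, -, h0, -⟩ := tab_SL r hr
  obtain ⟨h1', -, h0', -⟩ := tab_SL s hs
  refine X_comm hF hφ h1 h1' (fun h => hne (tab_sum r hr s hs h)) (fun h => ?_) hx hy
  have h3 := congrFun h 0
  rw [Pi.add_apply, h0, h0'] at h3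
  revert h3
  decide

theorem HH_comm {L : List (Fin 4 → ℤ)} (hL : ∀ r ∈ L, r ∈ SL) {s : Fin 4 → ℤ} (hs : s ∈ SL) (hne : ∀ r ∈ L, r + s ≠ th)
    {x y : KK F} (hx : x ∈ HH φ L) (hy : y ∈ X φ s) : x * y = y * x := by
  have h : HH φ L ≤ Subgroup.centralizer ({y} : Set (KK F)) := by
    refine HH_le (fun r hr x hx => ?_) (fun x hx => ?_)
    · rw [Subgroup.mem_centralizer_singleton_iff]
      exact X_comm' hF hφ (hL r hr) hs (hne r hr) hx hy
    · rw [Subgroup.mem_centralizer_singleton_iff]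
      exact Z_comm hF hφ hs hx hy
  have h1 := h hx
  rwa [Subgroup.mem_centralizer_singleton_iff] at h1

/-- commutators of root elements of `V₁` -/
theorem X_commutator {r s : Fin 4 → ℤ} (hr : r ∈ SL) (hs : s ∈ SL) {x y : KK F} (hx : x ∈ X φ r) (hy : y ∈ X φ s) :
    x * y * x⁻¹ * y⁻¹ ∈ X φ th := by
  by_cases hne : r + s = th
  · obtain ⟨h1, -, -, -, -, h3, -⟩ := tab_SL r hr
    have e : s = th - r := by rw [← hne]; abel
    subst e
    have hr' := isRoot h1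
    have hs' := isRoot (tab_SL _ hs).1
    have hsum : IsRoot cs RGDTwE6.isCartan (r + (th - r)) := by rw [hne]; exact isRoot_th
    obtain ⟨a, ha, rfl⟩ := (mem_X hφ (hqq hF) hr' _).1 hx
    obtain ⟨b, hb, rfl⟩ := (mem_X hφ (hqq hF) hs' _).1 hy
    rw [← commutatorElement_def]
    by_cases hl : Qv r = 4
    · have hl' : Lg (th - r) := h3.trans hl
      have hfa : φ a = a := (ok_iff_long hr' hl).1 ha
      have hfb : φ b = b := (ok_iff_long hs' hl').1 hb
      obtain ⟨hl2, h5⟩ := comm_long hφ (hqq hF) hr' hs' hsum hl hl' hfa hfb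
      rw [h5]
      have h6 := x_mem (q := 2) hφ (hqq hF) hsum (ok_long hsum hl2 (a := ((N r (th - r) : ℤ) : F) * (a * b)) (by
        rw [map_mul, map_mul, map_intCast, hfa, hfb]))
      have h7 : X φ (r + (th - r)) = X φ th := by rw [hne]
      rw [← h7]
      exact h6
    · have hs : St r := (long_or_short hr').resolve_left hl
      have hs2 : St (th - r) := h3.trans hs
      have hl3 : Lg (r + (th - r)) := by rw [hne]; exact tab_th.2.2.1
      have h5 := comm_trace hφ (hqq hF) hr' hs' hsum hs hs2 hl3 a b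
      rw [h5]
      have h6 := x_mem (q := 2) hφ (hqq hF) hsum (ok_long hsum hl3
        (a := ((N r (th - r) : ℤ) : F) * (a * φ b + φ a * b)) (by
          rw [map_mul, map_add, map_mul, map_mul, map_intCast, phi_phi hφ (hqq hF), phi_phi hφ (hqq hF), add_comm]))
      have h7 : X φ (r + (th - r)) = X φ th := by rw [hne]
      rw [← h7]
      exact h6
  · have h1 := X_comm' hF hφ hr hs hne hx hy
    have h2 : x * y * x⁻¹ * y⁻¹ = 1 := by rw [h1]; group
    rw [h2]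
    exact one_mem _

omit hF hφ [Fintype F] in
/-- the elements `x` centralising `Z` with `[x, y] ∈ Z` -/
def CC {G : Type v} [Group G] (Z : Subgroup G) (y : G) : Subgroup G where
  carrier := {x | (∀ z ∈ Z, x * z = z * x) ∧ x * y * x⁻¹ * y⁻¹ ∈ Z}
  one_mem' := ⟨fun z _ => by rw [one_mul, mul_one], by
    have h : (1 : G) * y * 1⁻¹ * y⁻¹ = 1 := by group
    rw [h]; exact one_mem _⟩
  mul_mem' := by
    rintro a b ⟨ha, ha'⟩ ⟨hb, hb'⟩
    refine ⟨fun z hz => ?_, ?_⟩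
    · rw [mul_assoc, hb z hz, ← mul_assoc, ha z hz, mul_assoc]
    · have h1 := ha _ hb'
      have h2 : a * b * y * (a * b)⁻¹ * y⁻¹ = (b * y * b⁻¹ * y⁻¹) * (a * y * a⁻¹ * y⁻¹) := by
        calc a * b * y * (a * b)⁻¹ * y⁻¹ = (a * (b * y * b⁻¹ * y⁻¹)) * a⁻¹ * (a * y * a⁻¹ * y⁻¹) := by group
          _ = _ := by rw [h1]; group
      rw [h2]
      exact mul_mem hb' ha'
  inv_mem' := by
    rintro a ⟨ha, ha'⟩
    refine ⟨fun z hz => ?_, ?_⟩
    · have h1 := ha z hz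
      calc a⁻¹ * z = a⁻¹ * (z * a) * a⁻¹ := by group
        _ = z * a⁻¹ := by rw [← h1]; group
    · have h1 := ha _ (inv_mem ha')
      have h2 : a⁻¹ * y * a⁻¹⁻¹ * y⁻¹ = (a * y * a⁻¹ * y⁻¹)⁻¹ := by
        calc a⁻¹ * y * a⁻¹⁻¹ * y⁻¹ = a⁻¹ * ((a * y * a⁻¹ * y⁻¹)⁻¹ * a) := by group
          _ = _ := by rw [← h1]; group
      rw [h2]
      exact inv_mem ha'

theorem Z_self {x y : KK F} (hx : x ∈ X φ th) (hy : y ∈ X φ th) : x * y = y * x :=
  X_comm hF hφ tab_th.1 tab_th.1 (by decide +kernel) (by decide +kernel) hx hy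

theorem HH_Z {L : List (Fin 4 → ℤ)} (hL : ∀ r ∈ L, r ∈ SL) {x y : KK F} (hx : x ∈ HH φ L) (hy : y ∈ X φ th) :
    x * y = y * x := by
  have h : HH φ L ≤ Subgroup.centralizer ({y} : Set (KK F)) := by
    refine HH_le (fun r hr x hx => ?_) (fun x hx => ?_)
    · rw [Subgroup.mem_centralizer_singleton_iff]
      exact (Z_comm hF hφ (hL r hr) hy hx).symm
    · rw [Subgroup.mem_centralizer_singleton_iff]
      exact Z_self hF hφ hx hy
  have h1 := h hx
  rwa [Subgroup.mem_centralizer_singleton_iff] at h1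

omit hF hφ [Fintype F] in
theorem comm_one {G : Type v} [Group G] {x y : G} {Z : Subgroup G} (h : x * y = y * x) : x * y * x⁻¹ * y⁻¹ ∈ Z := by
  have h1 : x * y * x⁻¹ * y⁻¹ = 1 := by rw [h]; group
  rw [h1]
  exact one_mem _

omit hF hφ [Fintype F] in
theorem comm_inv {G : Type v} [Group G] {x y : G} {Z : Subgroup G} (h : x * y * x⁻¹ * y⁻¹ ∈ Z) :
    y * x * y⁻¹ * x⁻¹ ∈ Z := by
  have h1 : y * x * y⁻¹ * x⁻¹ = (x * y * x⁻¹ * y⁻¹)⁻¹ := by group
  rw [h1]
  exact inv_mem h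

/-- commutators of `V₁` -/
theorem HH_commutator {L M : List (Fin 4 → ℤ)} (hL : ∀ r ∈ L, r ∈ SL) (hM : ∀ r ∈ M, r ∈ SL)
    {x y : KK F} (hx : x ∈ HH φ L) (hy : y ∈ HH φ M) : x * y * x⁻¹ * y⁻¹ ∈ X φ th := by
  have key : ∀ s ∈ SL, ∀ y ∈ X φ s, HH φ M ≤ CC (X φ th) y := by
    intro s hs y hy
    refine HH_le (fun r hr x hx => ⟨fun z hz => ?_, X_commutator hF hφ (hM r hr) hs hx hy⟩)
      (fun x hx => ⟨fun z hz => Z_self hF hφ hx hz, comm_one (Z_comm hF hφ hs hx hy)⟩)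
    exact (Z_comm hF hφ (hM r hr) hz hx).symm
  have h : HH φ L ≤ CC (X φ th) y := by
    refine HH_le (fun r hr x hx => ⟨fun z hz => ?_, ?_⟩) (fun x hx => ⟨fun z hz => Z_self hF hφ hx hz, ?_⟩)
    · exact (Z_comm hF hφ (hL r hr) hz hx).symm
    · exact comm_inv (key r (hL r hr) x hx hy).2
    · exact comm_one (HH_Z hF hφ hM hy hx).symm
  exact (h hx).2

theorem HH_cons {r : Fin 4 → ℤ} {L : List (Fin 4 → ℤ)} (hL : ∀ s ∈ r :: L, s ∈ SL) {x y : KK F} (hx : x ∈ X φ r)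
    (hy : y ∈ HH φ L) : x * y * x⁻¹ * y⁻¹ ∈ X φ th :=
  HH_commutator hF hφ (L := [r]) (M := L) (fun s hs => by
    rw [List.mem_singleton] at hs
    rw [hs]
    exact hL r List.mem_cons_self) (fun s hs => hL s (List.mem_cons_of_mem _ hs))
    (Subgroup.mem_sup_left hx) hy

/-- the root groups are independent -/
theorem HH_inf {r : Fin 4 → ℤ} {L : List (Fin 4 → ℤ)} (hL : ∀ s ∈ r :: L, s ∈ SL) (hr : r ∉ L) {x : KK F}
    (hx : x ∈ X φ r) (hx' : x ∈ HH φ L) : x = 1 := by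
  have hr' := hL r List.mem_cons_self
  refine X_nondeg hF hφ hr' hx fun y hy => ?_
  refine HH_comm hF hφ (fun s hs => hL s (List.mem_cons_of_mem _ hs)) (tab_SL r hr').2.2.2.1 (fun s hs h => hr ?_) hx' hy
  have h1 : s = r := by
    have h2 : s + (th - r) = th - r + r := by rw [h, sub_add_cancel]
    rw [add_comm] at h2
    exact add_left_cancel h2
  rwa [← h1]

theorem HH_card {L : List (Fin 4 → ℤ)} (hL : ∀ s ∈ L, s ∈ SL) (hn : L.Nodup) :
    Nat.card (HH φ L) = (L.map fun z => if Qv z = 4 then 2 else 4).prod * 2 := by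
  induction L with
  | nil =>
    rw [List.map_nil, List.prod_nil, one_mul]
    have h := card_X hF hφ tab_th.1
    rw [if_pos tab_th.2.2.1] at h
    exact h
  | cons r L ih =>
    rw [List.map_cons, List.prod_cons, mul_assoc, ← ih (fun s hs => hL s (List.mem_cons_of_mem _ hs)) hn.of_cons,
      ← card_X hF hφ (tab_SL r (hL r List.mem_cons_self)).1]
    exact card_sup (Z_le_HH L) (fun a ha b hb => HH_cons hF hφ hL ha hb)
      (fun x hx hx' => HH_inf hF hφ hL (List.nodup_cons.1 hn).1 hx hx')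

theorem HH_sq {L : List (Fin 4 → ℤ)} (hL : ∀ s ∈ L, s ∈ SL) {x : KK F} (hx : x ∈ HH φ L) : x * x ∈ X φ th := by
  revert x
  induction L with
  | nil => exact fun {x} hx => mul_mem hx hx
  | cons r L ih =>
    intro x hx
    obtain ⟨a, ha, b, hb, rfl⟩ := exists_mul (Z_le_HH L) (fun a ha b hb => HH_cons hF hφ hL ha hb) hx
    have h1 := ih (fun s hs => hL s (List.mem_cons_of_mem _ hs)) hb
    have h2 := X_sq hF hφ (tab_SL r (hL r List.mem_cons_self)).1 ha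
    have h3 := comm_inv (HH_cons hF hφ hL ha hb)
    have h4 := Z_comm hF hφ (hL r List.mem_cons_self) h3 ha
    have h5 : a * b * (a * b) = (b * a * b⁻¹ * a⁻¹) * (b * b) := by
      calc a * b * (a * b) = a * (b * a * b⁻¹ * a⁻¹) * a * (b * b) := by group
        _ = (b * a * b⁻¹ * a⁻¹) * (a * a) * (b * b) := by rw [← h4]; group
        _ = _ := by rw [h2, mul_one]
    rw [h5]
    exact mul_mem h3 h1

theorem HH_center {L : List (Fin 4 → ℤ)} (hL : ∀ s ∈ L, s ∈ SL) (hn : L.Nodup) {x : KK F} (hx : x ∈ HH φ L)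
    (hc : ∀ r ∈ L, ∀ y ∈ X φ (th - r), x * y = y * x) : x ∈ X φ th := by
  revert x
  induction L with
  | nil => exact fun {x} hx _ => hx
  | cons r L ih =>
    intro x hx hc
    have hr := hL r List.mem_cons_self
    have hL' : ∀ s ∈ L, s ∈ SL := fun s hs => hL s (List.mem_cons_of_mem _ hs)
    obtain ⟨a, ha, b, hb, rfl⟩ := exists_mul (Z_le_HH L) (fun a ha b hb => HH_cons hF hφ hL ha hb) hx
    have ha1 : a = 1 := by
      refine X_nondeg hF hφ hr ha fun y hy => ?_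
      have h1 : b * y = y * b := by
        refine HH_comm hF hφ hL' (tab_SL r hr).2.2.2.1 (fun s hs h => (List.nodup_cons.1 hn).1 ?_) hb hy
        have h1 : s = r := by
          have h2 : s + (th - r) = th - r + r := by rw [h, sub_add_cancel]
          rw [add_comm] at h2
          exact add_left_cancel h2
        rwa [← h1]
      have h2 := hc r List.mem_cons_self y hy
      have h3 : a * y * b = y * a * b := by
        calc a * y * b = a * (b * y) := by rw [h1, mul_assoc]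
          _ = a * b * y := by rw [mul_assoc]
          _ = y * (a * b) := h2
          _ = y * a * b := by rw [mul_assoc]
      exact mul_right_cancel h3
    rw [ha1, one_mul]
    refine ih hL' (List.nodup_cons.1 hn).2 hb fun s hs y hy => ?_
    have h2 := hc s (List.mem_cons_of_mem _ hs) y hy
    rwa [ha1, one_mul] at h2

/-! ### `V₁` -/

omit hF hφ [Fintype F] in
theorem V_eq : V φ j1 = HH φ SL := by
  apply le_antisymm
  · refine RGD.Sup_le fun z hz => ?_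
    obtain ⟨h1, h2, k, hk, hk0⟩ := hz
    have h3 : k = 0 := by
      by_contra hne
      exact hk hne
    subst h3
    rcases tab_pos z ((mem_rts cs).1 h1) hk0 with rfl | h
    · exact Z_le_HH SL
    · exact X_le_HH h
  · refine HH_le (fun r hr => ?_) ?_
    · obtain ⟨h1, h2, h3, -⟩ := tab_SL r hr
      refine RGD.le_Sup (S := NotJ cs RGDTwE6.isCartan j1) ⟨isRoot h1, fun i => h2 i, 0, fun h => h rfl, ?_⟩
      rw [h3]
      decide
    · exact RGD.le_Sup (S := NotJ cs RGDTwE6.isCartan j1)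
        ⟨isRoot tab_th.1, fun i => tab_th.2.1 i, 0, fun h => h rfl, by decide +kernel⟩

/-- **K6** : `V₁` is extraspecial of order `2 ^ 21` with centre `X_θ`. -/
theorem V1_struct : (∀ x ∈ V φ j1, ∀ y ∈ V φ j1, x * y * x⁻¹ * y⁻¹ ∈ X φ th) ∧ (∀ x ∈ V φ j1, x * x ∈ X φ th) ∧
    (∀ x ∈ V φ j1, (∀ y ∈ V φ j1, x * y = y * x) → x ∈ X φ th) ∧ Nat.card (V φ j1) = 2 ^ 21 := by
  rw [V_eq]
  refine ⟨fun x hx y hy => HH_commutator hF hφ (fun r hr => hr) (fun r hr => hr) hx hy,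
    fun x hx => HH_sq hF hφ (fun r hr => hr) hx, fun x hx h => ?_, ?_⟩
  · exact HH_center hF hφ (fun r hr => hr) tab_nodup hx fun r hr y hy => h y (X_le_HH (tab_SL r hr).2.2.2.1 hy)
  · rw [HH_card hF hφ (fun r hr => hr) tab_nodup, tab_len]
    norm_num

/-- `X_θ` has order two -/
theorem card_X_th : Nat.card (X φ th) = 2 := by
  have h := card_X hF hφ tab_th.1
  rwa [if_pos tab_th.2.2.1] at h

end

end Cfsg.Agent.H594.QF
end

-- part: H240/F4/Card_mg
section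
prune_inst 0x14305501472200000004008221005cb397000090002b8c08456502400248af63090027008c00120941002220000d002813540019400000002084040000000020808040008308a19506000f80888c415000385000000000000000000000000000014010000
set_option linter.all false
open scoped Cfsg.Agent.FastGrp

-- part: H240/F4/Card
section
/-!
# Orders in `²E₆(2)`: `|U| = 2 ^ 36`, `|V₄| = 2 ^ 24`, `|L₄| = |Ω₈⁻(2)|` (helper240, for the row F4 of S2491)
-/

set_option autoImplicit false
set_option linter.unusedSectionVars false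
set_option maxRecDepth 20000

namespace Cfsg.Agent.H240.F4

open CoxeterSystem Cfsg.Agent.ChevalleyStructure.CoxeterGeom Cfsg.Agent.Tits.Roots Cfsg.Agent.Tits.Core
  Cfsg.Agent.Nodes Cfsg.Agent.Nodes.Reps Cfsg.Agent.Nodes.BNOf Cfsg.Agent.Nodes.RGDLib Cfsg.Agent.Nodes.Bruhat
  Cfsg.Agent.Nodes.OppDec Cfsg.Agent.Nodes.LeviDec Cfsg.Agent.Nodes.StabComb Cfsg.Agent.Nodes.Unique
open Cfsg.Lie Subgroup
open Cfsg.Agent.H231.QF
open Cfsg.Agent.Nodes.RGDTwCoordE6 Cfsg.Agent.Nodes.RGDTwComE6 Cfsg.Agent.Nodes.RGDTwActE6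
open Cfsg.Agent.KFacts.TwESix.Comb (rts mem_rts)
open Cfsg.Agent.H594.QF (hqq card_X two_eq isRoot)

universe u

/-! ### root combinatorics -/

theorem closed_NotJ (J : Set (Fin 4)) : Closed cs RGDTwE6.isCartan (NotJ cs RGDTwE6.isCartan J) := by
  rintro x ⟨-, hx0, k, hk, hxk⟩ y ⟨-, hy0, -⟩ z hz
  refine ⟨hz.1, RGD.nonneg_of_btwn hx0 hy0 hz, k, hk, ?_⟩
  obtain ⟨-, m, a, b, hm, ha, hb, he⟩ := hz
  have h1 := congrFun he k
  simp only [Pi.add_apply, Pi.smul_apply, smul_eq_mul] at h1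
  have h2 : 0 < m * z k := by
    rw [h1]
    exact add_pos_of_pos_of_nonneg (mul_pos ha hxk) (mul_nonneg hb.le (hy0 k))
  exact (mul_pos_iff_of_pos_left hm).1 h2

/-- the positive roots -/
def posL : List (Fin 4 → ℤ) := rts.filter fun z => decide (∀ i, 0 ≤ z i)

/-- the roots of `V₄` -/
def notL : List (Fin 4 → ℤ) := rts.filter fun z => decide ((∀ i, 0 ≤ z i) ∧ 0 < z 3)

theorem posL_eq : (posL.toFinset : Set (Fin 4 → ℤ)) = RGD.Pos cs RGDTwE6.isCartan := by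
  ext z
  rw [Finset.mem_coe, List.mem_toFinset, posL, List.mem_filter, decide_eq_true_eq]
  exact ⟨fun h => ⟨isRoot h.1, h.2⟩, fun h => ⟨(mem_rts cs).1 h.1, h.2⟩⟩

theorem notL_eq : (notL.toFinset : Set (Fin 4 → ℤ)) = NotJ cs RGDTwE6.isCartan j4 := by
  ext z
  rw [Finset.mem_coe, List.mem_toFinset, notL, List.mem_filter, decide_eq_true_eq]
  constructor
  · rintro ⟨h1, h2, h3⟩
    exact ⟨isRoot h1, h2, 3, fun h => h rfl, h3⟩
  · rintro ⟨h1, h2, k, hk, h3⟩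
    have h4 : k = 3 := by
      by_contra h
      exact hk h
    subst h4
    exact ⟨(mem_rts cs).1 h1, h2, h3⟩

theorem posL_mem : ∀ z ∈ posL, z ∈ rts := fun _ h => (List.mem_filter.1 h).1
theorem notL_mem : ∀ z ∈ notL, z ∈ rts := fun _ h => (List.mem_filter.1 h).1

theorem posL_nodup : posL.Nodup := by decide +kernel
theorem notL_nodup : notL.Nodup := by decide +kernel
theorem posL_prod : (posL.map fun z => if Qv z = 4 then 2 else 4).prod = 2 ^ 36 := by decide +kernel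
theorem notL_prod : (notL.map fun z => if Qv z = 4 then 2 else 4).prod = 2 ^ 24 := by decide +kernel

theorem j4_eq : j4 = {j | j ∈ ([0, 1, 2] : List (Fin 4))} := by
  ext k
  show k ≠ 3 ↔ k ∈ ([0, 1, 2] : List (Fin 4))
  revert k
  decide

section

variable {F : Type u} [Field F] [Fintype F] (hF : Fintype.card F = 4) {φ : F →+* F} (hφ : ∀ t, φ t = t ^ 2)

include hF in
theorem charTwo : CharP F 2 := by
  refine ringChar.of_eq (CharP.ringChar_of_prime_eq_zero Nat.prime_two ?_)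
  exact_mod_cast two_eq hF

include hF hφ

theorem card_list {l : List (Fin 4 → ℤ)} (hl : ∀ z ∈ l, z ∈ rts) (hn : l.Nodup) :
    ∏ x ∈ l.toFinset, Nat.card (X φ x) = (l.map fun z => if Qv z = 4 then 2 else 4).prod := by
  rw [List.prod_toFinset _ hn]
  congr 1
  exact List.map_congr_left fun z hz => card_X hF hφ (hl z hz)

/-- `|U| = 2 ^ 36` -/
theorem card_U : Nat.card ↥(RGD.Sup (X φ) (RGD.Pos cs RGDTwE6.isCartan)) = 2 ^ 36 := by
  have : Fact (Nat.Prime 2) := ⟨Nat.prime_two⟩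
  have : CharP F 2 := charTwo hF
  have hfin : Finite CoxeterMatrix.F₄.Group := RGDFold.finite_W (hp := RGDTwE6.hp) cs RGDTwE6.isCartan
    RGDTwE6.foldData
  have R := RGDTwE6.rgd cs hφ (hqq hF) 2
  have h := Cfsg.Agent.Nodes.CardSup.card_sup R (s := posL.toFinset) posL_eq.le (by rw [posL_eq]; exact closed_pos)
  rw [posL_eq] at h
  rw [← posL_prod, ← card_list hF hφ posL_mem posL_nodup]
  exact h

/-- `|V₄| = 2 ^ 24` -/
theorem card_V4 : Nat.card ↥(V φ j4) = 2 ^ 24 := by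
  have : Fact (Nat.Prime 2) := ⟨Nat.prime_two⟩
  have : CharP F 2 := charTwo hF
  have hfin : Finite CoxeterMatrix.F₄.Group := RGDFold.finite_W (hp := RGDTwE6.hp) cs RGDTwE6.isCartan
    RGDTwE6.foldData
  have R := RGDTwE6.rgd cs hφ (hqq hF) 2
  have h := Cfsg.Agent.Nodes.CardSup.card_sup R (s := notL.toFinset)
    (notL_eq.le.trans fun _ hx => ⟨hx.1, hx.2.1⟩) (by rw [notL_eq]; exact closed_NotJ j4)
  rw [notL_eq] at h
  rw [← notL_prod, ← card_list hF hφ notL_mem notL_nodup]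
  exact h

omit hφ in
/-- `|T| = 3` -/
theorem card_T : Nat.card ↥(RGDTwE6.T F 2) = 3 := by
  have hpp : IsPrimePow 2 := Nat.prime_two.isPrimePow
  have hT : Nat.gcd 3 (2 + 1) * Nat.card ↥(RGDTwE6.T F 2) = (2 - 1) ^ 4 * (2 + 1) ^ 2 := by
    rw [← Cfsg.Agent.S1102.result (K := F) hpp hF]
    congr 1
    exact Nat.card_congr (Subgroup.subgroupOfEquivOfLe inf_le_right).toEquiv
  norm_num only [] at hT
  omega

/-- **B1.** `|L₄| = |Ω₈⁻(2)|` -/
theorem card_Lv : Nat.card ↥(Lv φ j4) = 197406720 := by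
  have : Fact (Nat.Prime 2) := ⟨Nat.prime_two⟩
  have : CharP F 2 := charTwo hF
  have hfin : Finite CoxeterMatrix.F₄.Group := RGDFold.finite_W (hp := RGDTwE6.hp) cs RGDTwE6.isCartan
    RGDTwE6.foldData
  have R := RGDTwE6.rgd cs hφ (hqq hF) 2
  have h1 := Cfsg.Agent.H631.Fpf.CardTw.card_P012 hφ (hqq hF) one_lt_two (p := 2) hF
  have h2 := Cfsg.Agent.H866.OZ.card_PJ_LV R j4
  have h3 := Cfsg.Agent.H35.Poin.card_B' R
  have h4 : Nat.card ↥(RGD.B cs RGDTwE6.isCartan (RGDTwE6.T F 2) (X φ)) = 2 ^ 36 * 3 := by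
    rw [h3, card_T hF]
    congr 1
    exact card_U hF hφ
  rw [← j4_eq] at h1
  have h5 : Nat.card ↥(Lv φ j4) * 2 ^ 24 = (1 + 2 + 2 ^ 2 + 2 ^ 4 + 2 ^ 5 + 2 ^ 6) *
      ((1 + 2 + 2 ^ 3 + 2 ^ 4) * (1 + 2 ^ 2)) * (2 ^ 36 * 3) := by
    rw [← card_V4 hF hφ, ← h4]
    exact h2.symm.trans h1
  omega

end

end Cfsg.Agent.H240.F4
end

-- part: H584/F4/Can
section
/-!
# Canonical lifts of root involutions in central extensions (S2491, QS row F4, box P4a; helper584)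

`BabyU/Lab.lean` treats double covers.  Here `π : L →* E` is any surjection with central kernel, `R : Roots E T`, and the
centralisers of the root involutions are perfect (`Cen`).  `w π T r` (`BabyU.Lab.w`) is the canonical lift.

* `commute_lift` : a lift of a root involution commutes with the lifts of the elements of its centraliser;
* `map_w`, `w_conj`, `w_sq`, `w_comm`, `w_line` : the properties of the canonical lift;
* `cen_root` : the instance `²E₆(2)`.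
-/

set_option autoImplicit false

namespace Cfsg.Agent.H584.F4.Can

open Cfsg.Agent.BabyU.Lab
open scoped commutatorElement

section

variable {L E : Type*} [Group L] [Group E] {π : L →* E} {T : Set E}

/-- a surjection with central kernel onto a group with root involutions whose centralisers are perfect -/
structure Cen (π : L →* E) (T : Set E) : Prop where
  surj : Function.Surjective π
  cen : ∀ z : L, π z = 1 → ∀ m : L, m * z = z * m
  roots : Roots E T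
  perf : ∀ r ∈ T, ⁅Subgroup.centralizer ({r} : Set E), Subgroup.centralizer ({r} : Set E)⁆ =
    Subgroup.centralizer ({r} : Set E)

variable (C : Cen π T)

include C

theorem comm_eq {a b a' b' : L} (ha : π a = π a') (hb : π b = π b') : ⁅a, b⁆ = ⁅a', b'⁆ := by
  have key : ∀ z x y : L, π z = 1 → ⁅z * x, y⁆ = ⁅x, y⁆ := by
    intro z x y hz
    have hc := C.cen z hz
    rw [commutatorElement_def, commutatorElement_def, mul_inv_rev]
    have h1 : z * x * y * (x⁻¹ * z⁻¹) * y⁻¹ = z * (x * y * x⁻¹) * z⁻¹ * y⁻¹ := by group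
    rw [h1, ← hc, mul_inv_cancel_right]
  have key2 : ∀ z x y : L, π z = 1 → ⁅x, z * y⁆ = ⁅x, y⁆ := by
    intro z x y hz
    rw [← commutatorElement_inv, key z _ _ hz, commutatorElement_inv]
  have e1 : a = (a * a'⁻¹) * a' := by group
  have e2 : b = (b * b'⁻¹) * b' := by group
  rw [e1, e2, key _ _ _ (by rw [map_mul, map_inv, ha, mul_inv_cancel]),
    key2 _ _ _ (by rw [map_mul, map_inv, hb, mul_inv_cancel])]

/-- **Lifts of commuting elements commute if one of them is a root involution.** -/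
theorem commute_lift {x y : L} (hx : π x ∈ T) (h : π x * π y = π y * π x) : x * y = y * x := by
  have hle : Subgroup.centralizer ({π x} : Set E) ≤ (Subgroup.centralizer ({x} : Set L)).map π := by
    rw [← C.perf _ hx, Subgroup.commutator_le]
    intro a ha b hb
    obtain ⟨a, rfl⟩ := C.surj a
    obtain ⟨b, rfl⟩ := C.surj b
    refine ⟨⁅a, b⁆, ?_, map_commutatorElement π a b⟩
    rw [SetLike.mem_coe, Subgroup.mem_centralizer_singleton_iff]
    have h1 : ∀ c : L, π c ∈ Subgroup.centralizer ({π x} : Set E) → π (x * c * x⁻¹) = π c := by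
      intro c hc
      rw [Subgroup.mem_centralizer_singleton_iff] at hc
      rw [map_mul, map_mul, map_inv, ← hc, mul_inv_cancel_right]
    have h2 : x * ⁅a, b⁆ * x⁻¹ = ⁅a, b⁆ := by
      have h3 : x * ⁅a, b⁆ * x⁻¹ = ⁅x * a * x⁻¹, x * b * x⁻¹⁆ := by
        rw [commutatorElement_def, commutatorElement_def]; group
      rw [h3]
      exact comm_eq C (h1 a ha) (h1 b hb)
    rw [← mul_inv_eq_iff_eq_mul.1 h2]
  have hy : π y ∈ (Subgroup.centralizer ({x} : Set L)).map π :=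
    hle (Subgroup.mem_centralizer_singleton_iff.2 h.symm)
  obtain ⟨m, hm, e⟩ := hy
  have hm' : m * x = x * m := Subgroup.mem_centralizer_singleton_iff.1 hm
  have h1 : π (y * m⁻¹) = 1 := by rw [map_mul, map_inv, e, mul_inv_cancel]
  have h2 := C.cen _ h1
  obtain ⟨k, hk⟩ : ∃ k, k = y * m⁻¹ := ⟨_, rfl⟩
  rw [← hk] at h2
  have e2 : y = k * m := by rw [hk]; group
  rw [e2]
  calc x * (k * m) = (x * k) * m := by group
    _ = k * (x * m) := by rw [h2]; group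
    _ = k * m * x := by rw [← hm']; group

theorem spe_unique {x y x' y' : L} (hx : π x ∈ T) (hy : π y ∈ T)
    (hx' : π x' ∈ T) (hy' : π y' ∈ T) (h : ⁅π x, π y⁆ ∈ T) (he : ⁅π x, π y⁆ = ⁅π x', π y'⁆) :
    ⁅x, y⁆ = ⁅x', y'⁆ := by
  have R := C.roots
  obtain ⟨g, hg1, hg2⟩ := R.spe _ hx _ hy _ hx' _ hy'
    (by rwa [sq_mul_eq (R.sq _ hx) (R.sq _ hy)])
    (by rw [sq_mul_eq (R.sq _ hx') (R.sq _ hy'), ← he]; exact h)
  obtain ⟨m, rfl⟩ := C.surj g
  have h1 : m * ⁅x, y⁆ * m⁻¹ = ⁅x', y'⁆ := by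
    rw [show m * ⁅x, y⁆ * m⁻¹ = ⁅m * x * m⁻¹, m * y * m⁻¹⁆ by
      rw [commutatorElement_def, commutatorElement_def]; group]
    exact comm_eq C (by rw [← hg1]; simp only [_root_.map_mul, _root_.map_inv]) (by rw [← hg2]; simp only [_root_.map_mul, _root_.map_inv])
  have h2 : π ⁅x, y⁆ ∈ T := by rw [map_commutatorElement]; exact h
  have h3 : ⁅x, y⁆ * m = m * ⁅x, y⁆ := by
    refine commute_lift C h2 ?_
    have h4 : π m * π ⁅x, y⁆ * (π m)⁻¹ = π ⁅x, y⁆ := by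
      rw [← map_inv, ← map_mul, ← map_mul, h1, map_commutatorElement, map_commutatorElement, he]
    exact (mul_inv_eq_iff_eq_mul.1 h4).symm
  rw [← h1, ← h3, mul_inv_cancel_right]

theorem exists_spe {r : E} (hr : r ∈ T) : ∃ x y : L, π x ∈ T ∧ π y ∈ T ∧ ⁅π x, π y⁆ = r := by
  have R := C.roots
  obtain ⟨a, ha, b, hb, hab⟩ := R.spe_ex
  obtain ⟨g, hg⟩ := R.one _ hab _ hr
  obtain ⟨x, hx⟩ := C.surj (g * a * g⁻¹)
  obtain ⟨y, hy⟩ := C.surj (g * b * g⁻¹)
  refine ⟨x, y, hx ▸ R.conj _ ha g, hy ▸ R.conj _ hb g, ?_⟩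
  rw [hx, hy, ← hg, sq_mul_eq (R.sq _ ha) (R.sq _ hb), commutatorElement_def,
    commutatorElement_def]
  group

/-- (special pairs) -/
theorem w_commutator {x y : L} (hx : π x ∈ T) (hy : π y ∈ T)
    (h : ⁅π x, π y⁆ ∈ T) : w π T ⁅π x, π y⁆ = ⁅x, y⁆ := by
  classical
  have hex : ∃ x' y' : L, π x' ∈ T ∧ π y' ∈ T ∧ ⁅π x', π y'⁆ = ⁅π x, π y⁆ := ⟨x, y, hx, hy, rfl⟩
  rw [w, dif_pos hex]
  obtain ⟨h1, h2, h3⟩ := hex.choose_spec.choose_spec
  exact spe_unique C h1 h2 hx hy (by rw [h3]; exact h) h3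

theorem map_w {r : E} (hr : r ∈ T) : π (w π T r) = r := by
  obtain ⟨x, y, hx, hy, rfl⟩ := exists_spe C hr
  rw [w_commutator C hx hy hr, map_commutatorElement]

theorem w_conj (m : L) {r : E} (hr : r ∈ T) : m * w π T r * m⁻¹ = w π T (π m * r * (π m)⁻¹) := by
  have R := C.roots
  obtain ⟨x, y, hx, hy, rfl⟩ := exists_spe C hr
  have e1 : π m * ⁅π x, π y⁆ * (π m)⁻¹ = ⁅π (m * x * m⁻¹), π (m * y * m⁻¹)⁆ := by
    simp only [map_mul, map_inv, commutatorElement_def]; group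
  have h1 : π (m * x * m⁻¹) ∈ T := by rw [map_mul, map_mul, map_inv]; exact R.conj _ hx _
  have h2 : π (m * y * m⁻¹) ∈ T := by rw [map_mul, map_mul, map_inv]; exact R.conj _ hy _
  have h3 : ⁅π (m * x * m⁻¹), π (m * y * m⁻¹)⁆ ∈ T := by rw [← e1]; exact R.conj _ hr _
  rw [e1, w_commutator C h1 h2 h3, w_commutator C hx hy hr, commutatorElement_def, commutatorElement_def]
  group

theorem w_comm {a b : E} (ha : a ∈ T) (hb : b ∈ T) (h : a * b = b * a) :
    w π T a * w π T b = w π T b * w π T a :=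
  commute_lift C (by rw [map_w C ha]; exact ha) (by rw [map_w C ha, map_w C hb]; exact h)

/-- the canonical lifts are involutions -/
theorem w_sq {r : E} (hr : r ∈ T) : w π T r * w π T r = 1 := by
  have R := C.roots
  obtain ⟨x, y, hx, hy, rfl⟩ := exists_spe C hr
  rw [w_commutator C hx hy hr]
  obtain ⟨v, hv⟩ : ∃ v, v = ⁅x, y⁆ := ⟨_, rfl⟩
  rw [← hv]
  have hπv : π v = ⁅π x, π y⁆ := by rw [hv, map_commutatorElement]
  have hy2 : π (y * y) = 1 := by rw [map_mul, R.sq _ hy]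
  have hcy := C.cen _ hy2
  have h1 : x * y * x⁻¹ = v * y := by rw [hv, commutatorElement_def]; group
  have hvy : v * y = y * v := by
    refine commute_lift C (by rw [hπv]; exact hr) ?_
    rw [hπv]
    obtain ⟨a, ha⟩ : ∃ a, a = π x := ⟨_, rfl⟩
    obtain ⟨b, hb⟩ : ∃ b, b = π y := ⟨_, rfl⟩
    rw [← ha] at hx
    rw [← hb] at hy
    rw [← ha, ← hb] at hr ⊢
    have ha2 := R.sq _ hx
    have hb2 := R.sq _ hy
    have ha' : a⁻¹ = a := inv_eq_iff_mul_eq_one.2 ha2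
    have hb' : b⁻¹ = b := inv_eq_iff_mul_eq_one.2 hb2
    have hr2 := R.sq _ hr
    have hr' : ⁅a, b⁆⁻¹ = ⁅a, b⁆ := inv_eq_iff_mul_eq_one.2 hr2
    have h5 : ⁅a, b⁆ * b = a * b * a := by rw [commutatorElement_def, ha', hb', mul_assoc, hb2, mul_one]
    have h6 : b * ⁅a, b⁆ = (⁅a, b⁆⁻¹ * b⁻¹)⁻¹ := by group
    rw [h6, hr', hb', h5, mul_inv_rev, mul_inv_rev, ha', hb', mul_assoc]
  have h2 : (v * y) * (v * y) = y * y := by
    rw [← h1]
    calc x * y * x⁻¹ * (x * y * x⁻¹) = x * (y * y) * x⁻¹ := by group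
      _ = y * y := by rw [hcy, mul_inv_cancel_right]
  have h3 : (v * y) * (v * y) = (v * v) * (y * y) := by
    calc (v * y) * (v * y) = v * (y * v) * y := by group
      _ = v * (v * y) * y := by rw [hvy]
      _ = _ := by group
  rw [h3] at h2
  exact mul_eq_right.1 h2

/-- **Lines.** -/
theorem w_line {a b : E} (ha : a ∈ T) (hb : b ∈ T) (h : a * b ∈ T) : w π T a * w π T b = w π T (a * b) := by
  have R := C.roots
  obtain ⟨a₀, ha₀, b₀, hb₀, x, hx, hab, hxa, hxb, hxab, hcom⟩ := R.cfg_line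
  have hxa' : ⁅x, a₀⁆ ∈ T := by rwa [← sq_mul_eq (R.sq _ hx) (R.sq _ ha₀)]
  have hxb' : ⁅x, b₀⁆ ∈ T := by rwa [← sq_mul_eq (R.sq _ hx) (R.sq _ hb₀)]
  have hxab' : ⁅x, a₀ * b₀⁆ ∈ T := by rwa [← sq_mul_eq (R.sq _ hx) (R.sq _ hab)]
  rw [sq_mul_eq (R.sq _ hx) (R.sq _ hb₀)] at hcom
  obtain ⟨A, hA⟩ := C.surj a₀
  obtain ⟨B, hB⟩ := C.surj b₀
  obtain ⟨X, hX⟩ := C.surj x
  have k1 : w π T ⁅x, a₀⁆ = ⁅X, A⁆ := by
    have := w_commutator C (x := X) (y := A) (by rw [hX]; exact hx) (by rw [hA]; exact ha₀) (by rw [hX, hA]; exact hxa')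
    rwa [hX, hA] at this
  have k2 : w π T ⁅x, b₀⁆ = ⁅X, B⁆ := by
    have := w_commutator C (x := X) (y := B) (by rw [hX]; exact hx) (by rw [hB]; exact hb₀) (by rw [hX, hB]; exact hxb')
    rwa [hX, hB] at this
  have k3 : w π T ⁅x, a₀ * b₀⁆ = ⁅X, A * B⁆ := by
    have := w_commutator C (x := X) (y := A * B) (by rw [hX]; exact hx) (by rw [map_mul, hA, hB]; exact hab)
      (by rw [map_mul, hX, hA, hB]; exact hxab')
    rwa [map_mul, hX, hA, hB] at this
  have hc2 : ⁅X, B⁆ * A = A * ⁅X, B⁆ := by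
    refine commute_lift C (by rw [map_commutatorElement, hX, hB]; exact hxb') ?_
    rw [map_commutatorElement, hX, hB, hA]
    exact hcom.symm
  have k4 : ⁅X, A * B⁆ = ⁅X, A⁆ * ⁅X, B⁆ := by
    rw [commutatorElement_def, commutatorElement_def, commutatorElement_def]
    rw [commutatorElement_def] at hc2
    calc X * (A * B) * X⁻¹ * (A * B)⁻¹ = (X * A * X⁻¹ * A⁻¹) * (A * (X * B * X⁻¹ * B⁻¹)) * A⁻¹ := by group
      _ = (X * A * X⁻¹ * A⁻¹) * ((X * B * X⁻¹ * B⁻¹) * A) * A⁻¹ := by rw [hc2]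
      _ = _ := by group
  have k5 : ⁅x, a₀ * b₀⁆ = ⁅x, a₀⁆ * ⁅x, b₀⁆ := by
    rw [commutatorElement_def, commutatorElement_def, commutatorElement_def]
    rw [commutatorElement_def] at hcom
    calc x * (a₀ * b₀) * x⁻¹ * (a₀ * b₀)⁻¹ = (x * a₀ * x⁻¹ * a₀⁻¹) * (a₀ * (x * b₀ * x⁻¹ * b₀⁻¹)) * a₀⁻¹ := by group
      _ = (x * a₀ * x⁻¹ * a₀⁻¹) * ((x * b₀ * x⁻¹ * b₀⁻¹) * a₀) * a₀⁻¹ := by rw [hcom]
      _ = _ := by group
  have k6 : w π T ⁅x, a₀⁆ * w π T ⁅x, b₀⁆ = w π T (⁅x, a₀⁆ * ⁅x, b₀⁆) := by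
    rw [k1, k2, ← k4, ← k3, k5]
  obtain ⟨g, hg1, hg2⟩ := R.col _ hxa' _ hxb' _ ha _ hb (by rw [← k5]; exact hxab') h
  obtain ⟨m, rfl⟩ := C.surj g
  have c1 := w_conj C m hxa'
  have c2 := w_conj C m hxb'
  have c3 := w_conj C m (r := ⁅x, a₀⁆ * ⁅x, b₀⁆) (by rw [← k5]; exact hxab')
  rw [hg1] at c1
  rw [hg2] at c2
  have e3 : π m * (⁅x, a₀⁆ * ⁅x, b₀⁆) * (π m)⁻¹ = a * b := by
    rw [← hg1, ← hg2]; group
  rw [e3] at c3
  rw [← c1, ← c2, ← c3, ← k6]
  group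

end

/-- **The instance.** -/
theorem cen_root {K : Type*} [Field K] [Fintype K] (hK : Fintype.card K = 4) {L : Type*} [Group L]
    {π : L →* ↥(Cfsg.Lie.twistedE6 K 2)} (hs : Function.Surjective π) (hc : π.ker ≤ Subgroup.center L) :
    Cen π (Cfsg.Agent.BabyU.rootClass K) where
  surj := hs
  cen _ hz m := Subgroup.mem_center_iff.1 (hc hz) m
  roots := Cfsg.Agent.TwoESix.RootsInst.roots K hK
  perf _ hr := Cfsg.Agent.BabyU.Perf1.perf_root hK hr

end Cfsg.Agent.H584.F4.Can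
end

-- part: H584/F4/Span
section
/-!
# The complement of the kernel in the preimage of the layer `2^8` (S2491, QS row F4, box P4a; helper584)

The polar space of `O₈⁻(2)` is generated by eight points: `tri` lists the lines used.

* `w_pr` : the canonical lifts of the 119 singular vectors are products of the canonical lifts of eight of them;
* `exists_D_of` : the subgroup `D`.
-/

set_option autoImplicit false

namespace Cfsg.Agent.H584.F4.Span

open Cfsg.Agent.BabyU.Lab Cfsg.Agent.H584.F4.Can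

/-- product of the `g i` over the binary digits of `c` -/
def pr {G : Type*} [Group G] (g : ℕ → G) (c : ℕ) : G :=
  ((List.range 8).map fun i => if c.testBit i then g i else 1).prod

theorem prod_xor {G : Type*} [Group G] {g : ℕ → G} (l : List ℕ) (hc : ∀ i ∈ l, ∀ j ∈ l, g i * g j = g j * g i)
    (h2 : ∀ i ∈ l, g i * g i = 1) (a b : ℕ) :
    (l.map fun i => if a.testBit i then g i else 1).prod * (l.map fun i => if b.testBit i then g i else 1).prod =
      (l.map fun i => if (a ^^^ b).testBit i then g i else 1).prod := by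
  induction l with
  | nil => simp
  | cons i l ih =>
    have hih := ih (fun j hj k hk => hc j (List.mem_cons_of_mem _ hj) k (List.mem_cons_of_mem _ hk))
      (fun j hj => h2 j (List.mem_cons_of_mem _ hj))
    rw [List.map_cons, List.map_cons, List.map_cons, List.prod_cons, List.prod_cons, List.prod_cons, ← hih]
    obtain ⟨A, hA⟩ : ∃ A, A = (l.map fun i => if a.testBit i then g i else 1).prod := ⟨_, rfl⟩
    have hcA : ∀ j ∈ i :: l, g j * A = A * g j := by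
      intro j hj
      have : Commute (g j) A := by
        rw [hA]
        refine Commute.list_prod_right _ _ ?_
        intro x hx
        obtain ⟨k, hk, rfl⟩ := List.mem_map.1 hx
        split
        · exact hc j hj k (List.mem_cons_of_mem _ hk)
        · exact Commute.one_right _
      exact this
    rw [← hA]
    have h4 := h2 i List.mem_cons_self
    have h5 := hcA i List.mem_cons_self
    rw [Nat.testBit_xor]
    cases ha : a.testBit i <;> cases hb : b.testBit i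
    · simp [mul_assoc]
    · simp only [Bool.false_eq_true, if_false, if_true, Bool.false_xor, one_mul]
      rw [← mul_assoc, ← h5, mul_assoc]
    · simp [mul_assoc]
    · simp only [if_true, Bool.xor_self, Bool.false_eq_true, if_false, one_mul]
      rw [mul_assoc, ← mul_assoc A, ← h5, mul_assoc (g i) A, ← mul_assoc (g i) (g i), h4, one_mul]

theorem pr_xor {G : Type*} [Group G] {g : ℕ → G} (hc : ∀ i < 8, ∀ j < 8, g i * g j = g j * g i)
    (h2 : ∀ i < 8, g i * g i = 1) (a b : ℕ) : pr g a * pr g b = pr g (a ^^^ b) :=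
  prod_xor _ (fun i hi j hj => hc i (List.mem_range.1 hi) j (List.mem_range.1 hj))
    (fun i hi => h2 i (List.mem_range.1 hi)) a b

theorem map_pr {G H : Type*} [Group G] [Group H] (f : G →* H) (g : ℕ → G) (c : ℕ) :
    f (pr g c) = pr (fun i => f (g i)) c := by
  unfold pr
  rw [map_list_prod, List.map_map]
  congr 1
  refine List.map_congr_left fun i _ => ?_
  simp only [Function.comp]
  split
  · rfl
  · exact map_one f

theorem pr_congr {G : Type*} [Group G] {g g' : ℕ → G} (h : ∀ i < 8, g i = g' i) (c : ℕ) : pr g c = pr g' c := by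
  unfold pr
  congr 1
  refine List.map_congr_left fun i hi => ?_
  rw [h i (List.mem_range.1 hi)]

theorem pr_zero {G : Type*} [Group G] (g : ℕ → G) : pr g 0 = 1 := by
  simp [pr]

/-- the low digits -/
theorem pr_mod {G : Type*} [Group G] (g : ℕ → G) (c : ℕ) : pr g (c % 256) = pr g c := by
  unfold pr
  congr 1
  refine List.map_congr_left fun i hi => ?_
  rw [show (256 : ℕ) = 2 ^ 8 from rfl, Nat.testBit_mod_two_pow, decide_eq_true (List.mem_range.1 hi), Bool.true_and]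

theorem pr_two {G : Type*} [Group G] (g : ℕ → G) : ∀ i < 8, pr g (2 ^ i) = g i := by
  intro i hi
  have h : ∀ i < 8, ∀ j < 8, (2 ^ i).testBit j = decide (i = j) := by decide
  unfold pr
  have e : ((List.range 8).map fun j => if (2 ^ i).testBit j then g j else 1) =
      (List.range 8).map fun j => if i = j then g j else 1 := by
    refine List.map_congr_left fun j hj => ?_
    rw [h i hi j (List.mem_range.1 hj)]
    simp
  rw [e]
  interval_cases i <;> simp [List.range_succ]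

/-- the quadratic form (graph form, eight singular basis vectors) -/
def edges : List (ℕ × ℕ) := [(0, 1), (2, 3), (4, 5), (6, 7), (0, 6), (1, 6), (0, 7), (1, 7)]

/-- `qf c = true` : `c` is not singular -/
def qf (c : ℕ) : Bool := edges.foldl (fun b e => xor b (c.testBit e.1 && c.testBit e.2)) false

/-- the lines -/
def tri : List (ℕ × ℕ × ℕ) := [
  (5, 1, 4), (9, 1, 8), (17, 1, 16), (33, 1, 32), (6, 2, 4), (10, 2, 8), (18, 2, 16), (34, 2, 32), (20, 4, 16),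
  (36, 4, 32), (68, 4, 64), (132, 4, 128), (24, 8, 16), (40, 8, 32), (72, 8, 64), (136, 8, 128), (80, 16, 64),
  (144, 16, 128), (96, 32, 64), (160, 32, 128), (21, 1, 20), (37, 1, 36), (25, 1, 24), (41, 1, 40), (22, 2, 20),
  (38, 2, 36), (26, 2, 24), (42, 2, 40), (84, 4, 80), (148, 4, 144), (100, 4, 96), (164, 4, 160), (88, 8, 80),
  (152, 8, 144), (104, 8, 96), (168, 8, 160), (15, 5, 10), (77, 5, 72), (141, 5, 136), (51, 17, 34), (113, 17, 96),
  (177, 17, 160), (78, 6, 72), (142, 6, 136), (114, 18, 96), (178, 18, 160), (60, 20, 40), (204, 68, 136),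
  (240, 80, 160), (79, 1, 78), (143, 1, 142), (115, 1, 114), (179, 1, 178), (61, 1, 60), (205, 1, 204),
  (241, 1, 240), (62, 2, 60), (206, 2, 204), (242, 2, 240), (55, 4, 51), (117, 4, 113), (181, 4, 177),
  (118, 4, 114), (182, 4, 178), (244, 4, 240), (59, 8, 51), (121, 8, 113), (185, 8, 177), (122, 8, 114),
  (186, 8, 178), (248, 8, 240), (31, 16, 15), (93, 16, 77), (157, 16, 141), (94, 16, 78), (158, 16, 142),
  (220, 16, 204), (47, 32, 15), (109, 32, 77), (173, 32, 141), (110, 32, 78), (174, 32, 142), (236, 32, 204),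
  (124, 64, 60), (188, 128, 60), (119, 5, 114), (183, 5, 178), (245, 5, 240), (123, 9, 114), (187, 9, 178),
  (249, 9, 240), (95, 17, 78), (159, 17, 142), (221, 17, 204), (111, 33, 78), (175, 33, 142), (237, 33, 204),
  (246, 6, 240), (250, 10, 240), (222, 18, 204), (238, 34, 204), (195, 15, 204), (255, 15, 240), (199, 4, 195),
  (203, 8, 195), (211, 16, 195), (227, 32, 195), (219, 5, 222), (235, 5, 238), (215, 9, 222), (231, 9, 238)]

/-- a nonzero singular vector -/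
def Sg (c : ℕ) : Prop := c < 256 ∧ c ≠ 0 ∧ qf c = false

/-- Boolean form -/
def sgb (c : ℕ) : Bool := Nat.blt c 256 && !(Nat.beq c 0) && !(qf c)

theorem sgb_iff (c : ℕ) : sgb c = true ↔ Sg c := by
  unfold sgb Sg
  rw [Bool.and_eq_true, Bool.and_eq_true, Nat.blt_eq, Bool.not_eq_true', Bool.not_eq_true']
  constructor
  · rintro ⟨⟨h1, h2⟩, h3⟩
    exact ⟨h1, fun h => by rw [h] at h2; exact absurd h2 (by decide), h3⟩
  · rintro ⟨h1, h2, h3⟩
    refine ⟨⟨h1, ?_⟩, h3⟩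
    rw [Bool.eq_false_iff]
    intro h
    exact h2 (Nat.eq_of_beq_eq_true h)

/-- run through the list -/
def run : List ℕ → List (ℕ × ℕ × ℕ) → List ℕ
  | k, [] => k
  | k, (v, a, b) :: l => if (k.contains a && k.contains b) && (Nat.beq v (a ^^^ b) && sgb v) then run (v :: k) l else k

theorem run_sound {Q : ℕ → Prop} (h : ∀ a b, Q a → Q b → Sg (a ^^^ b) → Q (a ^^^ b)) :
    ∀ (l : List (ℕ × ℕ × ℕ)) (k : List ℕ), (∀ c ∈ k, Q c) → ∀ c ∈ run k l, Q c := by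
  intro l
  induction l with
  | nil => intro k hk c hc; exact hk c hc
  | cons x l ih =>
    obtain ⟨v, a, b⟩ := x
    intro k hk c hc
    rw [run] at hc
    split at hc
    · rename_i h1
      rw [Bool.and_eq_true, Bool.and_eq_true, Bool.and_eq_true, List.contains_iff_mem, List.contains_iff_mem] at h1
      refine ih (v :: k) (fun d hd => ?_) c hc
      rcases List.mem_cons.1 hd with rfl | hd
      · have e := Nat.eq_of_beq_eq_true h1.2.1
        have h2 := (sgb_iff _).1 h1.2.2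
        rw [e] at h2 ⊢
        exact h a b (hk a h1.1.1) (hk b h1.1.2) h2
      · exact hk d hd
    · exact hk c hc

private noncomputable def _root_.Cfsg.Agent.LsF.f22178d_0 : {f // @Cfsg.Agent.H584.F4.Span.qf = f} := ⟨_, by first | (delta Cfsg.Agent.H584.F4.Span.qf; rewrite [Cfsg.Agent.LsF.and_eq, Cfsg.Agent.LsF.testBit_eq, Cfsg.Agent.LsF.foldl_eq, Cfsg.Agent.LsF.bxor_eq]; exact rfl) | exact rfl⟩
private noncomputable def _root_.Cfsg.Agent.LsF.f22178d_1 : {f // @Cfsg.Agent.H584.F4.Span.sgb = f} := ⟨_, by first | (delta Cfsg.Agent.H584.F4.Span.sgb; rewrite [Cfsg.Agent.LsF.f22178d_0.2, Cfsg.Agent.LsF.and_eq, Cfsg.Agent.LsF.not_eq]; exact rfl) | exact rfl⟩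
private noncomputable def _root_.Cfsg.Agent.LsF.f22178d_2 : {f // @Cfsg.Agent.H584.F4.Span.run = f} := ⟨_, by first | (delta Cfsg.Agent.H584.F4.Span.run List.brecOn List.brecOn.go Cfsg.Agent.H584.F4.Span.run._f; rewrite [Cfsg.Agent.LsF.f22178d_1.2, Cfsg.Agent.LsF.nxor_pat, Cfsg.Agent.LsF.instNBEq_pat, Cfsg.Agent.LsF.and_eq, Cfsg.Agent.LsF.contains_eq, Cfsg.Agent.LsF.dBoolEq_eq, Cfsg.Agent.LsF.ite_eq]; (try delta Cfsg.Agent.H584.F4.Span.run.match_1); (try delta List.casesOn Prod.casesOn); first | dsimp -zeta only | exact rfl) | exact rfl⟩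
theorem run_all : ∀ c < 256, sgb c = true → c ∈ run [1, 2, 4, 8, 16, 32, 64, 128] tri := by (refine of_decide_eq_true ?_; (try (rewrite [Cfsg.Agent.LsF.dMemE_pat, Cfsg.Agent.LsF.f22178d_1.2, Cfsg.Agent.LsF.f22178d_2.2, Cfsg.Agent.LsF.instDecEq_eq, Cfsg.Agent.LsF.dBoolEq_eq, Cfsg.Agent.LsF.dBallLT_eq, Cfsg.Agent.LsF.dAllP_eq, Cfsg.Agent.LsF.decide_eq])); decide +kernel)

theorem sg_two : ∀ i < 8, Sg (2 ^ i) := by
  have h : ∀ i < 8, sgb (2 ^ i) = true := by decide +kernel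
  exact fun i hi => (sgb_iff _).1 (h i hi)

section

variable {L E : Type*} [Group L] [Group E] {π : L →* E} {T : Set E} (C : Cen π T) {k : ℕ → E}
  (hk : ∀ i < 8, ∀ j < 8, k i * k j = k j * k i) (hT : ∀ c, Sg c → pr k c ∈ T)

include C hT in
theorem k_mem {i : ℕ} (hi : i < 8) : k i ∈ T := by
  rw [← pr_two k i hi]
  exact hT _ (sg_two i hi)

include C hk hT

theorem k_sq : ∀ i < 8, k i * k i = 1 := fun _ hi => C.roots.sq _ (k_mem C hT hi)

theorem w_k_comm : ∀ i < 8, ∀ j < 8, w π T (k i) * w π T (k j) = w π T (k j) * w π T (k i) :=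
  fun i hi j hj => _root_.Cfsg.Agent.H584.F4.Can.w_comm C (k_mem C hT hi) (k_mem C hT hj) (hk i hi j hj)

theorem w_k_sq : ∀ i < 8, w π T (k i) * w π T (k i) = 1 := fun _ hi => _root_.Cfsg.Agent.H584.F4.Can.w_sq C (k_mem C hT hi)

/-- **The canonical lifts of the singular vectors.** -/
theorem w_pr (c : ℕ) (hc : Sg c) : w π T (pr k c) = pr (fun i => w π T (k i)) c := by
  have hx := pr_xor hk (k_sq C hk hT)
  have hx' := pr_xor (g := fun i => w π T (k i)) (w_k_comm C hk hT) (w_k_sq C hk hT)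
  have key := run_sound (Q := fun c => Sg c ∧ w π T (pr k c) = pr (fun i => w π T (k i)) c)
    (fun a b ha hb hab => ⟨hab, by
      rw [← hx, ← hx', ← ha.2, ← hb.2]
      exact (_root_.Cfsg.Agent.H584.F4.Can.w_line C (hT _ ha.1) (hT _ hb.1) (by rw [hx]; exact hT _ hab)).symm⟩) tri [1, 2, 4, 8, 16, 32, 64, 128] (by
    intro c hc
    have h8 : ∀ c ∈ [1, 2, 4, 8, 16, 32, 64, 128], ∃ i < 8, c = 2 ^ i := by decide
    obtain ⟨i, hi, rfl⟩ := h8 c hc
    exact ⟨sg_two i hi, by rw [pr_two _ i hi, pr_two _ i hi]⟩)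
  exact (key c (run_all c hc.1 ((sgb_iff c).2 hc))).2

/-- **The complement.** -/
theorem exists_D_of (hinj : ∀ c < 256, pr k c = 1 → c = 0) {V : Subgroup E} (hV : ∀ x, x ∈ V ↔ ∃ c, pr k c = x)
    {P : E → Prop} (hP : ∀ g, P g → ∀ i < 8, ∃ c, Sg c ∧ g * k i * g⁻¹ = pr k c) :
    ∃ D : Subgroup L, (∀ d ∈ D, π d = 1 → d = 1) ∧ D.map π = V ∧ ∀ g, P (π g) → ∀ d ∈ D, g * d * g⁻¹ ∈ D := by
  have hx' := pr_xor (g := fun i => w π T (k i)) (w_k_comm C hk hT) (w_k_sq C hk hT)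
  have hmap : ∀ c, π (pr (fun i => w π T (k i)) c) = pr k c := fun c => by
    rw [map_pr]
    exact pr_congr (fun i hi => _root_.Cfsg.Agent.H584.F4.Can.map_w C (k_mem C hT hi)) c
  let D : Subgroup L :=
    { carrier := {d | ∃ c, pr (fun i => w π T (k i)) c = d}
      one_mem' := ⟨0, pr_zero _⟩
      mul_mem' := by
        rintro _ _ ⟨a, rfl⟩ ⟨b, rfl⟩
        exact ⟨a ^^^ b, (hx' a b).symm⟩
      inv_mem' := by
        rintro _ ⟨a, rfl⟩
        refine ⟨a, ?_⟩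
        rw [eq_inv_iff_mul_eq_one, hx', Nat.xor_self, pr_zero] }
  refine ⟨D, ?_, ?_, ?_⟩
  · rintro _ ⟨c, rfl⟩ h1
    rw [hmap, ← pr_mod] at h1
    rw [← pr_mod, hinj _ (Nat.mod_lt _ (by norm_num)) h1, pr_zero]
  · ext x
    rw [hV]
    constructor
    · rintro ⟨_, ⟨c, rfl⟩, rfl⟩
      exact ⟨c, (hmap c).symm⟩
    · rintro ⟨c, rfl⟩
      exact ⟨_, ⟨c, rfl⟩, hmap c⟩
  · intro g hg d hd
    obtain ⟨c, rfl⟩ := hd
    have h1 : ∀ i < 8, g * w π T (k i) * g⁻¹ ∈ D := by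
      intro i hi
      obtain ⟨c, hc, e⟩ := hP _ hg i hi
      rw [_root_.Cfsg.Agent.H584.F4.Can.w_conj C g (k_mem C hT hi), e, w_pr C hk hT c hc]
      exact ⟨c, rfl⟩
    have h2 : g * pr (fun i => w π T (k i)) c * g⁻¹ = pr (fun i => g * w π T (k i) * g⁻¹) c :=
      map_pr (MulAut.conj g).toMonoidHom _ c
    rw [h2]
    unfold pr
    refine Subgroup.list_prod_mem _ ?_
    intro x hx
    obtain ⟨i, hi, rfl⟩ := List.mem_map.1 hx
    split
    · exact h1 i (List.mem_range.1 hi)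
    · exact one_mem _

end

end Cfsg.Agent.H584.F4.Span
end

-- part: H584/F4/Mod
section
/-!
# The complement `D` from a model of the layer `2^8` (S2491, QS row F4, box P4a; helper584)

`DF_of_model` : if `p : Multiplicative V →* ²E₆(2)` is an isomorphism of the quadratic space `V` of minus type onto the layer
`V2 φ`, the elements of `P₄` act by isometries, and the singular vectors are root elements, then there is `D` with `DF φ π D`.
-/

set_option autoImplicit false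

namespace Cfsg.Agent.H584.F4.Mod

open Cfsg.Agent.BabyU.Lab Cfsg.Agent.H584.F4.Can Cfsg.Agent.H584.F4.Span
open Cfsg.Agent.H181.O8m Cfsg.Agent.H231.QF Cfsg.Agent.H590.F4
open Cfsg.Agent.LieClassical.OrthCore

universe u v

/-- the eight singular basis vectors `e₁, f₁, e₂, f₂, e₃, f₃, n₁ + e₁ + f₁, n₂ + e₁ + f₁` -/
def bv (i : ℕ) : ℕ := [1, 16, 2, 32, 4, 64, 25, 145].getD i 0

/-- coordinates to codes -/
def conv (c : ℕ) : ℕ := (List.range 8).foldr (fun i a => (if c.testBit i then bv i else 0) ^^^ a) 0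

/-- codes to coordinates: `e₁ + (n₁) + (n₂)`, ... -/
def cinv (a : ℕ) : ℕ :=
  let n1 := a.testBit 3
  let n2 := a.testBit 7
  (if a.testBit 0 ^^ n1 ^^ n2 then 1 else 0) ^^^ (if a.testBit 4 ^^ n1 ^^ n2 then 2 else 0) ^^^
    (if a.testBit 1 then 4 else 0) ^^^ (if a.testBit 5 then 8 else 0) ^^^ (if a.testBit 2 then 16 else 0) ^^^
    (if a.testBit 6 then 32 else 0) ^^^ (if n1 then 64 else 0) ^^^ (if n2 then 128 else 0)

private noncomputable def _root_.Cfsg.Agent.LsF.f22178d_3 : {f // @Cfsg.Agent.H584.F4.Mod.bv = f} := ⟨_, by first | (delta Cfsg.Agent.H584.F4.Mod.bv; rewrite [Cfsg.Agent.LsF.getD_eq]; exact rfl) | exact rfl⟩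
private noncomputable def _root_.Cfsg.Agent.LsF.f22178d_4 : {f // @Cfsg.Agent.H584.F4.Mod.conv = f} := ⟨_, by first | (delta Cfsg.Agent.H584.F4.Mod.conv; rewrite [Cfsg.Agent.LsF.f22178d_3.2, Cfsg.Agent.LsF.nxor_pat, Cfsg.Agent.LsF.testBit_eq, Cfsg.Agent.LsF.foldr_eq, Cfsg.Agent.LsF.range_eq, Cfsg.Agent.LsF.dBoolEq_eq, Cfsg.Agent.LsF.ite_eq]; exact rfl) | exact rfl⟩
theorem conv_lt : ∀ c < 256, conv c < 256 := by (refine of_decide_eq_true ?_; (try (rewrite [Cfsg.Agent.LsF.f22178d_4.2, Cfsg.Agent.LsF.decLt_eq, Cfsg.Agent.LsF.dBallLT_eq, Cfsg.Agent.LsF.decide_eq])); decide +kernel)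

theorem conv_inj : ∀ c < 256, conv c = 0 → c = 0 := by (refine of_decide_eq_true ?_; (try (rewrite [Cfsg.Agent.LsF.f22178d_4.2, Cfsg.Agent.LsF.instDecEq_eq, Cfsg.Agent.LsF.dBallLT_eq, Cfsg.Agent.LsF.dAllP_eq, Cfsg.Agent.LsF.decide_eq])); decide +kernel)

private noncomputable def _root_.Cfsg.Agent.LsF.f22178d_5 : {f // @Cfsg.Agent.H584.F4.Mod.cinv = f} := ⟨_, by first | (delta Cfsg.Agent.H584.F4.Mod.cinv; rewrite [Cfsg.Agent.LsF.nxor_pat, Cfsg.Agent.LsF.testBit_eq, Cfsg.Agent.LsF.dBoolEq_eq, Cfsg.Agent.LsF.bxor_eq, Cfsg.Agent.LsF.ite_eq]; exact rfl) | exact rfl⟩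
theorem conv_cinv : ∀ a < 256, conv (cinv a) = a ∧ cinv a < 256 := by (refine of_decide_eq_true ?_; (try (rewrite [Cfsg.Agent.LsF.f22178d_4.2, Cfsg.Agent.LsF.f22178d_5.2, Cfsg.Agent.LsF.instDecEq_eq, Cfsg.Agent.LsF.decLt_eq, Cfsg.Agent.LsF.dAnd_eq, Cfsg.Agent.LsF.dBallLT_eq, Cfsg.Agent.LsF.decide_eq])); decide +kernel)

theorem conv_q : ∀ c < 256, qn (conv c) = qf c := by (refine of_decide_eq_true ?_; (try (rewrite [Cfsg.Agent.LsF.f22178d_4.2, Cfsg.Agent.LsF.f22178d_0.2, Cfsg.Agent.LsF.dBoolEq_eq, Cfsg.Agent.LsF.dBallLT_eq, Cfsg.Agent.LsF.decide_eq])); decide +kernel)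

theorem bv_fact : ∀ i < 8, bv i < 256 ∧ bv i ≠ 0 ∧ qn (bv i) = false := by decide +kernel

theorem prod_ofAdd (l : List ℕ) (c : ℕ) :
    (l.map fun i => if c.testBit i then Multiplicative.ofAdd (dec (bv i)) else 1).prod =
      Multiplicative.ofAdd (dec (l.foldr (fun i a => (if c.testBit i then bv i else 0) ^^^ a) 0)) := by
  induction l with
  | nil => rw [List.map_nil, List.prod_nil, List.foldr_nil, dec_zero]; rfl
  | cons i l ih =>
    rw [List.map_cons, List.prod_cons, ih, List.foldr_cons, dec_xor, ofAdd_add]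
    congr 1
    split
    · rfl
    · rw [dec_zero]; rfl

section

variable {F : Type u} [Field F] {φ : F →+* F} {p : Multiplicative _root_.Cfsg.Agent.H181.O8m.V →* KK F}

/-- products of the basis vectors -/
theorem pr_eq (c : ℕ) : pr (fun i => p (.ofAdd (dec (bv i)))) c = p (.ofAdd (dec (conv c))) := by
  have h1 : p (pr (fun i => Multiplicative.ofAdd (dec (bv i))) c) = pr (fun i => p (.ofAdd (dec (bv i)))) c :=
    map_pr p _ c
  rw [← h1]
  congr 1
  exact prod_ofAdd _ c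

theorem sg_dec {c : ℕ} (hc : Sg c) : dec (conv c) ≠ 0 ∧ q (dec (conv c)) = 0 := by
  obtain ⟨h1, h2, h3⟩ := hc
  constructor
  · intro h
    refine h2 (conv_inj c h1 (dec_inj (conv_lt c h1) (by norm_num) ?_))
    rw [h, dec_zero]
  · rw [q_dec, conv_q c h1, h3]; rfl

theorem exists_sg {v : _root_.Cfsg.Agent.H181.O8m.V} (hv : v ≠ 0) (hq : q v = 0) : ∃ c, Sg c ∧ dec (conv c) = v := by
  obtain ⟨a, ha, rfl⟩ := dec_surj v
  obtain ⟨h1, h2⟩ := conv_cinv a ha
  refine ⟨cinv a, ⟨h2, ?_, ?_⟩, by rw [h1]⟩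
  · intro h
    apply hv
    rw [← h1, h]
    exact congrArg dec (by decide : conv 0 = 0) |>.trans dec_zero
  · rw [← conv_q _ h2, h1]
    rw [q_dec] at hq
    cases h : qn a
    · rfl
    · rw [h] at hq; exact absurd hq (by decide)

/-- **`D` from a model of the layer.** -/
theorem DF_of_model (hp : Function.Injective p) (hpr : p.range = V2 φ)
    (hact : ∀ g ∈ P φ j4, ∃ s : ↥O8, ∀ v : _root_.Cfsg.Agent.H181.O8m.V, g * p (.ofAdd v) * g⁻¹ = p (.ofAdd ((s : _root_.Cfsg.Agent.H181.O8m.V ≃ₗ[ZMod 2] _root_.Cfsg.Agent.H181.O8m.V) v)))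
    (hroot : ∀ v : _root_.Cfsg.Agent.H181.O8m.V, v ≠ 0 → q v = 0 → p (.ofAdd v) ∈ Cfsg.Agent.BabyU.rootClass F)
    {L : Type v} [Group L] {π : L →* KK F} (C : Cen π (Cfsg.Agent.BabyU.rootClass F)) :
    ∃ D : Subgroup L, DF φ π D := by
  have hcomm : ∀ a b : Multiplicative _root_.Cfsg.Agent.H181.O8m.V, p a * p b = p b * p a := fun a b => by
    rw [← map_mul, ← map_mul, mul_comm]
  obtain ⟨D, h1, h2, h3⟩ := exists_D_of C (k := fun i => p (.ofAdd (dec (bv i)))) (V := V2 φ)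
    (P := fun g => g ∈ P φ j4) (fun i _ j _ => hcomm _ _)
    (fun c hc => by
      rw [pr_eq]
      exact hroot _ (sg_dec hc).1 (sg_dec hc).2)
    (fun c hc h => by
      rw [pr_eq] at h
      have h4 : Multiplicative.ofAdd (dec (conv c)) = 1 := hp (h.trans (map_one p).symm)
      refine conv_inj c hc (dec_inj (conv_lt c hc) (by norm_num) ?_)
      rw [dec_zero]
      exact Multiplicative.ofAdd.injective h4)
    (fun x => by
      rw [← hpr, MonoidHom.mem_range]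
      constructor
      · rintro ⟨v, rfl⟩
        obtain ⟨a, ha, e⟩ := dec_surj v.toAdd
        refine ⟨cinv a, ?_⟩
        rw [pr_eq, (conv_cinv a ha).1, e]
        rfl
      · rintro ⟨c, rfl⟩
        exact ⟨_, (pr_eq c).symm⟩)
    (fun g hg i hi => by
      obtain ⟨s, hs⟩ := hact g hg
      obtain ⟨b1, b2, b3⟩ := bv_fact i hi
      have h4 : (s : _root_.Cfsg.Agent.H181.O8m.V ≃ₗ[ZMod 2] _root_.Cfsg.Agent.H181.O8m.V) (dec (bv i)) ≠ 0 := by
        intro h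
        rw [LinearEquiv.map_eq_zero_iff] at h
        exact b2 (dec_inj b1 (by norm_num) (h.trans dec_zero.symm))
      have h5 : q ((s : _root_.Cfsg.Agent.H181.O8m.V ≃ₗ[ZMod 2] _root_.Cfsg.Agent.H181.O8m.V) (dec (bv i))) = 0 := by
        have := s.2 (dec (bv i))
        rw [q_dec, b3] at this
        exact this
      obtain ⟨c, hc, e⟩ := exists_sg h4 h5
      refine ⟨c, hc, ?_⟩
      rw [pr_eq, e]
      exact hs _)
  exact ⟨D, ⟨h1, h2, h3⟩⟩

end

end Cfsg.Agent.H584.F4.Mod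
end

-- part: H584/F4/ExD
section
/-!
# The complement `D` (S2491, QS row F4, box P4a; helper584)
-/

set_option autoImplicit false

namespace Cfsg.Agent.H584.F4.ExD

open Cfsg.Agent.BabyU.Lab Cfsg.Agent.H584.F4.Can Cfsg.Agent.H584.F4.Span
open Cfsg.Agent.H181.O8m Cfsg.Agent.H231.QF Cfsg.Agent.H590.F4
open Cfsg.Agent.LieClassical.OrthCore
open Cfsg.Agent.H51.Mult (PCE)

universe u v

variable {F : Type u} [Field F] [Fintype F] (hF : Fintype.card F = 4) {φ : F →+* F} (hφ : ∀ t, φ t = t ^ 2)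

include hF hφ

/-- `D` from the identification of `Lv φ j4` with `Ω₈⁻(2)` and of the layer with its natural module -/
theorem exists_D_of_iden {p : Multiplicative _root_.Cfsg.Agent.H181.O8m.V →* KK F} (hp : Function.Injective p) (hpr : p.range = V2 φ)
    {ψ : ↥(Lv φ j4) →* ↥O8}
    (hψ : ∀ (g : ↥(Lv φ j4)) (v : _root_.Cfsg.Agent.H181.O8m.V), (g : KK F) * p (.ofAdd v) * (g : KK F)⁻¹ =
      p (.ofAdd ((ψ g : _root_.Cfsg.Agent.H181.O8m.V ≃ₗ[ZMod 2] _root_.Cfsg.Agent.H181.O8m.V) v)))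
    (hgen : ∀ g : ↥O8, Cfsg.Agent.H240.F4.IsG g → g ∈ ψ.range) {r : _root_.Cfsg.Agent.H181.O8m.V} (hr : r ≠ 0) (hqr : q r = 0)
    (hrt : p (.ofAdd r) ∈ Cfsg.Agent.BabyU.rootClass F) {L : Type v} [Group L] {π : L →* KK F} (hπ : PCE π) :
    ∃ D : Subgroup L, DF φ π D := by
  obtain ⟨hle, hnorm, hcen, hcom, hidx⟩ := Lay.layer hF hφ
  have C : Cen π (Cfsg.Agent.BabyU.rootClass F) := cen_root hF hπ.surj hπ.cen
  refine Mod.DF_of_model hp hpr ?_ ?_ C
  · intro g hg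
    obtain ⟨l, hl, v, hv, rfl⟩ := (Lay.pdec hF hφ).2 g hg
    refine ⟨ψ ⟨l, hl⟩, fun w => ?_⟩
    have h1 : p (.ofAdd w) ∈ V2 φ := by rw [← hpr]; exact ⟨_, rfl⟩
    have h2 := hcen v hv _ h1
    have h3 : l * v * p (.ofAdd w) * (l * v)⁻¹ = l * (v * p (.ofAdd w)) * v⁻¹ * l⁻¹ := by group
    rw [h3, h2]
    have h4 : l * (p (.ofAdd w) * v) * v⁻¹ * l⁻¹ = l * p (.ofAdd w) * l⁻¹ := by group
    rw [h4]
    exact hψ ⟨l, hl⟩ w
  · intro v hv hqv
    obtain ⟨g, hg, e⟩ := Cfsg.Agent.H240.F4.trans_sing hr hv hqr hqv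
    obtain ⟨l, rfl⟩ := Cfsg.Agent.H240.F4.N8_le hgen hg
    rw [← e, ← hψ]
    exact C.roots.conj _ hrt _

end Cfsg.Agent.H584.F4.ExD
end

private theorem dce_6a9034597376 : _root_.True := by
  try have : _root_.True := by simp only [_root_.Cfsg.Agent.H240.F4.posL.eq_1]
  try have : _root_.True := by simp only [_root_.Cfsg.Agent.H584.F4.Span.pr.eq_1]
  try have : _root_.True := by simp only [_root_.Cfsg.Agent.H240.F4.notL.eq_1]
  try have : _root_.True := by simp only [_root_.Cfsg.Agent.H584.F4.Span.run.eq_def]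
  try have : _root_.True := by simp only [_root_.Cfsg.Agent.H584.F4.Span.run.eq_1]
  try have : _root_.True := by simp only [_root_.Cfsg.Agent.H584.F4.Span.run.eq_2]
  exact _root_.True.intro
end

-- part: H326/QF/OutV1
section
set_option linter.all false
open scoped Cfsg.Agent.FastGrp

/-!
# S2491, row F4: K3 `out_of_V1` (`V_1 ∖ 1` can be moved out of `V_1`)
-/

set_option autoImplicit false

namespace Cfsg.Agent.H326.QF

open CoxeterSystem Cfsg.Agent.ChevalleyStructure.CoxeterGeom Cfsg.Agent.Tits.Roots Cfsg.Agent.Tits.Core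
  Cfsg.Agent.Nodes Cfsg.Agent.Nodes.Reps Cfsg.Agent.Nodes.BNOf Cfsg.Agent.Nodes.RGDLib Cfsg.Agent.Nodes.Bruhat
  Cfsg.Agent.Nodes.OppDec Cfsg.Agent.Nodes.LeviDec Cfsg.Agent.Nodes.StabComb
open Cfsg.Lie Subgroup
open Cfsg.Agent.H231.QF

universe u

variable {F : Type u} [Field F] [Fintype F] (hF : Fintype.card F = 4) {φ : F →+* F} (hφ : ∀ t, φ t = t ^ 2)

include hF in
theorem charP_two : CharP F 2 := by
  obtain ⟨p, hp⟩ := CharP.exists F
  have : Fact p.Prime := ⟨CharP.char_is_prime F p⟩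
  obtain ⟨n, hn, h1⟩ := FiniteField.card F p
  have h2 : p ∣ 2 ^ 2 := by
    have h3 : p ∣ p ^ (n : ℕ) := dvd_pow_self p n.2.ne'
    rw [← h1, hF] at h3
    exact h3
  have h4 : p = 2 := (Nat.prime_dvd_prime_iff_eq hn Nat.prime_two).1 (hn.dvd_of_dvd_pow h2)
  rwa [h4] at hp

include hF in
theorem frob_frob (t : F) : (t ^ 2) ^ 2 = t := by
  have := FiniteField.pow_card t
  rw [hF] at this
  rw [← pow_mul]
  exact this

theorem j1_eq : (Cfsg.Agent.H326.QS.VP.J : Set (Fin 4)) = j1 := by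
  ext k
  have h1 := @Cfsg.Agent.H326.QS.VP.not_mem_J k
  show k ∈ Cfsg.Agent.H326.QS.VP.J ↔ k ≠ 0
  exact ⟨fun a b => h1.2 b a, fun a => not_not.1 fun b => a (h1.1 b)⟩

end Cfsg.Agent.H326.QF
end

-- part: H150/QF/KFive_mg
section
prune_inst 0xe4307205032200000004008261007c9397000090004b8c08454508400580ac6209002621a420120b5008281020050028124400d0000000000084040000040421808250028308a091060009008888415000385000000000000000000000000004214010000
set_option linter.all false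
open scoped Cfsg.Agent.FastGrp

-- part: H150/QF/KFive
section
/-!
# S2491, row F4 = `²E₆(2)`, K5 (helper150): elements of `P₁` over a transvection can be moved into `P₄ ∖ V₄`
-/

set_option autoImplicit false

namespace Cfsg.Agent.H150.QF

open CoxeterSystem Cfsg.Agent.ChevalleyStructure.CoxeterGeom Cfsg.Agent.Tits.Roots Cfsg.Agent.Tits.Core
  Cfsg.Agent.Nodes Cfsg.Agent.Nodes.Reps Cfsg.Agent.Nodes.BNOf Cfsg.Agent.Nodes.RGDLib Cfsg.Agent.Nodes.Bruhat
  Cfsg.Agent.Nodes.OppDec Cfsg.Agent.Nodes.LeviDec Cfsg.Agent.Nodes.StabComb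
open Cfsg.Lie Subgroup
open Cfsg.Agent.H231.QF
open Cfsg Cfsg.Agent.LieClassical.HermBasic Cfsg.Agent.ClassicalGeometry.UnitTransv
open Cfsg.Agent.SporadicStructure.UnitTwo (T conj_T T_smul exists_map T_mul_self act_T)

universe u

variable {F : Type u} [Field F] [Fintype F] {φ : F →+* F}

theorem hqq_of (hF : Fintype.card F = 4) (t : F) : (t ^ 2) ^ 2 = t := by
  rw [← pow_mul]
  have h := FiniteField.pow_card t
  rwa [hF] at h

theorem charTwo_of (hF : Fintype.card F = 4) : CharP F 2 := by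
  have h1 : ((4 : ℕ) : F) = 0 := by rw [← hF]; exact FiniteField.cast_card_eq_zero F
  obtain ⟨p, hp⟩ := CharP.exists F
  have hpp : p.Prime := (CharP.char_is_prime_or_zero F p).resolve_right (CharP.char_ne_zero_of_finite F p)
  have h2 : p ∣ 2 ^ 2 := (CharP.cast_eq_zero_iff F p 4).1 h1
  have h3 : p = 2 := (Nat.prime_dvd_prime_iff_eq hpp Nat.prime_two).1 (hpp.dvd_of_dvd_pow h2)
  rwa [h3] at hp

theorem finite_WF : Finite CoxeterMatrix.F₄.Group :=
  Cfsg.Agent.Nodes.RGDFold.finite_W (hp := RGDTwE6.hp) cs RGDTwE6.isCartan RGDTwE6.foldData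

theorem rgdK (hF : Fintype.card F = 4) (hφ : ∀ t, φ t = t ^ 2) :
    RGD cs RGDTwE6.isCartan 2 (RGDTwE6.T F 2) (RGDTwE6.nn hφ) (X φ) :=
  haveI : CharP F 2 := charTwo_of hF
  RGDTwE6.rgd cs hφ (hqq_of hF) 2

theorem NotJ_subset {J : Set (Fin 4)} {i : Fin 4} (hi : i ∈ J) :
    NotJ cs RGDTwE6.isCartan J ⊆ RGD.PosNe cs RGDTwE6.isCartan i := by
  rintro x ⟨h1, h2, k, hk, h3⟩
  refine ⟨h1, h2, ?_⟩
  rintro rfl
  have hki : k ≠ i := fun h => hk (h ▸ hi)
  rw [sr_ne hki] at h3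
  exact lt_irrefl _ h3

/-- a simple root group outside of `V_J V_J'` -/
theorem notMem_V (hF : Fintype.card F = 4) (hφ : ∀ t, φ t = t ^ 2) {i : Fin 4} {J J' : Set (Fin 4)} (hi : i ∈ J)
    (hi' : i ∈ J') {v a : KK F} (hv : v ∈ V φ J) (ha : a ∈ X φ (sr i)) (h1 : a ≠ 1) : v * a ∉ V φ J' := by
  intro h
  have := finite_WF
  apply h1
  refine eq_one_of_mem_PosNe (rgdK hF hφ) (i := i) ha ?_
  have e : a = v⁻¹ * (v * a) := by group
  rw [e]
  exact mul_mem (inv_mem (RGD.Sup_mono (NotJ_subset hi) hv)) (RGD.Sup_mono (NotJ_subset hi') h)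

omit [Fintype F] in
theorem mem_P_of_U {J : Set (Fin 4)} {x : KK F} (hx : x ∈ RGD.Sup (X φ) (RGD.Pos cs RGDTwE6.isCartan)) : x ∈ P φ J :=
  B_le_PJ (RGD.U_le_B hx)

theorem T_notMem_center (hF2 : Fintype.card F = 2 ^ 2) {w : Fin 6 → F} (hw : hermForm 6 F 2 w w = 0) (h0 : w ≠ 0) :
    T hF2 w hw ∉ center (SU 6 F 2) := by
  intro h
  have h1 : Nat.card (center (SU 6 F 2)) = 3 := by
    rw [Cfsg.Agent.S0279.result hF2 6 (by norm_num)]
    norm_num
  have h2 : T hF2 w hw ^ 3 = 1 := by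
    have h3 : (⟨T hF2 w hw, h⟩ : center (SU 6 F 2)) ^ Nat.card (center (SU 6 F 2)) = 1 := pow_card_eq_one'
    rw [h1] at h3
    exact congrArg Subtype.val h3
  have h4 : T hF2 w hw = 1 := by
    rw [pow_succ, pow_two, T_mul_self, one_mul] at h2
    exact h2
  obtain ⟨y, hy⟩ := exists_herm_ne_zero hF2 h0
  have h5 := act_T hF2 w hw y
  rw [h4, act_one] at h5
  have h6 : hermForm 6 F 2 y w • w = 0 := by simpa using h5
  rcases smul_eq_zero.1 h6 with h7 | h7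
  · exact hy (herm_eq_zero_swap hF2 h7)
  · exact h0 h7

/-- **K5.** Elements of `P₁` over a transvection can be moved into `P₄ ∖ V₄`. -/
theorem transvection_out (hF : Fintype.card F = 4) (hφ : ∀ t, φ t = t ^ 2) {f : SU 6 F 2 →* KK F}
    (hf : f.range = Lv φ j1) (hk : f.ker = center (SU 6 F 2)) {hF2 : Fintype.card F = 2 ^ 2}
    (hT : ∃ (v : Fin 6 → F) (hv : hermForm 6 F 2 v v = 0), v ≠ 0 ∧ f (T hF2 v hv) ∈ X φ (sr 1))
    (w : Fin 6 → F) (hw : hermForm 6 F 2 w w = 0) (h0 : w ≠ 0) (v : KK F) (hv : v ∈ V φ j1) :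
    Cfsg.Agent.H231.QF.Out φ j4 (v * f (T hF2 w hw)) := by
  have := finite_WF
  have R := rgdK hF hφ
  obtain ⟨v0, hv0, hne, hX⟩ := hT
  obtain ⟨g, c, hc, hg⟩ := exists_map hF2 w v0 h0 hne hw hv0
  have e1 : hermForm 6 F 2 (act g w) (act g w) = 0 := by rw [herm_act]; exact hw
  have e2 := conj_T hF2 g w hw e1
  have e3 : hermForm 6 F 2 (c • v0) (c • v0) = 0 := by rw [← hg]; exact e1
  have e4 : T hF2 (act g w) e1 = T hF2 v0 hv0 := by
    rw [← T_smul hF2 c hc v0 hv0 e3]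
    congr 1
  rw [e4] at e2
  have hl : f g ∈ Lv φ j1 := by rw [← hf]; exact ⟨g, rfl⟩
  have hv' : f g * v * (f g)⁻¹ ∈ V φ j1 :=
    (Subgroup.mem_normalizer_iff.1 (LJ_le_normalizer_VJ R j1 hl) v).1 hv
  have e5 : f g * (v * f (T hF2 w hw)) * (f g)⁻¹ = (f g * v * (f g)⁻¹) * f (T hF2 v0 hv0) := by
    rw [← e2, map_mul, map_mul, map_inv]
    group
  have h1 : f (T hF2 v0 hv0) ≠ 1 := by
    intro h
    exact T_notMem_center hF2 hv0 hne (by rw [← hk]; exact h)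
  refine ⟨f g, ?_, ?_⟩
  · rw [e5]
    refine mul_mem (mem_P_of_U (VJ_le_U j1 hv')) (mem_P_of_U ?_)
    exact RGD.le_Sup (X := X φ) (S := RGD.Pos cs RGDTwE6.isCartan) (z := sr 1)
      ⟨isRoot_sr cs RGDTwE6.isCartan 1, sr_nonneg 1⟩ hX
  · rw [e5]
    exact notMem_V hF hφ (i := 1) (by show (1 : Fin 4) ≠ 0; decide) (by show (1 : Fin 4) ≠ 3; decide) hv' hX h1

end Cfsg.Agent.H150.QF
end

-- part: H297/QF/Su
section
/-!
# S2491, row F4: the Levi subgroup of `P_1` (helper297)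

* `mem_P1_iff`, `mem_PN1_iff` : `P_1`, `P_1⁻` are the centralizers of the root elements of `X_θ`, `X_(-θ)`;
* `mem_Lv_iff` : `g ∈ L_1` iff `g` commutes with both;
* `exists_su6` : a surjection of `SU₆(2)` onto `L_1` with kernel the centre.
-/

set_option autoImplicit false
set_option linter.unusedSectionVars false

namespace Cfsg.Agent.H297.QF.Su

open CoxeterSystem Cfsg.Agent.ChevalleyStructure.CoxeterGeom Cfsg.Agent.Tits.Roots Cfsg.Agent.Tits.Core
  Cfsg.Agent.Nodes Cfsg.Agent.Nodes.Reps Cfsg.Agent.Nodes.BNOf Cfsg.Agent.Nodes.RGDLib Cfsg.Agent.Nodes.Bruhat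
  Cfsg.Agent.Nodes.OppDec Cfsg.Agent.Nodes.LeviDec Cfsg.Agent.Nodes.StabComb Cfsg.Agent.Nodes.Coroot
open Cfsg.Agent.KFacts.RgdPar Cfsg.Agent.KFacts.RgdSL Cfsg.Agent.KFacts.RgdTI Cfsg.Agent.KFacts.RgdRigid
open Cfsg.Agent.KFacts.TwESix.Comb (rts mem_rts bf finiteW cpr_long exists_rep_long ge_iff)
open Cfsg.Agent.Nodes.RGDTwGen Cfsg.Agent.Nodes.RGDFold
open Cfsg.Agent.ChevalleyStructure.Elts (xG)
open Cfsg.Agent.ChevalleyStructure.TwistedU (mem_rspan)
open Cfsg.Agent.TwoESix.LeviA (Four)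
open Cfsg.Agent.TwoESix.LeviF (r0 s0)
open Cfsg.Lie Subgroup
open Cfsg.Agent.H231.QF

universe u v

variable {F : Type u} [Field F] [Fintype F]

/-! ### generalities -/

theorem finite_W : Finite CoxeterMatrix.F₄.Group := finiteW cs

theorem charTwo (hF : Fintype.card F = 4) : CharP F 2 := (Cfsg.Agent.TwoESix.LeviA.exists_four F hF).1

theorem inv4 (hF : Fintype.card F = 4) (t : F) : (t ^ 2) ^ 2 = t := by
  rw [← pow_mul]
  have h := FiniteField.pow_card t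
  rwa [hF] at h

theorem four (hF : Fintype.card F = 4) {φ : F →+* F} (hφ : ∀ t, φ t = t ^ 2) : Four F φ :=
  ⟨hF, hφ, fun t => by rw [hφ, hφ, inv4 hF]⟩

/-- the root group datum -/
theorem exists_R (hF : Fintype.card F = 4) {φ : F →+* F} (hφ : ∀ t, φ t = t ^ 2) :
    RGD cs RGDTwE6.isCartan 2 (RGDTwE6.T F 2) (RGDTwE6.nn hφ) (X φ) := by
  have := charTwo hF
  have : Fact (Nat.Prime 2) := ⟨Nat.prime_two⟩
  exact RGDTwE6.rgd cs hφ (inv4 hF) 2

theorem G1_top (hF : Fintype.card F = 4) {φ : F →+* F} (hφ : ∀ t, φ t = t ^ 2) :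
    RGDLib.G1 cs RGDTwE6.isCartan (X φ) = ⊤ := RGDTwE6.G1_eq_top cs hφ (inv4 hF)

theorem mem_GG' (hF : Fintype.card F = 4) {φ : F →+* F} (hφ : ∀ t, φ t = t ^ 2) (g : KK F) :
    g ∈ GG cs RGDTwE6.isCartan (RGDTwE6.T F 2) (X φ) := by
  rw [GG_eq_top (T := RGDTwE6.T F 2) (G1_top hF hφ)]
  exact Subgroup.mem_top g

theorem th_root : IsRoot cs RGDTwE6.isCartan th := (mem_rts cs).2 (by decide +kernel)

theorem th_long : bf th th = 4 := by decide +kernel

theorem nth_root : IsRoot cs RGDTwE6.isCartan (-th) := th_root.neg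

theorem nth_long : bf (-th) (-th) = 4 := by decide +kernel

theorem bf_th (x : Fin 4 → ℤ) : bf x th = 2 * x 0 := Cfsg.Agent.KFacts.TwESix.Comb.bf_rho x

theorem bf_nth (x : Fin 4 → ℤ) : bf x (-th) = -(2 * x 0) := by
  rw [Cfsg.Agent.KFacts.TwESix.Comb.bf_neg_right, bf_th]

/-- fixed root elements lie in the root groups -/
theorem xE_mem (hF : Fintype.card F = 4) {φ : F →+* F} (hφ : ∀ t, φ t = t ^ 2) {r : Fin 72}
    (hr : Cfsg.Agent.ChevalleyStructure.TwE6Basic.rho r = r) {z : Fin 4 → ℤ} (hz : V chevE6 RGDTwE6.J r.val = z) :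
    Cfsg.Agent.TwoESix.LeviF.xE (four hF hφ) r hr ∈ X φ z := by
  have hE := (Cfsg.Agent.TwoESix.LeviF.xE (four hF hφ) r hr).2
  refine Subgroup.mem_subgroupOf.2 ?_
  refine Subgroup.mem_inf.2 ⟨?_, Cfsg.Agent.ChevalleyStructure.TwE6Basic.twisted_le_fix φ hφ (inv4 hF) hE⟩
  exact mem_rspan (xG (F := F) RGDTwE6.hp.inList) (show r.val ∈ {k | k < chevE6.nroots ∧ V chevE6 RGDTwE6.J k = z}
    from ⟨r.isLt, hz⟩) 1

theorem r0_mem (hF : Fintype.card F = 4) {φ : F →+* F} (hφ : ∀ t, φ t = t ^ 2) : r0 (four hF hφ) ∈ X φ th :=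
  xE_mem hF hφ _ (by decide +kernel)

theorem s0_mem (hF : Fintype.card F = 4) {φ : F →+* F} (hφ : ∀ t, φ t = t ^ 2) : s0 (four hF hφ) ∈ X φ (-th) :=
  xE_mem hF hφ _ (by decide +kernel)

theorem s0_ne (hF : Fintype.card F = 4) {φ : F →+* F} (hφ : ∀ t, φ t = t ^ 2) : s0 (four hF hφ) ≠ 1 := by
  intro h
  obtain ⟨g, hg⟩ := Cfsg.Agent.TwoESix.LeviF.s0_conj (four hF hφ)
  rw [h] at hg
  apply Cfsg.Agent.TwoESix.LeviF.r0_ne (four hF hφ)
  calc r0 (four hF hφ) = g⁻¹ * (g * r0 (four hF hφ) * g⁻¹) * g := by group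
    _ = 1 := by rw [← hg]; group

/-- long root groups have at most one nontrivial element -/
theorem eq_of_long (hF : Fintype.card F = 4) {φ : F →+* F} (hφ : ∀ t, φ t = t ^ 2) {z : Fin 4 → ℤ}
    (hz : IsRoot cs RGDTwE6.isCartan z) (hl : bf z z = 4) {a b : KK F} (ha : a ∈ X φ z) (hb : b ∈ X φ z) (ha1 : a ≠ 1)
    (hb1 : b ≠ 1) : a = b := by
  refine Cfsg.Agent.H326.QS.VP.eq_of_long (exists_R hF hφ) ?_ ((mem_rts cs).1 hz) hl ha hb ha1 hb1
  have h2 := Cfsg.Agent.H326.QS.VPE.card_X0 hφ (inv4 hF)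
  obtain ⟨x, y, hxy, hu⟩ := Nat.card_eq_two_iff.1 h2
  intro a ha b hb ha1 hb1
  have key : ∀ c : ↥(X φ (sr 0)), c = x ∨ c = y := fun c => by
    have := Set.mem_univ c
    rw [← hu] at this
    exact this
  have e1 := key 1
  have ea := key ⟨a, ha⟩
  have eb := key ⟨b, hb⟩
  have na : (⟨a, ha⟩ : ↥(X φ (sr 0))) ≠ 1 := fun h => ha1 (congrArg Subtype.val h)
  have nb : (⟨b, hb⟩ : ↥(X φ (sr 0))) ≠ 1 := fun h => hb1 (congrArg Subtype.val h)
  have : (⟨a, ha⟩ : ↥(X φ (sr 0))) = ⟨b, hb⟩ := by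
    rcases e1 with e1 | e1 <;> rcases ea with ea | ea <;> rcases eb with eb | eb <;>
      first
        | exact ea.trans eb.symm
        | exact absurd (ea.trans e1.symm) na
        | exact absurd (eb.trans e1.symm) nb
  exact congrArg Subtype.val this

/-- the torus centralizes the long root groups -/
theorem T_comm (hF : Fintype.card F = 4) {φ : F →+* F} (hφ : ∀ t, φ t = t ^ 2) {z : Fin 4 → ℤ}
    (hz : IsRoot cs RGDTwE6.isCartan z) (hl : bf z z = 4) {t a : KK F} (ht : t ∈ RGDTwE6.T F 2) (ha : a ∈ X φ z) :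
    t * a = a * t := by
  by_cases ha1 : a = 1
  · rw [ha1, mul_one, one_mul]
  have h1 : t * a * t⁻¹ ∈ X φ z := by
    have h2 := (exists_R hF hφ).tor z hz t ht
    rw [← h2]
    exact conj_mem_cj.2 ha
  have h3 : t * a * t⁻¹ ≠ 1 := fun h => ha1 (mul_eq_left.1 (mul_inv_eq_one.1 h))
  have h4 := eq_of_long hF hφ hz hl h1 ha h3 ha1
  exact mul_inv_eq_iff_eq_mul.1 h4

/-- the centralizer of a long root element -/
theorem comm_iff (hF : Fintype.card F = 4) {φ : F →+* F} (hφ : ∀ t, φ t = t ^ 2) {z : Fin 4 → ℤ}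
    (hz : IsRoot cs RGDTwE6.isCartan z) (hl : bf z z = 4) {a : KK F} (ha : a ∈ X φ z) (ha1 : a ≠ 1) (g : KK F) :
    g * a = a * g ↔ g ∈ PS (RGDTwE6.T F 2) (X φ) (Ge cs RGDTwE6.isCartan z) := by
  have := finite_W
  have := charTwo hF
  have : Fact (Nat.Prime 2) := ⟨Nat.prime_two⟩
  have L : LR (exists_R hF hφ) z := Cfsg.Agent.KFacts.TwESix.Grp.lr_long cs hφ (inv4 hF) 2 hz hl
  constructor
  · exact fun h => L.le_PS_of_comm (mem_GG' hF hφ g) ha ha1 h
  · intro h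
    have h1 : PS (RGDTwE6.T F 2) (X φ) (Ge cs RGDTwE6.isCartan z) ≤ centralizer ({a} : Set (KK F)) := by
      refine sup_le ?_ ?_
      · intro t ht
        exact mem_centralizer_singleton_iff.2 (T_comm hF hφ hz hl ht ha)
      · intro u hu
        exact mem_centralizer_singleton_iff.2 (L.comm' hu ha)
    exact mem_centralizer_singleton_iff.1 (h1 h)


theorem PS_th (φ : F →+* F) :
    PS (RGDTwE6.T F 2) (X φ) (Ge cs RGDTwE6.isCartan th) = P φ j1 := by
  unfold PS P PJ LJ VJ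
  rw [sup_assoc]
  congr 1
  apply le_antisymm
  · refine RGD.Sup_le fun x hx => ?_
    have h0 : 0 ≤ x 0 := by
      have h1 := (ge_iff cs th_root th_long).1 hx.2
      rw [bf_th] at h1
      omega
    rcases h0.lt_or_eq with h0 | h0
    · refine le_trans (RGD.le_Sup (S := NotJ cs RGDTwE6.isCartan j1) ⟨hx.1, nonneg_of_pos_apply hx.1 h0, 0, ?_, h0⟩)
        le_sup_right
      exact fun h => h rfl
    · refine le_trans (RGD.le_Sup (S := RootsJ cs RGDTwE6.isCartan j1) ⟨hx.1, fun k hk => ?_⟩) le_sup_left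
      have hk : k = 0 := not_not.1 hk
      rw [hk]; exact h0.symm
  · refine sup_le (RGD.Sup_le fun x hx => RGD.le_Sup (S := Ge cs RGDTwE6.isCartan th) ⟨hx.1, ?_⟩)
      (RGD.Sup_le fun x hx => RGD.le_Sup (S := Ge cs RGDTwE6.isCartan th) ⟨hx.1, ?_⟩)
    · rw [ge_iff cs th_root th_long, bf_th, hx.2 0 fun h => h rfl]
      norm_num
    · rw [ge_iff cs th_root th_long, bf_th]
      have := hx.2.1 0
      simp only [Pi.zero_apply] at this
      omega

theorem PS_nth (φ : F →+* F) :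
    PS (RGDTwE6.T F 2) (X φ) (Ge cs RGDTwE6.isCartan (-th)) =
      PNJ cs RGDTwE6.isCartan (RGDTwE6.T F 2) (X φ) j1 := by
  unfold PS PNJ LJ VNJ
  rw [sup_assoc]
  congr 1
  apply le_antisymm
  · refine RGD.Sup_le fun x hx => ?_
    have h0 : x 0 ≤ 0 := by
      have h1 := (ge_iff cs nth_root nth_long).1 hx.2
      rw [bf_nth] at h1
      omega
    rcases h0.lt_or_eq with h0 | h0
    · have h0' : 0 < (-x) 0 := by simpa using h0
      refine le_trans (RGD.le_Sup (S := NotNJ cs RGDTwE6.isCartan j1)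
        (show -x ∈ NotJ cs RGDTwE6.isCartan j1 from ⟨hx.1.neg, nonneg_of_pos_apply hx.1.neg h0', 0, ?_, h0'⟩))
        le_sup_right
      exact fun h => h rfl
    · refine le_trans (RGD.le_Sup (S := RootsJ cs RGDTwE6.isCartan j1) ⟨hx.1, fun k hk => ?_⟩) le_sup_left
      have hk : k = 0 := not_not.1 hk
      rw [hk]; exact h0
  · refine sup_le (RGD.Sup_le fun x hx => RGD.le_Sup (S := Ge cs RGDTwE6.isCartan (-th)) ⟨hx.1, ?_⟩)
      (RGD.Sup_le fun x hx => RGD.le_Sup (S := Ge cs RGDTwE6.isCartan (-th)) ⟨NotNJ.isRoot hx, ?_⟩)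
    · rw [ge_iff cs nth_root nth_long, bf_nth, hx.2 0 fun h => h rfl]
      norm_num
    · rw [ge_iff cs nth_root nth_long, bf_nth]
      have := hx.2.1 0
      simp only [Pi.zero_apply, Pi.neg_apply] at this
      omega

/-- **`P_1` is the centralizer of the root element `r0`.** -/
theorem mem_P1_iff (hF : Fintype.card F = 4) {φ : F →+* F} (hφ : ∀ t, φ t = t ^ 2) {a : KK F} (ha : a ∈ X φ th)
    (ha1 : a ≠ 1) (g : KK F) : g ∈ P φ j1 ↔ g * a = a * g := by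
  rw [comm_iff hF hφ th_root th_long ha ha1, PS_th]

theorem mem_PN1_iff (hF : Fintype.card F = 4) {φ : F →+* F} (hφ : ∀ t, φ t = t ^ 2) {a : KK F} (ha : a ∈ X φ (-th))
    (ha1 : a ≠ 1) (g : KK F) : g ∈ PNJ cs RGDTwE6.isCartan (RGDTwE6.T F 2) (X φ) j1 ↔ g * a = a * g := by
  rw [comm_iff hF hφ nth_root nth_long ha ha1, PS_nth]

/-- **`L_1` is the centralizer of `r0` and `s0`.** -/
theorem mem_Lv_iff (hF : Fintype.card F = 4) {φ : F →+* F} (hφ : ∀ t, φ t = t ^ 2) (g : KK F) :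
    g ∈ Lv φ j1 ↔ g * r0 (four hF hφ) = r0 (four hF hφ) * g ∧ g * s0 (four hF hφ) = s0 (four hF hφ) * g := by
  have := finite_W
  rw [← mem_P1_iff hF hφ (r0_mem hF hφ) (Cfsg.Agent.TwoESix.LeviF.r0_ne (four hF hφ)),
    ← mem_PN1_iff hF hφ (s0_mem hF hφ) (s0_ne hF hφ), ← Subgroup.mem_inf]
  rw [PJ_inf_PNJ (exists_R hF hφ) j1]

theorem mem_Lv_iff' (hF : Fintype.card F = 4) {φ : F →+* F} (hφ : ∀ t, φ t = t ^ 2) (g : KK F) :
    g ∈ Lv φ j1 ↔ (g : GL chevE6.Idx F) ∈ Cfsg.Agent.TwoESix.LeviC.LL F := by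
  rw [mem_Lv_iff hF hφ, Subgroup.mem_inf, ← Cfsg.Agent.TwoESix.LeviB.cent_pair (four hF hφ) g.2]
  constructor
  · rintro ⟨h1, h2⟩
    exact ⟨⟨congrArg Subtype.val h1, congrArg Subtype.val h2⟩, g.2⟩
  · rintro ⟨⟨h1, h2⟩, -⟩
    exact ⟨Subtype.ext h1, Subtype.ext h2⟩

/-- the inclusion of the Levi subgroup -/
def incL (F : Type u) [Field F] : ↥(Cfsg.Agent.TwoESix.LeviC.LL F) →* KK F :=
  Subgroup.inclusion inf_le_right

theorem incL_range (hF : Fintype.card F = 4) {φ : F →+* F} (hφ : ∀ t, φ t = t ^ 2) : (incL F).range = Lv φ j1 := by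
  ext g
  rw [mem_Lv_iff' hF hφ]
  constructor
  · rintro ⟨l, rfl⟩
    exact l.2
  · intro h
    exact ⟨⟨g, h⟩, rfl⟩

theorem incL_injective : Function.Injective (incL F) := Subgroup.inclusion_injective _

/-- the Levi subgroup of `P_1` is `PSU₆(2)`, long root elements correspond to transvections -/
theorem exists_e (hF : Fintype.card F = 4) {φ : F →+* F} (hφ : ∀ t, φ t = t ^ 2) (hF2 : Fintype.card F = 2 ^ 2) :
    ∃ e : ↥(Cfsg.Agent.TwoESix.LeviC.LL F) ≃* PSU 6 F 2, ∀ g, g ∈ Cfsg.Agent.TwoESix.LeviE.DD (four hF hφ) ↔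
      e g ∈ Cfsg.Agent.R01.PSUSix.TT hF2 6 :=
  Cfsg.Agent.TwoESix.LeviF.exists_e (four hF hφ) hF2 (Cfsg.Agent.TwoESix.LeviCard.factorization_LL (four hF hφ))

/-- **K4** -/
theorem exists_su6 (hF : Fintype.card F = 4) {φ : F →+* F} (hφ : ∀ t, φ t = t ^ 2) :
    ∃ f : SU 6 F 2 →* KK F, f.range = Lv φ j1 ∧ f.ker = center (SU 6 F 2) := by
  obtain ⟨e, -⟩ := exists_e hF hφ (by rw [hF]; norm_num)
  refine ⟨((incL F).comp e.symm.toMonoidHom).comp (QuotientGroup.mk' (center (SU 6 F 2))), ?_, ?_⟩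
  · rw [← incL_range hF hφ]
    ext g
    constructor
    · rintro ⟨x, rfl⟩
      exact ⟨_, rfl⟩
    · rintro ⟨l, rfl⟩
      obtain ⟨x, hx⟩ := QuotientGroup.mk'_surjective (center (SU 6 F 2)) (e l)
      refine ⟨x, ?_⟩
      show incL F (e.symm (QuotientGroup.mk' (center (SU 6 F 2)) x)) = incL F l
      rw [hx, e.symm_apply_apply]
  · ext x
    rw [MonoidHom.mem_ker]
    show incL F (e.symm (QuotientGroup.mk' (center (SU 6 F 2)) x)) = 1 ↔ _
    rw [map_eq_one_iff _ incL_injective, map_eq_one_iff _ e.symm.injective, ← MonoidHom.mem_ker,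
      QuotientGroup.ker_mk']

/-! ### transvections -/

open Cfsg.Agent.SporadicStructure

theorem h39 : Cfsg.Agent.ChevalleyStructure.TwE6Basic.rho 39 = 39 := by decide +kernel

/-- the simple root element of the long node `1` -/
def x39 (hF : Fintype.card F = 4) {φ : F →+* F} (hφ : ∀ t, φ t = t ^ 2) : KK F :=
  Cfsg.Agent.TwoESix.LeviF.xE (four hF hφ) 39 h39

theorem x39_mem (hF : Fintype.card F = 4) {φ : F →+* F} (hφ : ∀ t, φ t = t ^ 2) :
    x39 hF hφ ∈ X φ (sr 1) := xE_mem hF hφ _ (by decide +kernel)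

theorem x39_LL (hF : Fintype.card F = 4) {φ : F →+* F} (hφ : ∀ t, φ t = t ^ 2) :
    ((x39 hF hφ : KK F) : GL chevE6.Idx F) ∈ Cfsg.Agent.TwoESix.LeviC.LL F :=
  Cfsg.Agent.TwoESix.LeviD.x_mem_LL (four hF hφ) (by decide +kernel) h39

theorem x39_DD (hF : Fintype.card F = 4) {φ : F →+* F} (hφ : ∀ t, φ t = t ^ 2) :
    (⟨_, x39_LL hF hφ⟩ : ↥(Cfsg.Agent.TwoESix.LeviC.LL F)) ∈ Cfsg.Agent.TwoESix.LeviE.DD (four hF hφ) := by
  have := charTwo hF
  refine (Cfsg.Agent.TwoESix.LeviE.mem_DD (four hF hφ)).2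
    ⟨⟨Cfsg.Agent.TwoESix.LeviB.wn [2, 3], Cfsg.Agent.TwoESix.LeviD.wn_mem_LL (four hF hφ) (by decide)⟩, Subtype.ext ?_⟩
  have h := Cfsg.Agent.TwoESix.LeviB.wn_conj (K := F) [2, 3] 60 1
  have e : Cfsg.Agent.TwoESix.LeviB.wpm [2, 3] 60 = 39 := by decide +kernel
  rw [e] at h
  exact h

/-- **K4**, with the class of transvections -/
theorem exists_su6_T (hF : Fintype.card F = 4) {φ : F →+* F} (hφ : ∀ t, φ t = t ^ 2) (hF2 : Fintype.card F = 2 ^ 2) :
    ∃ f : SU 6 F 2 →* KK F, f.range = Lv φ j1 ∧ f.ker = center (SU 6 F 2) ∧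
      (∀ (v : Fin 6 → F) (hv : hermForm 6 F 2 v v = 0), v ≠ 0 →
        ∃ x ∈ Lv φ j1, x * f (UnitTwo.T hF2 v hv) * x⁻¹ ∈ X φ (sr 1)) ∧
      ∃ (v : Fin 6 → F) (hv : hermForm 6 F 2 v v = 0), v ≠ 0 ∧ f (UnitTwo.T hF2 v hv) ∈ X φ (sr 1) := by
  obtain ⟨e, he⟩ := exists_e hF hφ hF2
  have hf : ∀ x, ((incL F).comp e.symm.toMonoidHom).comp (QuotientGroup.mk' (center (SU 6 F 2))) x =
      incL F (e.symm (QuotientGroup.mk' (center (SU 6 F 2)) x)) := fun _ => rfl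
  have hr : (((incL F).comp e.symm.toMonoidHom).comp (QuotientGroup.mk' (center (SU 6 F 2)))).range = Lv φ j1 := by
    rw [← incL_range hF hφ]
    ext g
    constructor
    · rintro ⟨x, rfl⟩
      exact ⟨_, rfl⟩
    · rintro ⟨l, rfl⟩
      obtain ⟨x, hx⟩ := QuotientGroup.mk'_surjective (center (SU 6 F 2)) (e l)
      refine ⟨x, ?_⟩
      rw [hf, hx, e.symm_apply_apply]
  refine ⟨_, hr, ?_, ?_, ?_⟩
  · ext x
    rw [MonoidHom.mem_ker, hf, map_eq_one_iff _ incL_injective, map_eq_one_iff _ e.symm.injective,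
      ← MonoidHom.mem_ker, QuotientGroup.ker_mk']
  · intro v hv h0
    have h1 : Cfsg.Agent.ClassicalGeometry.UnitAutBasic.tau hF2 v ∈ Cfsg.Agent.R01.PSUSix.TT hF2 6 :=
      Cfsg.Agent.R01.PSUSix.tau_mem hF2 h0 hv
    rw [Cfsg.Agent.R01.PSUSix.tau_eq_pr hF2 hv] at h1
    have h2 : e.symm (QuotientGroup.mk' (center (SU 6 F 2)) (UnitTwo.T hF2 v hv)) ∈
        Cfsg.Agent.TwoESix.LeviE.DD (four hF hφ) := by
      rw [he, e.apply_symm_apply]
      exact h1
    obtain ⟨c, hc⟩ := (Cfsg.Agent.TwoESix.LeviE.mem_DD (four hF hφ)).1 h2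
    obtain ⟨d, hd⟩ := (Cfsg.Agent.TwoESix.LeviE.mem_DD (four hF hφ)).1 (x39_DD hF hφ)
    refine ⟨incL F (d * c⁻¹), ?_, ?_⟩
    · rw [← incL_range hF hφ]
      exact ⟨_, rfl⟩
    · have h3 : incL F (d * c⁻¹) * incL F (e.symm (QuotientGroup.mk' (center (SU 6 F 2)) (UnitTwo.T hF2 v hv))) *
          (incL F (d * c⁻¹))⁻¹ = x39 hF hφ := by
        rw [← map_inv, ← map_mul, ← map_mul, ← hc]
        have h4 : d * c⁻¹ * (c * Cfsg.Agent.TwoESix.LeviE.d0 (four hF hφ) * c⁻¹) * (d * c⁻¹)⁻¹ =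
            ⟨_, x39_LL hF hφ⟩ := by rw [← hd]; group
        rw [h4]
        rfl
      rw [hf, h3]
      exact x39_mem hF hφ
  · obtain ⟨v, h0, hv, h1⟩ := (he _).1 (x39_DD hF hφ)
    refine ⟨v, hv, h0, ?_⟩
    rw [Cfsg.Agent.R01.PSUSix.tau_eq_pr hF2 hv] at h1
    have h2 : incL F (e.symm (QuotientGroup.mk' (center (SU 6 F 2)) (UnitTwo.T hF2 v hv))) = x39 hF hφ := by
      have h3 : e.symm (QuotientGroup.mk' (center (SU 6 F 2)) (UnitTwo.T hF2 v hv)) = ⟨_, x39_LL hF hφ⟩ := by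
        rw [MulEquiv.symm_apply_eq]
        exact h1.symm
      rw [h3]
      rfl
    rw [hf, h2]
    exact x39_mem hF hφ

end Cfsg.Agent.H297.QF.Su
end
end

-- part: H150/QF/Tab
section
set_option linter.all false
open scoped Cfsg.Agent.FastGrp

/-!
# Root tables for `²E₆(2)` (S2491, row F4; helper150)

* `Qb` : a decidable consequence of `Btwn`;
* `prt` : the positive roots, `wgt` : the orders of the root groups;
* `card_X`, `card_Sup` : orders.
-/

set_option autoImplicit false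
set_option linter.unusedSectionVars false

namespace Cfsg.Agent.H150.QF

open CoxeterSystem Cfsg.Agent.ChevalleyStructure.CoxeterGeom Cfsg.Agent.Tits.Roots Cfsg.Agent.Tits.Core
  Cfsg.Agent.Nodes Cfsg.Agent.Nodes.Reps Cfsg.Agent.Nodes.BNOf Cfsg.Agent.Nodes.RGDLib Cfsg.Agent.Nodes.Bruhat
  Cfsg.Agent.Nodes.OppDec Cfsg.Agent.Nodes.LeviDec Cfsg.Agent.Nodes.StabComb Cfsg.Agent.Nodes.Unique
open Cfsg.Lie Subgroup
open Cfsg.Agent.H231.QF
open Cfsg.Agent.KFacts.TwESix.Comb (bf rts mem_rts bf_rep norm exists_rep_long exists_rep_short)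
open Cfsg.Agent.Nodes.RGDFoldSL (Fx mem_Fx)
open Cfsg.Agent.Nodes.RGDTwNode.E6 (rest)
open Cfsg.Agent.ChevalleyStructure.SL2Hom (up lo)

universe u

/-- the decidable consequence of `Btwn` -/
def Qb (x y z : Fin 4 → ℤ) : Prop := ∀ i j : Fin 4,
  (0 < x i * y j - x j * y i → 0 < z i * y j - z j * y i ∧ 0 < x i * z j - x j * z i) ∧
  (x i * y j - x j * y i = 0 → z i * y j - z j * y i = 0 ∧ x i * z j - x j * z i = 0)

instance (x y z : Fin 4 → ℤ) : Decidable (Qb x y z) := by unfold Qb; infer_instance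

theorem btwn_Qb {x y z : Fin 4 → ℤ} (h : Btwn cs RGDTwE6.isCartan x y z) : Qb x y z := by
  obtain ⟨-, m, a, b, hm, ha, hb, e⟩ := h
  intro i j
  have ei := congrFun e i
  have ej := congrFun e j
  simp only [Pi.add_apply, Pi.smul_apply, smul_eq_mul] at ei ej
  have e1 : m * (z i * y j - z j * y i) = a * (x i * y j - x j * y i) := by linear_combination y j * ei - y i * ej
  have e2 : m * (x i * z j - x j * z i) = b * (x i * y j - x j * y i) := by linear_combination x i * ej - x j * ei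
  refine ⟨fun h => ⟨?_, ?_⟩, fun h => ⟨?_, ?_⟩⟩
  · exact (mul_pos_iff_of_pos_left hm).1 (e1 ▸ mul_pos ha h)
  · exact (mul_pos_iff_of_pos_left hm).1 (e2 ▸ mul_pos hb h)
  · rw [h, mul_zero] at e1
    exact (mul_eq_zero.1 e1).resolve_left hm.ne'
  · rw [h, mul_zero] at e2
    exact (mul_eq_zero.1 e2).resolve_left hm.ne'

/-- the positive roots -/
def prt : List (Fin 4 → ℤ) :=
  [![0, 1, 0, 0], ![1, 0, 0, 0], ![1, 1, 0, 0], ![0, 1, 2, 0], ![1, 1, 2, 0], ![0, 1, 2, 2], ![1, 2, 2, 0],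
   ![1, 1, 2, 2], ![1, 2, 2, 2], ![1, 2, 4, 2], ![1, 3, 4, 2], ![2, 3, 4, 2],
   ![0, 0, 0, 1], ![0, 0, 1, 0], ![0, 0, 1, 1], ![0, 1, 1, 0], ![0, 1, 1, 1], ![1, 1, 1, 0], ![0, 1, 2, 1],
   ![1, 1, 1, 1], ![1, 1, 2, 1], ![1, 2, 2, 1], ![1, 2, 3, 1], ![1, 2, 3, 2]]

theorem prt_a : ∀ x ∈ prt, x ∈ rts ∧ ∀ k, 0 ≤ x k := by decide +kernel

theorem prt_b : ∀ x ∈ rts, (∀ k, 0 ≤ x k) → x ∈ prt := by decide +kernel

theorem mem_prt {x : Fin 4 → ℤ} : x ∈ prt ↔ IsRoot cs RGDTwE6.isCartan x ∧ 0 ≤ x := by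
  constructor
  · intro h
    obtain ⟨h1, h2⟩ := prt_a x h
    exact ⟨(mem_rts cs).2 h1, h2⟩
  · rintro ⟨h1, h2⟩
    exact prt_b x ((mem_rts cs).1 h1) h2

/-- the orders of the root groups -/
def wgt (x : Fin 4 → ℤ) : ℕ := if bf x x = 4 then 2 else 4

section

variable {F : Type u} [Field F] [Fintype F] {φ : F →+* F} (hF : Fintype.card F = 4) (hφ : ∀ t, φ t = t ^ 2)

include hF hφ

theorem card_F0 : Nat.card (Fx φ ((rest 0).length + 1)) = 2 :=
  Cfsg.Agent.UGT.U2.FOne.TwESix.card_Fq hφ le_rfl (by rw [hF]; norm_num)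

theorem card_F3 : Nat.card (Fx φ ((rest 3).length + 1)) = 4 := by
  have h3 : ∀ a : F, a ∈ Fx φ ((rest 3).length + 1) := fun a => by
    rw [mem_Fx]
    change φ (φ a) = a
    rw [hφ, hφ]
    exact hqq_of hF a
  exact (Nat.card_congr (Equiv.subtypeUnivEquiv h3)).trans (Nat.card_eq_fintype_card.trans hF)

theorem card_X_sr (i : Fin 4) : Nat.card (X φ (sr i)) = Nat.card (Fx φ ((rest i).length + 1)) := by
  have hinj : Function.Injective fun a : Fx φ ((rest i).length + 1) =>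
      Cfsg.Agent.UGT.U2.FOne.TwESix.P hφ (hqq_of hF) i (up a) := by
    intro a b hab
    have h1 : Cfsg.Agent.UGT.U2.FOne.TwESix.P hφ (hqq_of hF) i (up (a - b)) = 1 := by
      have h2 : up (a - b) * up b = up a := by rw [← Cfsg.Agent.UGT.U2.FOne.SLInj.up_add, sub_add_cancel]
      have h3 := congrArg (Cfsg.Agent.UGT.U2.FOne.TwESix.P hφ (hqq_of hF) i) h2
      rw [map_mul] at h3
      have h4 : Cfsg.Agent.UGT.U2.FOne.TwESix.P hφ (hqq_of hF) i (up a) =
        Cfsg.Agent.UGT.U2.FOne.TwESix.P hφ (hqq_of hF) i (up b) := hab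
      rw [h4] at h3
      exact mul_eq_right.1 h3
    exact sub_eq_zero.1 (Cfsg.Agent.UGT.U2.FOne.TwESix.P_up_inj hφ (hqq_of hF) i h1)
  have h1 : (X φ (sr i) : Set (KK F)) = Set.range fun a : Fx φ ((rest i).length + 1) =>
      Cfsg.Agent.UGT.U2.FOne.TwESix.P hφ (hqq_of hF) i (up a) := by
    ext u
    rw [SetLike.mem_coe, Cfsg.Agent.UGT.U2.FOne.TwESix.mem_X_sr hφ (hqq_of hF) i]
    rfl
  have h2 : Nat.card (X φ (sr i)) = Nat.card (Set.range fun a : Fx φ ((rest i).length + 1) =>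
      Cfsg.Agent.UGT.U2.FOne.TwESix.P hφ (hqq_of hF) i (up a)) := by
    rw [← h1]; rfl
  rw [h2]
  exact (Nat.card_congr (Equiv.ofInjective _ hinj)).symm

theorem card_X0 : Nat.card (X φ (sr 0)) = 2 := (card_X_sr hF hφ 0).trans (card_F0 hF hφ)

theorem card_X3 : Nat.card (X φ (sr 3)) = 4 := (card_X_sr hF hφ 3).trans (card_F3 hF hφ)

theorem card_X {x : Fin 4 → ℤ} (hx : IsRoot cs RGDTwE6.isCartan x) : Nat.card (X φ x) = wgt x := by
  have := finite_WF
  have R := rgdK hF hφ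
  rcases norm cs hx with h | h
  · obtain ⟨w, rfl⟩ := exists_rep_long cs hx h
    rw [CardSup.card_X_rep R w (isRoot_sr cs _ 0), card_X0 hF hφ, wgt, if_pos h]
  · obtain ⟨w, rfl⟩ := exists_rep_short cs hx h
    rw [CardSup.card_X_rep R w (isRoot_sr cs _ 3), card_X3 hF hφ, wgt, if_neg (by rw [h]; norm_num)]

/-- orders of the joins of root groups -/
theorem card_Sup {s : Finset (Fin 4 → ℤ)} (hs : ∀ x ∈ s, x ∈ prt)
    (hc : Closed cs RGDTwE6.isCartan (s : Set (Fin 4 → ℤ))) :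
    Nat.card (RGD.Sup (X φ) (s : Set (Fin 4 → ℤ))) = ∏ x ∈ s, wgt x := by
  have := finite_WF
  rw [CardSup.card_sup (rgdK hF hφ) (fun x hx => mem_prt.1 (hs x hx)) hc]
  exact Finset.prod_congr rfl fun x hx => card_X hF hφ (mem_prt.1 (hs x hx)).1

end

end Cfsg.Agent.H150.QF

private theorem dce_c1b692ca976e : _root_.True := by
  try have : _root_.True := by simp only [_root_.Cfsg.Agent.H150.QF.wgt.eq_1]
  exact _root_.True.intro
end

-- part: H594/QF/Cent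
section
set_option linter.all false
open scoped Cfsg.Agent.FastGrp

/-!
# S2491, row F4 = `²E₆(2)`: the centralizer of a root element is `P₁` (K2, helper594)
-/

set_option autoImplicit false
set_option linter.unusedSectionVars false
set_option linter.unusedFintypeInType false
set_option maxHeartbeats 400000

namespace Cfsg.Agent.H594.QF

open CoxeterSystem Cfsg.Agent.ChevalleyStructure.CoxeterGeom Cfsg.Agent.Tits.Roots Cfsg.Agent.Tits.Core
  Cfsg.Agent.Nodes Cfsg.Agent.Nodes.Reps Cfsg.Agent.Nodes.BNOf Cfsg.Agent.Nodes.RGDLib Cfsg.Agent.Nodes.Bruhat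
  Cfsg.Agent.Nodes.OppDec Cfsg.Agent.Nodes.LeviDec Cfsg.Agent.Nodes.StabComb
open Cfsg.Lie Subgroup
open Cfsg.Agent.H231.QF
open Cfsg.Agent.Nodes.RGDTwCoordE6 Cfsg.Agent.Nodes.RGDTwComE6 Cfsg.Agent.Nodes.RGDTwActE6
open Cfsg.Agent.KFacts.TwESix.Comb (rts mem_rts)
open Cfsg.Agent.Nodes.RGDTwCoord (Ok)
open scoped commutatorElement

universe u v

theorem tab_th_pos : ∀ z ∈ rts, (∀ i, 0 ≤ z i) → z + th ∉ rts ∧ z + th ≠ 0 := by decide +kernel

theorem tab_refl : ∀ i : Fin 4, i ≠ 0 → RGDFold.refl RGDTwE6.A i th = th := by decide +kernel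

theorem tab_refl0 : RGDFold.refl RGDTwE6.A 0 th ≠ th := by decide +kernel

section

variable {F : Type u} [Field F] [Fintype F] (hF : Fintype.card F = 4) {φ : F →+* F} (hφ : ∀ t, φ t = t ^ 2)

omit [Fintype F] in
/-- an element normalising `X_θ` centralises it -/
theorem comm_of_norm (hc : Nat.card (X φ th) = 2) {g t : KK F} (ht : t ∈ X φ th) (hg : g * t * g⁻¹ ∈ X φ th) :
    g * t = t * g := by
  by_cases h1 : t = 1
  · rw [h1, mul_one, one_mul]
  have h2 : g * t * g⁻¹ = t := by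
    by_contra hne
    have h3 : g * t * g⁻¹ ≠ 1 := by
      intro h
      apply h1
      calc t = g⁻¹ * (g * t * g⁻¹) * g := by group
        _ = 1 := by rw [h]; group
    have hfin : Finite (X φ th) := Nat.finite_of_card_ne_zero (by rw [hc]; decide)
    have h4 : ({1, t, g * t * g⁻¹} : Set (KK F)).ncard ≤ 2 := by
      refine (Set.ncard_le_ncard (t := (X φ th : Set (KK F))) ?_ hfin).trans hc.le
      rintro x (rfl | rfl | rfl)
      · exact one_mem _
      · exact ht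
      · exact hg
    have h5 : ({1, t, g * t * g⁻¹} : Set (KK F)).ncard = 3 := by
      rw [Set.ncard_eq_three]
      exact ⟨1, t, g * t * g⁻¹, fun h => h1 h.symm, fun h => h3 h.symm, fun h => hne h.symm, rfl⟩
    omega
  exact mul_inv_eq_iff_eq_mul.1 h2

include hF hφ

/-- **K2** : the centralizer of a root element is `P₁` -/
theorem centralizer_eq {t : KK F} (ht : t ∈ X φ th) (h1 : t ≠ 1) : centralizer ({t} : Set (KK F)) = P φ j1 := by
  obtain ⟨p, hp'⟩ := CharP.exists F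
  have : Fact p.Prime := ⟨CharP.char_is_prime F p⟩
  have R := RGDTwE6.rgd cs hφ (hqq hF) p
  have hW : Finite CoxeterMatrix.F₄.Group := Cfsg.Agent.KFacts.TwESix.Comb.finiteW cs
  have hG : GG cs RGDTwE6.isCartan (RGDTwE6.T F 2) (X φ) = ⊤ :=
    Cfsg.Agent.KFacts.RgdRigid.GG_eq_top (RGDTwE6.G1_eq_top cs hφ (hqq hF))
  have hc := card_X_th hF hφ
  have hB : RGD.B cs RGDTwE6.isCartan (RGDTwE6.T F 2) (X φ) ≤ centralizer ({t} : Set (KK F)) := by
    refine sup_le (fun g hg => ?_) (RGD.Sup_le fun z hz g hg => ?_)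
    · rw [Subgroup.mem_centralizer_singleton_iff]
      refine comm_of_norm hc ht ?_
      have h2 : cj g (X φ th) = X φ th := R.tor th isRoot_th g hg
      have h3 : g * t * g⁻¹ ∈ cj g (X φ th) := conj_mem_cj.2 ht
      rwa [h2] at h3
    · rw [Subgroup.mem_centralizer_singleton_iff]
      have hz' := (mem_rts cs).1 hz.1
      obtain ⟨h2, h3⟩ := tab_th_pos z hz' fun i => hz.2 i
      exact X_comm hF hφ hz' tab_th.1 h2 h3 hg ht
  have h2 := inf_eq_PJ R hB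
  rw [hG, inf_top_eq] at h2
  rw [h2]
  have h3 : {i | RGDTwE6.nn hφ i ∈ centralizer ({t} : Set (KK F))} = j1 := by
    ext i
    have h4 : RGDTwE6.nn hφ i * t * (RGDTwE6.nn hφ i)⁻¹ ∈ X φ (RGDFold.refl RGDTwE6.A i th) := by
      have h5 : cj (RGDTwE6.nn hφ i) (X φ th) = X φ (rep cs RGDTwE6.isCartan (cs.simple i) th) := R.conj i th isRoot_th
      have h6 : RGDTwE6.nn hφ i * t * (RGDTwE6.nn hφ i)⁻¹ ∈ cj (RGDTwE6.nn hφ i) (X φ th) := conj_mem_cj.2 ht
      rwa [h5, Cfsg.Agent.KFacts.TwESix.Comb.rep_simple_refl] at h6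
    constructor
    · intro hi h0
      subst h0
      have hi' : RGDTwE6.nn hφ 0 ∈ centralizer ({t} : Set (KK F)) := hi
      rw [Subgroup.mem_centralizer_singleton_iff] at hi'
      rw [hi', mul_inv_cancel_right] at h4
      have hr : IsRoot cs RGDTwE6.isCartan (RGDFold.refl RGDTwE6.A 0 th) := by
        rw [← Cfsg.Agent.KFacts.TwESix.Comb.rep_simple_refl (cs := cs)]
        exact isRoot_th.act _
      have h5 := OppDec.X_inf_X R hr isRoot_th tab_refl0
      have h6 : t ∈ (⊥ : Subgroup (KK F)) := by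
        rw [← h5]
        exact ⟨h4, ht⟩
      exact h1 (Subgroup.mem_bot.1 h6)
    · intro hi
      show RGDTwE6.nn hφ i ∈ centralizer ({t} : Set (KK F))
      rw [Subgroup.mem_centralizer_singleton_iff]
      rw [tab_refl i hi] at h4
      exact comm_of_norm hc ht h4
  rw [h3]

end

end Cfsg.Agent.H594.QF
end

-- part: H150/QF/Fix
section
set_option linter.all false

/-!
# Elements of order five acting on a section of order 16 (S2491, row F4, E5; helper150)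
-/

set_option autoImplicit false
set_option linter.style.haveILetI false

namespace Cfsg.Agent.H150.QF.Fix

open Subgroup

variable {Y : Type*} [Group Y] [Finite Y] {A B : Subgroup Y}

end Cfsg.Agent.H150.QF.Fix
end

-- part: H150/QF/Str
section
set_option linter.all false

/-!
# Strings of roots under the node `3` in `²E₆(2)` (S2491, row F4, E5; helper150)

* `ff`, `Sm`, `Nm` : the filtration of the unipotent radical of `P_{0,1,3}`;
* `step` : an element of order five of the rank one group of the node `3` has no fixed points on a string of order 16;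
* `mem_last` : its fixed points in `V_3` are in `⟨X_1242, X_1342, X_2342⟩`.
-/

set_option autoImplicit false
set_option linter.unusedSectionVars false
set_option linter.style.haveILetI false

namespace Cfsg.Agent.H150.QF

open CoxeterSystem Cfsg.Agent.ChevalleyStructure.CoxeterGeom Cfsg.Agent.Tits.Roots Cfsg.Agent.Tits.Core
  Cfsg.Agent.Nodes Cfsg.Agent.Nodes.Reps Cfsg.Agent.Nodes.BNOf Cfsg.Agent.Nodes.RGDLib Cfsg.Agent.Nodes.Bruhat
  Cfsg.Agent.Nodes.OppDec Cfsg.Agent.Nodes.LeviDec Cfsg.Agent.Nodes.StabComb Cfsg.Agent.Nodes.Unique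
open Cfsg.Lie Subgroup
open Cfsg.Agent.H231.QF
open Cfsg.Agent.KFacts.TwESix.Comb (bf rts mem_rts bf_rep norm exists_rep_long exists_rep_short)
open Cfsg.Agent.Nodes.RGDFoldSL (Fx mem_Fx wS)
open Cfsg.Agent.Nodes.RGDTwNode.E6 (rest)
open Cfsg.Agent.ChevalleyStructure.SL2Hom (up lo)

universe u

/-- the filtration -/
def ff (x : Fin 4 → ℤ) : ℤ := x 0 + x 1 + 4 * x 2

/-- the roots of level at least `m` -/
def Sm (m : ℤ) : Finset (Fin 4 → ℤ) := (prt.filter fun x => m ≤ ff x).toFinset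

section

variable {F : Type u} [Field F] [Fintype F] {φ : F →+* F} (hF : Fintype.card F = 4) (hφ : ∀ t, φ t = t ^ 2)

/-- the homomorphism of the node `3` -/
noncomputable abbrev P3 : Matrix.SpecialLinearGroup (Fin 2) (Fx φ ((rest 3).length + 1)) →* KK F :=
  Cfsg.Agent.UGT.U2.FOne.TwESix.P hφ (hqq_of hF) 3

include hF hφ

end

end Cfsg.Agent.H150.QF

private theorem dce_6ae7f54e8e50 : _root_.True := by
  try have : _root_.True := by simp only [_root_.Cfsg.Agent.H150.QF.P3.congr_simp]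
  try have : _root_.True := by simp only [_root_.Cfsg.Agent.H150.QF.Sm.eq_1]
  exact _root_.True.intro
end

-- part: H150/QF/Rt
section
set_option linter.all false
open scoped Cfsg.Agent.FastGrp

/-!
# Long root elements in `²E₆(2)` (S2491, row F4; helper150)

* `comm_of` : commuting root groups; `conj_pair` : the rank one group of a long node is transitive on `(X_β X_γ) ∖ 1`, `γ = β + α_i`;
* `re_of` : conjugates of elements of `X_θ` are root elements;
* `re_last` : the nontrivial elements of `⟨X_1242, X_1342, X_2342⟩` are root elements.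
-/

set_option autoImplicit false
set_option linter.unusedSectionVars false
set_option linter.style.haveILetI false

namespace Cfsg.Agent.H150.QF

open CoxeterSystem Cfsg.Agent.ChevalleyStructure.CoxeterGeom Cfsg.Agent.Tits.Roots Cfsg.Agent.Tits.Core
  Cfsg.Agent.Nodes Cfsg.Agent.Nodes.Reps Cfsg.Agent.Nodes.BNOf Cfsg.Agent.Nodes.RGDLib Cfsg.Agent.Nodes.Bruhat
  Cfsg.Agent.Nodes.OppDec Cfsg.Agent.Nodes.LeviDec Cfsg.Agent.Nodes.StabComb Cfsg.Agent.Nodes.Unique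
open Cfsg.Lie Subgroup
open Cfsg.Agent.H231.QF
open Cfsg.Agent.KFacts.TwESix.Comb (bf rts mem_rts bf_rep norm exists_rep_long exists_rep_short)
open Cfsg.Agent.Nodes.RGDFoldSL (Fx mem_Fx wS)
open Cfsg.Agent.Nodes.RGDTwNode.E6 (rest)
open Cfsg.Agent.ChevalleyStructure.SL2Hom (up lo)
open scoped commutatorElement

universe u

theorem lo_neg {k : Type*} [Field k] : (lo (-(1 : k)⁻¹) : Matrix.SpecialLinearGroup (Fin 2) k) =
    wS 1 * up 1 * (wS 1)⁻¹ := by
  rw [eq_mul_inv_iff_mul_eq]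
  apply Subtype.ext
  rw [Matrix.SpecialLinearGroup.coe_mul, Matrix.SpecialLinearGroup.coe_mul,
    Cfsg.Agent.Nodes.RGDFoldSL.coe_wS one_ne_zero]
  change !![(1 : k), 0; -(1 : k)⁻¹, 1] * _ = _ * !![(1 : k), 1; 0, 1]
  ext i j
  fin_cases i <;> fin_cases j <;> simp [Matrix.mul_apply, Fin.sum_univ_two]

theorem wS_eq3 {k : Type*} [Field k] : (wS (1 : k) : Matrix.SpecialLinearGroup (Fin 2) k) =
    up 1 * ((wS 1 * up 1 * (wS 1)⁻¹) * up 1) := by
  rw [← lo_neg]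
  rfl

/-- the table of a pair of long roots `β`, `γ = β + α_i` -/
def PT (i : Fin 4) (β γ : Fin 4 → ℤ) : Prop :=
  β ∈ prt ∧ γ ∈ prt ∧ wgt β = 2 ∧ wgt γ = 2 ∧ β ≠ γ ∧ Cfsg.Agent.Nodes.RGDFold.refl RGDTwE6.A i β = γ ∧
    Cfsg.Agent.Nodes.RGDFold.refl RGDTwE6.A i γ = β ∧ (∀ z ∈ rts, ¬ Qb β γ z) ∧ (∀ z ∈ rts, ¬ Qb (sr i) γ z) ∧
    (∀ z ∈ rts, Qb (sr i) β z → z = γ) ∧ sr i ∈ rts ∧ sr i ≠ β ∧ sr i ≠ -β ∧ sr i ≠ γ ∧ sr i ≠ -γ ∧ β ≠ -γ

instance (i : Fin 4) (β γ : Fin 4 → ℤ) : Decidable (PT i β γ) := by unfold PT; infer_instance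

theorem tab_th : ∀ x ∈ prt, 0 ≤ bf x th := by decide +kernel

theorem th_rts : th ∈ prt ∧ wgt th = 2 ∧ bf th th = 4 := by decide +kernel

theorem pt0 : PT 0 ![1, 3, 4, 2] th := by decide +kernel

section

variable {F : Type u} [Field F] [Fintype F] {φ : F →+* F} (hF : Fintype.card F = 4) (hφ : ∀ t, φ t = t ^ 2)

/-- the homomorphisms of the nodes -/
noncomputable abbrev Pn (i : Fin 4) : Matrix.SpecialLinearGroup (Fin 2) (Fx φ ((rest i).length + 1)) →* KK F :=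
  Cfsg.Agent.UGT.U2.FOne.TwESix.P hφ (hqq_of hF) i

include hF hφ

theorem comm_of {x y : Fin 4 → ℤ} (hx : x ∈ rts) (hy : y ∈ rts) (h1 : x ≠ y) (h2 : x ≠ -y) (hb : ∀ z ∈ rts, ¬ Qb x y z)
    {a b : KK F} (ha : a ∈ X φ x) (hb' : b ∈ X φ y) : a * b = b * a := by
  have R := rgdK hF hφ
  have h3 := R.comm x y ((mem_rts cs).2 hx) ((mem_rts cs).2 hy) h1 h2 a ha b hb'
  have h4 := R.btw_le_Sup (S := (∅ : Set (Fin 4 → ℤ))) (fun z hz => absurd (btwn_Qb hz) (hb z ((mem_rts cs).1 hz.1))) h3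
  rw [Sup_empty, Subgroup.mem_bot, commutatorElement_def, mul_inv_eq_one] at h4
  calc a * b = a * b * a⁻¹ * a := by group
    _ = b * a := by rw [h4]

theorem comm_long {x z : Fin 4 → ℤ} (hx : x ∈ rts) (hz : z ∈ rts) (hl : bf z z = 4) (h : 0 ≤ bf x z)
    {a b : KK F} (ha : a ∈ X φ x) (hb : b ∈ X φ z) : a * b = b * a := by
  by_cases hb1 : b = 1
  · rw [hb1]; group
  refine (Cfsg.Agent.H297.QF.Su.comm_iff hF hφ ((mem_rts cs).2 hz) hl hb hb1 a).2 ?_
  have h1 : x ∈ Cfsg.Agent.KFacts.RgdTI.Ge cs RGDTwE6.isCartan z :=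
    ⟨(mem_rts cs).2 hx, (Cfsg.Agent.KFacts.TwESix.Comb.ge_iff cs ((mem_rts cs).2 hz) hl).2 h⟩
  exact Cfsg.Agent.KFacts.RgdPar.X_le_PS h1 ha

theorem two_of {x : Fin 4 → ℤ} (hx : x ∈ rts) (hw : wgt x = 2) {a b : KK F} (ha : a ∈ X φ x) (hb : b ∈ X φ x)
    (ha1 : a ≠ 1) (hb1 : b ≠ 1) : a = b := by
  have h1 := card_X hF hφ ((mem_rts cs).2 hx)
  rw [hw] at h1
  obtain ⟨u, v, huv, hu⟩ := Nat.card_eq_two_iff.1 h1
  have key : ∀ t : X φ x, t = u ∨ t = v := fun t => by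
    have : t ∈ ({u, v} : Set (X φ x)) := by rw [hu]; trivial
    simpa using this
  have ka := key ⟨a, ha⟩
  have kb := key ⟨b, hb⟩
  have k1 := key 1
  have e1 : (⟨a, ha⟩ : X φ x) ≠ 1 := fun h => ha1 (congrArg Subtype.val h)
  have e2 : (⟨b, hb⟩ : X φ x) ≠ 1 := fun h => hb1 (congrArg Subtype.val h)
  have h3 : (⟨a, ha⟩ : X φ x) = ⟨b, hb⟩ := by
    rcases k1 with k | k <;> rcases ka with k' | k' <;> rcases kb with k'' | k''
    all_goals first
      | exact k'.trans k''.symm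
      | exact absurd (k'.trans k.symm) e1
      | exact absurd (k''.trans k.symm) e2
  exact congrArg Subtype.val h3

theorem conj_refl (i : Fin 4) {β γ : Fin 4 → ℤ} (hβ : β ∈ rts) (h1 : Cfsg.Agent.Nodes.RGDFold.refl RGDTwE6.A i β = γ)
    {y : KK F} (hy : y ∈ X φ β) : Pn hF hφ i (wS 1) * y * (Pn hF hφ i (wS 1))⁻¹ ∈ X φ γ := by
  have R := rgdK hF hφ
  have hn : Pn hF hφ i (wS 1) = RGDTwE6.nn hφ i := Cfsg.Agent.UGT.U2.FOne.TwESix.P_wS hφ (hqq_of hF) i
  rw [hn, ← h1, ← Cfsg.Agent.KFacts.TwESix.Comb.rep_simple_refl cs i β]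
  exact R.conj_mem (rp_simple cs R.nsys i) ((mem_rts cs).2 hβ) hy

/-- **Pairs of long roots.** -/
theorem conj_pair {i : Fin 4} {β γ : Fin 4 → ℤ} (hP : PT i β γ) {y y' : KK F} (hy : y ∈ X φ β) (hy' : y' ∈ X φ γ) :
    ∃ r, Pn hF hφ i r * (y * y') * (Pn hF hφ i r)⁻¹ ∈ X φ γ := by
  have := finite_WF
  have R := rgdK hF hφ
  obtain ⟨hβ, hγ, wβ, wγ, hne, h1, h2, h3, h4, h5, h6, h7, h8, h9, h10, h11⟩ := hP
  have rβ := (prt_a β hβ).1
  have rγ := (prt_a γ hγ).1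
  by_cases hy1 : y = 1
  · refine ⟨1, ?_⟩
    rw [map_one, hy1]
    have e : (1 : KK F) * (1 * y') * 1⁻¹ = y' := by group
    rw [e]; exact hy'
  by_cases hy1' : y' = 1
  · refine ⟨wS 1, ?_⟩
    rw [hy1', mul_one]
    exact conj_refl hF hφ i rβ h1 hy
  have hu : Pn hF hφ i (up 1) ∈ X φ (sr i) := (Cfsg.Agent.UGT.U2.FOne.TwESix.mem_X_sr hφ (hqq_of hF) i).2 ⟨1, rfl⟩
  obtain ⟨u, hu'⟩ : ∃ u, u = Pn hF hφ i (up 1) := ⟨_, rfl⟩
  obtain ⟨n, hn'⟩ : ∃ n, n = Pn hF hφ i (wS 1) := ⟨_, rfl⟩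
  rw [← hu'] at hu
  have k1 := conj_refl hF hφ i rβ h1 hy
  have k2 := conj_refl hF hφ i rγ h2 hy'
  rw [← hn'] at k1 k2
  have cne : ∀ {x : KK F}, x ≠ 1 → n * x * n⁻¹ ≠ 1 := fun {x} hx h => hx (by
    calc x = n⁻¹ * (n * x * n⁻¹) * n := by group
      _ = 1 := by rw [h]; group)
  have e1 : n * y * n⁻¹ = y' := two_of hF hφ rγ wγ k1 hy' (cne hy1) hy1'
  have e2 : n * y' * n⁻¹ = y := two_of hF hφ rβ wβ k2 hy (cne hy1') hy1
  have cy : y * y' = y' * y := comm_of hF hφ rβ rγ hne h11 h3 hy hy'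
  have cu : u * y' = y' * u := comm_of hF hφ h6 rγ h9 h10 h4 hu hy'
  have hc : ⁅u, y⁆ ∈ X φ γ := by
    have k3 := R.comm (sr i) β ((mem_rts cs).2 h6) ((mem_rts cs).2 rβ) h7 h8 u hu y hy
    have k4 := R.btw_le_Sup (S := ({γ} : Set (Fin 4 → ℤ)))
      (fun z hz => Set.mem_singleton_iff.2 (h5 z ((mem_rts cs).1 hz.1) (btwn_Qb hz))) k3
    exact RGD.Sup_le (S := ({γ} : Set (Fin 4 → ℤ))) (fun z hz => by rw [Set.mem_singleton_iff.1 hz]) k4
  have hc1 : ⁅u, y⁆ ≠ 1 := by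
    intro h
    rw [commutatorElement_def, mul_inv_eq_one] at h
    have cu' : u * y = y * u := by
      calc u * y = u * y * u⁻¹ * u := by group
        _ = y * u := by rw [h]
    have hnu : n = u * ((n * u * n⁻¹) * u) := by
      rw [hn', hu', ← map_inv, ← map_mul, ← map_mul, ← map_mul, ← map_mul, ← wS_eq3]
    have cl : (n * u * n⁻¹) * y = y * (n * u * n⁻¹) := by
      calc (n * u * n⁻¹) * y = n * u * n⁻¹ * (n * y' * n⁻¹) := by rw [e2]
        _ = n * (u * y') * n⁻¹ := by group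
        _ = n * (y' * u) * n⁻¹ := by rw [cu]
        _ = (n * y' * n⁻¹) * (n * u * n⁻¹) := by group
        _ = y * (n * u * n⁻¹) := by rw [e2]
    have cn : n * y = y * n := by
      calc n * y = (u * ((n * u * n⁻¹) * u)) * y := by rw [← hnu]
        _ = u * ((n * u * n⁻¹) * (u * y)) := by group
        _ = u * (((n * u * n⁻¹) * y) * u) := by rw [cu']; group
        _ = (u * y) * ((n * u * n⁻¹) * u) := by rw [cl]; group
        _ = y * (u * ((n * u * n⁻¹) * u)) := by rw [cu']; group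
        _ = y * n := by rw [← hnu]
    have e3 : n * y * n⁻¹ = y := by rw [cn]; group
    rw [e1] at e3
    have k5 : y ∈ X φ β ⊓ X φ γ := ⟨hy, e3 ▸ hy'⟩
    rw [X_inf_X R ((mem_rts cs).2 rβ) ((mem_rts cs).2 rγ) hne, Subgroup.mem_bot] at k5
    exact hy1 k5
  have e4 : ⁅u, y⁆ = y' := two_of hF hφ rγ wγ hc hy' hc1 hy1'
  have e5 : u * y * u⁻¹ = y' * y := by
    rw [← e4, commutatorElement_def]; group
  have e6 : u⁻¹ * (y * y') * u = y := by
    rw [cy, ← e5]; group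
  refine ⟨wS 1 * (up 1)⁻¹, ?_⟩
  rw [map_mul, map_inv, ← hu', ← hn']
  have e7 : n * u⁻¹ * (y * y') * (n * u⁻¹)⁻¹ = n * (u⁻¹ * (y * y') * u) * n⁻¹ := by group
  rw [e7, e6]
  exact k1

/-! ### Root elements -/

theorem card_U : Nat.card (RGD.Sup (X φ) (RGD.Pos cs RGDTwE6.isCartan)) = 2 ^ 36 := by
  have h1 : RGD.Pos cs RGDTwE6.isCartan = ((prt.toFinset : Finset (Fin 4 → ℤ)) : Set (Fin 4 → ℤ)) := by
    ext x
    rw [Finset.mem_coe, List.mem_toFinset]
    exact mem_prt.symm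
  rw [h1, card_Sup hF hφ (fun x hx => List.mem_toFinset.1 hx) (by rw [← h1]; exact closed_pos)]
  have h2 : ∏ x ∈ prt.toFinset, wgt x = 2 ^ 36 := by decide +kernel
  exact h2

theorem sq_of {x : Fin 4 → ℤ} (hx : x ∈ rts) (hw : wgt x = 2) {a : KK F} (ha : a ∈ X φ x) : a * a = 1 := by
  have h1 := card_X hF hφ ((mem_rts cs).2 hx)
  rw [hw] at h1
  have h2 : (⟨a, ha⟩ : X φ x) ^ Nat.card (X φ x) = 1 := pow_card_eq_one'
  rw [h1, pow_two] at h2
  exact congrArg Subtype.val h2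

/-- the unipotent subgroup centralises `X_θ` -/
theorem U_le_cent {t : KK F} (ht : t ∈ X φ th) :
    RGD.Sup (X φ) (RGD.Pos cs RGDTwE6.isCartan) ≤ centralizer ({t} : Set (KK F)) := by
  refine RGD.Sup_le fun x hx => ?_
  have hx' := mem_prt.2 hx
  intro a ha
  rw [Subgroup.mem_centralizer_singleton_iff]
  exact comm_long hF hφ (prt_a x hx').1 (prt_a _ th_rts.1).1 th_rts.2.2 (tab_th x hx') ha ht

/-- **conjugates of elements of `X_θ` are root elements** -/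
theorem re_of {x z : KK F} (h : x * z * x⁻¹ ∈ X φ th) (h1 : z ≠ 1) : RE z := by
  have := finite_WF
  have hfin : Finite (KK F) := by
    have : Finite (Matrix chevE6.Idx chevE6.Idx F) := inferInstance
    have : Finite (GL chevE6.Idx F) := inferInstance
    infer_instance
  refine ⟨h1, ?_, ?_⟩
  · have h2 := sq_of hF hφ (prt_a _ th_rts.1).1 th_rts.2.1 h
    calc z * z = x⁻¹ * ((x * z * x⁻¹) * (x * z * x⁻¹)) * x := by group
      _ = 1 := by rw [h2]; group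
  · have h2 : (RGD.Sup (X φ) (RGD.Pos cs RGDTwE6.isCartan)).map (MulAut.conj x⁻¹).toMonoidHom ≤
        centralizer ({z} : Set (KK F)) := by
      rintro _ ⟨u, hu, rfl⟩
      have h3 := Subgroup.mem_centralizer_singleton_iff.1 (U_le_cent hF hφ h hu)
      rw [Subgroup.mem_centralizer_singleton_iff]
      change x⁻¹ * u * x⁻¹⁻¹ * z = z * (x⁻¹ * u * x⁻¹⁻¹)
      calc x⁻¹ * u * x⁻¹⁻¹ * z = x⁻¹ * (u * (x * z * x⁻¹)) * x := by group
        _ = x⁻¹ * ((x * z * x⁻¹) * u) * x := by rw [h3]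
        _ = z * (x⁻¹ * u * x⁻¹⁻¹) := by group
    have h3 : Nat.card ((RGD.Sup (X φ) (RGD.Pos cs RGDTwE6.isCartan)).map (MulAut.conj x⁻¹).toMonoidHom) = 2 ^ 36 := by
      rw [← card_U hF hφ]
      exact (Nat.card_congr ((RGD.Sup (X φ) (RGD.Pos cs RGDTwE6.isCartan)).equivMapOfInjective _
        (MulAut.conj x⁻¹).injective).toEquiv).symm
    rw [← h3]
    exact Subgroup.card_dvd_of_le h2

/-! ### The group `⟨X_1242, X_1342, X_2342⟩` -/

end

end Cfsg.Agent.H150.QF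

private theorem dce_2642d3cde071 : _root_.True := by
  try have : _root_.True := by simp only [_root_.Cfsg.Agent.H150.QF.Pn.congr_simp]
  exact _root_.True.intro
end
end
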